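import Cfsg.Agent.CosetEnum.Fi24H.EdgeDefs

set_option autoImplicit false
set_option maxRecDepth 100000
set_option Elab.async false

/-! edges, part 1 (generated certificate). -/

namespace CfsgLib.CosetEnum.Fi24H

noncomputable section

theorem edges15 : allR (Wide.edgeEntry 306936 12 E par wd 274 285) 11 30720 = true := by decide +kernel

theorem edges16 : allR (Wide.edgeEntry 306936 12 E par wd 274 285) 11 32768 = true := by decide +kernel

theorem edges17 : allR (Wide.edgeEntry 306936 12 E par wd 274 285) 11 34816 = true := by decide +kernel

theorem edges18 : allR (Wide.edgeEntry 306936 12 E par wd 274 285) 11 36864 = true := by decide +kernel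

theorem edges19 : allR (Wide.edgeEntry 306936 12 E par wd 274 285) 11 38912 = true := by decide +kernel

theorem edges20 : allR (Wide.edgeEntry 306936 12 E par wd 274 285) 11 40960 = true := by decide +kernel

theorem edges21 : allR (Wide.edgeEntry 306936 12 E par wd 274 285) 11 43008 = true := by decide +kernel

theorem edges22 : allR (Wide.edgeEntry 306936 12 E par wd 274 285) 11 45056 = true := by decide +kernel

theorem edges23 : allR (Wide.edgeEntry 306936 12 E par wd 274 285) 11 47104 = true := by decide +kernel

theorem edges24 : allR (Wide.edgeEntry 306936 12 E par wd 274 285) 11 49152 = true := by decide +kernel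

theorem edges25 : allR (Wide.edgeEntry 306936 12 E par wd 274 285) 11 51200 = true := by decide +kernel

theorem edges26 : allR (Wide.edgeEntry 306936 12 E par wd 274 285) 11 53248 = true := by decide +kernel

theorem edges27 : allR (Wide.edgeEntry 306936 12 E par wd 274 285) 11 55296 = true := by decide +kernel

theorem edges28 : allR (Wide.edgeEntry 306936 12 E par wd 274 285) 11 57344 = true := by decide +kernel

theorem edges29 : allR (Wide.edgeEntry 306936 12 E par wd 274 285) 11 59392 = true := by decide +kernel

theorem edges_on1 : Wide.On (Wide.edgeEntry 306936 12 E par wd 274 285) 30720 61440 :=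
  ((((((((((((((Wide.On.of_allR edges15).append (Wide.On.of_allR edges16)).append (Wide.On.of_allR edges17)).append (Wide.On.of_allR edges18)).append (Wide.On.of_allR edges19)).append (Wide.On.of_allR edges20)).append (Wide.On.of_allR edges21)).append (Wide.On.of_allR edges22)).append (Wide.On.of_allR edges23)).append (Wide.On.of_allR edges24)).append (Wide.On.of_allR edges25)).append (Wide.On.of_allR edges26)).append (Wide.On.of_allR edges27)).append (Wide.On.of_allR edges28)).append (Wide.On.of_allR edges29)

end

end CfsgLib.CosetEnum.Fi24H
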