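import Cfsg.Agent.CosetEnum.Fi24H.EdgeDefs

set_option autoImplicit false
set_option maxRecDepth 100000
set_option Elab.async false

/-! edges, part 2 (generated certificate). -/

namespace CfsgLib.CosetEnum.Fi24H

noncomputable section

theorem edges30 : allR (Wide.edgeEntry 306936 12 E par wd 274 285) 11 61440 = true := by decide +kernel

theorem edges31 : allR (Wide.edgeEntry 306936 12 E par wd 274 285) 11 63488 = true := by decide +kernel

theorem edges32 : allR (Wide.edgeEntry 306936 12 E par wd 274 285) 11 65536 = true := by decide +kernel

theorem edges33 : allR (Wide.edgeEntry 306936 12 E par wd 274 285) 11 67584 = true := by decide +kernel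

theorem edges34 : allR (Wide.edgeEntry 306936 12 E par wd 274 285) 11 69632 = true := by decide +kernel

theorem edges35 : allR (Wide.edgeEntry 306936 12 E par wd 274 285) 11 71680 = true := by decide +kernel

theorem edges36 : allR (Wide.edgeEntry 306936 12 E par wd 274 285) 11 73728 = true := by decide +kernel

theorem edges37 : allR (Wide.edgeEntry 306936 12 E par wd 274 285) 11 75776 = true := by decide +kernel

theorem edges38 : allR (Wide.edgeEntry 306936 12 E par wd 274 285) 11 77824 = true := by decide +kernel

theorem edges39 : allR (Wide.edgeEntry 306936 12 E par wd 274 285) 11 79872 = true := by decide +kernel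

theorem edges40 : allR (Wide.edgeEntry 306936 12 E par wd 274 285) 11 81920 = true := by decide +kernel

theorem edges41 : allR (Wide.edgeEntry 306936 12 E par wd 274 285) 11 83968 = true := by decide +kernel

theorem edges42 : allR (Wide.edgeEntry 306936 12 E par wd 274 285) 11 86016 = true := by decide +kernel

theorem edges43 : allR (Wide.edgeEntry 306936 12 E par wd 274 285) 11 88064 = true := by decide +kernel

theorem edges44 : allR (Wide.edgeEntry 306936 12 E par wd 274 285) 11 90112 = true := by decide +kernel

theorem edges_on2 : Wide.On (Wide.edgeEntry 306936 12 E par wd 274 285) 61440 92160 :=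
  ((((((((((((((Wide.On.of_allR edges30).append (Wide.On.of_allR edges31)).append (Wide.On.of_allR edges32)).append (Wide.On.of_allR edges33)).append (Wide.On.of_allR edges34)).append (Wide.On.of_allR edges35)).append (Wide.On.of_allR edges36)).append (Wide.On.of_allR edges37)).append (Wide.On.of_allR edges38)).append (Wide.On.of_allR edges39)).append (Wide.On.of_allR edges40)).append (Wide.On.of_allR edges41)).append (Wide.On.of_allR edges42)).append (Wide.On.of_allR edges43)).append (Wide.On.of_allR edges44)

end

end CfsgLib.CosetEnum.Fi24H
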