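import Cfsg.Agent.CosetEnum.Fi24H.EdgeDefs

set_option autoImplicit false
set_option maxRecDepth 100000
set_option Elab.async false

/-! edges, part 3 (generated certificate). -/

namespace CfsgLib.CosetEnum.Fi24H

noncomputable section

theorem edges45 : allR (Wide.edgeEntry 306936 12 E par wd 274 285) 11 92160 = true := by decide +kernel

theorem edges46 : allR (Wide.edgeEntry 306936 12 E par wd 274 285) 11 94208 = true := by decide +kernel

theorem edges47 : allR (Wide.edgeEntry 306936 12 E par wd 274 285) 11 96256 = true := by decide +kernel

theorem edges48 : allR (Wide.edgeEntry 306936 12 E par wd 274 285) 11 98304 = true := by decide +kernel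

theorem edges49 : allR (Wide.edgeEntry 306936 12 E par wd 274 285) 11 100352 = true := by decide +kernel

theorem edges50 : allR (Wide.edgeEntry 306936 12 E par wd 274 285) 11 102400 = true := by decide +kernel

theorem edges51 : allR (Wide.edgeEntry 306936 12 E par wd 274 285) 11 104448 = true := by decide +kernel

theorem edges52 : allR (Wide.edgeEntry 306936 12 E par wd 274 285) 11 106496 = true := by decide +kernel

theorem edges53 : allR (Wide.edgeEntry 306936 12 E par wd 274 285) 11 108544 = true := by decide +kernel

theorem edges54 : allR (Wide.edgeEntry 306936 12 E par wd 274 285) 11 110592 = true := by decide +kernel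

theorem edges55 : allR (Wide.edgeEntry 306936 12 E par wd 274 285) 11 112640 = true := by decide +kernel

theorem edges56 : allR (Wide.edgeEntry 306936 12 E par wd 274 285) 11 114688 = true := by decide +kernel

theorem edges57 : allR (Wide.edgeEntry 306936 12 E par wd 274 285) 11 116736 = true := by decide +kernel

theorem edges58 : allR (Wide.edgeEntry 306936 12 E par wd 274 285) 11 118784 = true := by decide +kernel

theorem edges59 : allR (Wide.edgeEntry 306936 12 E par wd 274 285) 11 120832 = true := by decide +kernel

theorem edges_on3 : Wide.On (Wide.edgeEntry 306936 12 E par wd 274 285) 92160 122880 :=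
  ((((((((((((((Wide.On.of_allR edges45).append (Wide.On.of_allR edges46)).append (Wide.On.of_allR edges47)).append (Wide.On.of_allR edges48)).append (Wide.On.of_allR edges49)).append (Wide.On.of_allR edges50)).append (Wide.On.of_allR edges51)).append (Wide.On.of_allR edges52)).append (Wide.On.of_allR edges53)).append (Wide.On.of_allR edges54)).append (Wide.On.of_allR edges55)).append (Wide.On.of_allR edges56)).append (Wide.On.of_allR edges57)).append (Wide.On.of_allR edges58)).append (Wide.On.of_allR edges59)

end

end CfsgLib.CosetEnum.Fi24H
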