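import Cfsg.Agent.CosetEnum.Fi24H.EdgeDefs

set_option autoImplicit false
set_option maxRecDepth 100000
set_option Elab.async false

/-! edges, part 4 (generated certificate). -/

namespace CfsgLib.CosetEnum.Fi24H

noncomputable section

theorem edges60 : allR (Wide.edgeEntry 306936 12 E par wd 274 285) 11 122880 = true := by decide +kernel

theorem edges61 : allR (Wide.edgeEntry 306936 12 E par wd 274 285) 11 124928 = true := by decide +kernel

theorem edges62 : allR (Wide.edgeEntry 306936 12 E par wd 274 285) 11 126976 = true := by decide +kernel

theorem edges63 : allR (Wide.edgeEntry 306936 12 E par wd 274 285) 11 129024 = true := by decide +kernel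

theorem edges64 : allR (Wide.edgeEntry 306936 12 E par wd 274 285) 11 131072 = true := by decide +kernel

theorem edges65 : allR (Wide.edgeEntry 306936 12 E par wd 274 285) 11 133120 = true := by decide +kernel

theorem edges66 : allR (Wide.edgeEntry 306936 12 E par wd 274 285) 11 135168 = true := by decide +kernel

theorem edges67 : allR (Wide.edgeEntry 306936 12 E par wd 274 285) 11 137216 = true := by decide +kernel

theorem edges68 : allR (Wide.edgeEntry 306936 12 E par wd 274 285) 11 139264 = true := by decide +kernel

theorem edges69 : allR (Wide.edgeEntry 306936 12 E par wd 274 285) 11 141312 = true := by decide +kernel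

theorem edges70 : allR (Wide.edgeEntry 306936 12 E par wd 274 285) 11 143360 = true := by decide +kernel

theorem edges71 : allR (Wide.edgeEntry 306936 12 E par wd 274 285) 11 145408 = true := by decide +kernel

theorem edges72 : allR (Wide.edgeEntry 306936 12 E par wd 274 285) 11 147456 = true := by decide +kernel

theorem edges73 : allR (Wide.edgeEntry 306936 12 E par wd 274 285) 11 149504 = true := by decide +kernel

theorem edges74 : allR (Wide.edgeEntry 306936 12 E par wd 274 285) 11 151552 = true := by decide +kernel

theorem edges_on4 : Wide.On (Wide.edgeEntry 306936 12 E par wd 274 285) 122880 153600 :=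
  ((((((((((((((Wide.On.of_allR edges60).append (Wide.On.of_allR edges61)).append (Wide.On.of_allR edges62)).append (Wide.On.of_allR edges63)).append (Wide.On.of_allR edges64)).append (Wide.On.of_allR edges65)).append (Wide.On.of_allR edges66)).append (Wide.On.of_allR edges67)).append (Wide.On.of_allR edges68)).append (Wide.On.of_allR edges69)).append (Wide.On.of_allR edges70)).append (Wide.On.of_allR edges71)).append (Wide.On.of_allR edges72)).append (Wide.On.of_allR edges73)).append (Wide.On.of_allR edges74)

end

end CfsgLib.CosetEnum.Fi24H
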