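import Cfsg.Agent.CosetEnum.Fi24H.EdgeDefs

set_option autoImplicit false
set_option maxRecDepth 100000
set_option Elab.async false

/-! edges, part 5 (generated certificate). -/

namespace CfsgLib.CosetEnum.Fi24H

noncomputable section

theorem edges75 : allR (Wide.edgeEntry 306936 12 E par wd 274 285) 11 153600 = true := by decide +kernel

theorem edges76 : allR (Wide.edgeEntry 306936 12 E par wd 274 285) 11 155648 = true := by decide +kernel

theorem edges77 : allR (Wide.edgeEntry 306936 12 E par wd 274 285) 11 157696 = true := by decide +kernel

theorem edges78 : allR (Wide.edgeEntry 306936 12 E par wd 274 285) 11 159744 = true := by decide +kernel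

theorem edges79 : allR (Wide.edgeEntry 306936 12 E par wd 274 285) 11 161792 = true := by decide +kernel

theorem edges80 : allR (Wide.edgeEntry 306936 12 E par wd 274 285) 11 163840 = true := by decide +kernel

theorem edges81 : allR (Wide.edgeEntry 306936 12 E par wd 274 285) 11 165888 = true := by decide +kernel

theorem edges82 : allR (Wide.edgeEntry 306936 12 E par wd 274 285) 11 167936 = true := by decide +kernel

theorem edges83 : allR (Wide.edgeEntry 306936 12 E par wd 274 285) 11 169984 = true := by decide +kernel

theorem edges84 : allR (Wide.edgeEntry 306936 12 E par wd 274 285) 11 172032 = true := by decide +kernel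

theorem edges85 : allR (Wide.edgeEntry 306936 12 E par wd 274 285) 11 174080 = true := by decide +kernel

theorem edges86 : allR (Wide.edgeEntry 306936 12 E par wd 274 285) 11 176128 = true := by decide +kernel

theorem edges87 : allR (Wide.edgeEntry 306936 12 E par wd 274 285) 11 178176 = true := by decide +kernel

theorem edges88 : allR (Wide.edgeEntry 306936 12 E par wd 274 285) 11 180224 = true := by decide +kernel

theorem edges89 : allR (Wide.edgeEntry 306936 12 E par wd 274 285) 11 182272 = true := by decide +kernel

theorem edges_on5 : Wide.On (Wide.edgeEntry 306936 12 E par wd 274 285) 153600 184320 :=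
  ((((((((((((((Wide.On.of_allR edges75).append (Wide.On.of_allR edges76)).append (Wide.On.of_allR edges77)).append (Wide.On.of_allR edges78)).append (Wide.On.of_allR edges79)).append (Wide.On.of_allR edges80)).append (Wide.On.of_allR edges81)).append (Wide.On.of_allR edges82)).append (Wide.On.of_allR edges83)).append (Wide.On.of_allR edges84)).append (Wide.On.of_allR edges85)).append (Wide.On.of_allR edges86)).append (Wide.On.of_allR edges87)).append (Wide.On.of_allR edges88)).append (Wide.On.of_allR edges89)

end

end CfsgLib.CosetEnum.Fi24H
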