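import Cfsg.Agent.CosetEnum.Fi24H.EdgeDefs

set_option autoImplicit false
set_option maxRecDepth 100000
set_option Elab.async false

/-! edges, part 6 (generated certificate). -/

namespace CfsgLib.CosetEnum.Fi24H

noncomputable section

theorem edges90 : allR (Wide.edgeEntry 306936 12 E par wd 274 285) 11 184320 = true := by decide +kernel

theorem edges91 : allR (Wide.edgeEntry 306936 12 E par wd 274 285) 11 186368 = true := by decide +kernel

theorem edges92 : allR (Wide.edgeEntry 306936 12 E par wd 274 285) 11 188416 = true := by decide +kernel

theorem edges93 : allR (Wide.edgeEntry 306936 12 E par wd 274 285) 11 190464 = true := by decide +kernel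

theorem edges94 : allR (Wide.edgeEntry 306936 12 E par wd 274 285) 11 192512 = true := by decide +kernel

theorem edges95 : allR (Wide.edgeEntry 306936 12 E par wd 274 285) 11 194560 = true := by decide +kernel

theorem edges96 : allR (Wide.edgeEntry 306936 12 E par wd 274 285) 11 196608 = true := by decide +kernel

theorem edges97 : allR (Wide.edgeEntry 306936 12 E par wd 274 285) 11 198656 = true := by decide +kernel

theorem edges98 : allR (Wide.edgeEntry 306936 12 E par wd 274 285) 11 200704 = true := by decide +kernel

theorem edges99 : allR (Wide.edgeEntry 306936 12 E par wd 274 285) 11 202752 = true := by decide +kernel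

theorem edges100 : allR (Wide.edgeEntry 306936 12 E par wd 274 285) 11 204800 = true := by decide +kernel

theorem edges101 : allR (Wide.edgeEntry 306936 12 E par wd 274 285) 11 206848 = true := by decide +kernel

theorem edges102 : allR (Wide.edgeEntry 306936 12 E par wd 274 285) 11 208896 = true := by decide +kernel

theorem edges103 : allR (Wide.edgeEntry 306936 12 E par wd 274 285) 11 210944 = true := by decide +kernel

theorem edges104 : allR (Wide.edgeEntry 306936 12 E par wd 274 285) 11 212992 = true := by decide +kernel

theorem edges_on6 : Wide.On (Wide.edgeEntry 306936 12 E par wd 274 285) 184320 215040 :=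
  ((((((((((((((Wide.On.of_allR edges90).append (Wide.On.of_allR edges91)).append (Wide.On.of_allR edges92)).append (Wide.On.of_allR edges93)).append (Wide.On.of_allR edges94)).append (Wide.On.of_allR edges95)).append (Wide.On.of_allR edges96)).append (Wide.On.of_allR edges97)).append (Wide.On.of_allR edges98)).append (Wide.On.of_allR edges99)).append (Wide.On.of_allR edges100)).append (Wide.On.of_allR edges101)).append (Wide.On.of_allR edges102)).append (Wide.On.of_allR edges103)).append (Wide.On.of_allR edges104)

end

end CfsgLib.CosetEnum.Fi24H
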