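import Cfsg.Agent.CosetEnum.Fi24H.EdgeDefs

set_option autoImplicit false
set_option maxRecDepth 100000
set_option Elab.async false

/-! edges, part 7 (generated certificate). -/

namespace CfsgLib.CosetEnum.Fi24H

noncomputable section

theorem edges105 : allR (Wide.edgeEntry 306936 12 E par wd 274 285) 11 215040 = true := by decide +kernel

theorem edges106 : allR (Wide.edgeEntry 306936 12 E par wd 274 285) 11 217088 = true := by decide +kernel

theorem edges107 : allR (Wide.edgeEntry 306936 12 E par wd 274 285) 11 219136 = true := by decide +kernel

theorem edges108 : allR (Wide.edgeEntry 306936 12 E par wd 274 285) 11 221184 = true := by decide +kernel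

theorem edges109 : allR (Wide.edgeEntry 306936 12 E par wd 274 285) 11 223232 = true := by decide +kernel

theorem edges110 : allR (Wide.edgeEntry 306936 12 E par wd 274 285) 11 225280 = true := by decide +kernel

theorem edges111 : allR (Wide.edgeEntry 306936 12 E par wd 274 285) 11 227328 = true := by decide +kernel

theorem edges112 : allR (Wide.edgeEntry 306936 12 E par wd 274 285) 11 229376 = true := by decide +kernel

theorem edges113 : allR (Wide.edgeEntry 306936 12 E par wd 274 285) 11 231424 = true := by decide +kernel

theorem edges114 : allR (Wide.edgeEntry 306936 12 E par wd 274 285) 11 233472 = true := by decide +kernel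

theorem edges115 : allR (Wide.edgeEntry 306936 12 E par wd 274 285) 11 235520 = true := by decide +kernel

theorem edges116 : allR (Wide.edgeEntry 306936 12 E par wd 274 285) 11 237568 = true := by decide +kernel

theorem edges117 : allR (Wide.edgeEntry 306936 12 E par wd 274 285) 11 239616 = true := by decide +kernel

theorem edges118 : allR (Wide.edgeEntry 306936 12 E par wd 274 285) 11 241664 = true := by decide +kernel

theorem edges119 : allR (Wide.edgeEntry 306936 12 E par wd 274 285) 11 243712 = true := by decide +kernel

theorem edges_on7 : Wide.On (Wide.edgeEntry 306936 12 E par wd 274 285) 215040 245760 :=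
  ((((((((((((((Wide.On.of_allR edges105).append (Wide.On.of_allR edges106)).append (Wide.On.of_allR edges107)).append (Wide.On.of_allR edges108)).append (Wide.On.of_allR edges109)).append (Wide.On.of_allR edges110)).append (Wide.On.of_allR edges111)).append (Wide.On.of_allR edges112)).append (Wide.On.of_allR edges113)).append (Wide.On.of_allR edges114)).append (Wide.On.of_allR edges115)).append (Wide.On.of_allR edges116)).append (Wide.On.of_allR edges117)).append (Wide.On.of_allR edges118)).append (Wide.On.of_allR edges119)

end

end CfsgLib.CosetEnum.Fi24H
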