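import Cfsg.Agent.CosetEnum.Fi24H.EdgeDefs

set_option autoImplicit false
set_option maxRecDepth 100000
set_option Elab.async false

/-! edges, part 8 (generated certificate). -/

namespace CfsgLib.CosetEnum.Fi24H

noncomputable section

theorem edges120 : allR (Wide.edgeEntry 306936 12 E par wd 274 285) 11 245760 = true := by decide +kernel

theorem edges121 : allR (Wide.edgeEntry 306936 12 E par wd 274 285) 11 247808 = true := by decide +kernel

theorem edges122 : allR (Wide.edgeEntry 306936 12 E par wd 274 285) 11 249856 = true := by decide +kernel

theorem edges123 : allR (Wide.edgeEntry 306936 12 E par wd 274 285) 11 251904 = true := by decide +kernel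

theorem edges124 : allR (Wide.edgeEntry 306936 12 E par wd 274 285) 11 253952 = true := by decide +kernel

theorem edges125 : allR (Wide.edgeEntry 306936 12 E par wd 274 285) 11 256000 = true := by decide +kernel

theorem edges126 : allR (Wide.edgeEntry 306936 12 E par wd 274 285) 11 258048 = true := by decide +kernel

theorem edges127 : allR (Wide.edgeEntry 306936 12 E par wd 274 285) 11 260096 = true := by decide +kernel

theorem edges128 : allR (Wide.edgeEntry 306936 12 E par wd 274 285) 11 262144 = true := by decide +kernel

theorem edges129 : allR (Wide.edgeEntry 306936 12 E par wd 274 285) 11 264192 = true := by decide +kernel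

theorem edges130 : allR (Wide.edgeEntry 306936 12 E par wd 274 285) 11 266240 = true := by decide +kernel

theorem edges131 : allR (Wide.edgeEntry 306936 12 E par wd 274 285) 11 268288 = true := by decide +kernel

theorem edges132 : allR (Wide.edgeEntry 306936 12 E par wd 274 285) 11 270336 = true := by decide +kernel

theorem edges133 : allR (Wide.edgeEntry 306936 12 E par wd 274 285) 11 272384 = true := by decide +kernel

theorem edges134 : allR (Wide.edgeEntry 306936 12 E par wd 274 285) 11 274432 = true := by decide +kernel

theorem edges_on8 : Wide.On (Wide.edgeEntry 306936 12 E par wd 274 285) 245760 276480 :=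
  ((((((((((((((Wide.On.of_allR edges120).append (Wide.On.of_allR edges121)).append (Wide.On.of_allR edges122)).append (Wide.On.of_allR edges123)).append (Wide.On.of_allR edges124)).append (Wide.On.of_allR edges125)).append (Wide.On.of_allR edges126)).append (Wide.On.of_allR edges127)).append (Wide.On.of_allR edges128)).append (Wide.On.of_allR edges129)).append (Wide.On.of_allR edges130)).append (Wide.On.of_allR edges131)).append (Wide.On.of_allR edges132)).append (Wide.On.of_allR edges133)).append (Wide.On.of_allR edges134)

end

end CfsgLib.CosetEnum.Fi24H
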