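import Cfsg.Agent.CosetEnum.Fi24H.EdgeDefs

set_option autoImplicit false
set_option maxRecDepth 100000
set_option Elab.async false

/-! edges, part 9 (generated certificate). -/

namespace CfsgLib.CosetEnum.Fi24H

noncomputable section

theorem edges135 : allR (Wide.edgeEntry 306936 12 E par wd 274 285) 11 276480 = true := by decide +kernel

theorem edges136 : allR (Wide.edgeEntry 306936 12 E par wd 274 285) 11 278528 = true := by decide +kernel

theorem edges137 : allR (Wide.edgeEntry 306936 12 E par wd 274 285) 11 280576 = true := by decide +kernel

theorem edges138 : allR (Wide.edgeEntry 306936 12 E par wd 274 285) 11 282624 = true := by decide +kernel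

theorem edges139 : allR (Wide.edgeEntry 306936 12 E par wd 274 285) 11 284672 = true := by decide +kernel

theorem edges140 : allR (Wide.edgeEntry 306936 12 E par wd 274 285) 11 286720 = true := by decide +kernel

theorem edges141 : allR (Wide.edgeEntry 306936 12 E par wd 274 285) 11 288768 = true := by decide +kernel

theorem edges142 : allR (Wide.edgeEntry 306936 12 E par wd 274 285) 11 290816 = true := by decide +kernel

theorem edges143 : allR (Wide.edgeEntry 306936 12 E par wd 274 285) 11 292864 = true := by decide +kernel

theorem edges144 : allR (Wide.edgeEntry 306936 12 E par wd 274 285) 11 294912 = true := by decide +kernel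

theorem edges145 : allR (Wide.edgeEntry 306936 12 E par wd 274 285) 11 296960 = true := by decide +kernel

theorem edges146 : allR (Wide.edgeEntry 306936 12 E par wd 274 285) 11 299008 = true := by decide +kernel

theorem edges147 : allR (Wide.edgeEntry 306936 12 E par wd 274 285) 11 301056 = true := by decide +kernel

theorem edges148 : allR (Wide.edgeEntry 306936 12 E par wd 274 285) 11 303104 = true := by decide +kernel

theorem edges149 : allR (Wide.edgeEntry 306936 12 E par wd 274 285) 11 305152 = true := by decide +kernel

theorem edges_on9 : Wide.On (Wide.edgeEntry 306936 12 E par wd 274 285) 276480 307200 :=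
  ((((((((((((((Wide.On.of_allR edges135).append (Wide.On.of_allR edges136)).append (Wide.On.of_allR edges137)).append (Wide.On.of_allR edges138)).append (Wide.On.of_allR edges139)).append (Wide.On.of_allR edges140)).append (Wide.On.of_allR edges141)).append (Wide.On.of_allR edges142)).append (Wide.On.of_allR edges143)).append (Wide.On.of_allR edges144)).append (Wide.On.of_allR edges145)).append (Wide.On.of_allR edges146)).append (Wide.On.of_allR edges147)).append (Wide.On.of_allR edges148)).append (Wide.On.of_allR edges149)

end

end CfsgLib.CosetEnum.Fi24H
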