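import Cfsg.Agent.CosetEnum.Fi24H.Edges0
import Cfsg.Agent.CosetEnum.Fi24H.Edges1
import Cfsg.Agent.CosetEnum.Fi24H.Edges2
import Cfsg.Agent.CosetEnum.Fi24H.Edges3
import Cfsg.Agent.CosetEnum.Fi24H.Edges4
import Cfsg.Agent.CosetEnum.Fi24H.Edges5
import Cfsg.Agent.CosetEnum.Fi24H.Edges6
import Cfsg.Agent.CosetEnum.Fi24H.Edges7
import Cfsg.Agent.CosetEnum.Fi24H.Edges8
import Cfsg.Agent.CosetEnum.Fi24H.Edges9

set_option autoImplicit false
set_option maxRecDepth 100000
set_option Elab.async false

/-! edges (generated certificate). -/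

namespace CfsgLib.CosetEnum.Fi24H

noncomputable section

theorem edges_all : Wide.On (Wide.edgeEntry 306936 12 E par wd 274 285) 0 306936 :=
  fun i hi hn => ((((((((((edges_on0).append edges_on1).append edges_on2).append edges_on3).append edges_on4).append edges_on5).append edges_on6).append edges_on7).append edges_on8).append edges_on9) i hi (by omega)

end

end CfsgLib.CosetEnum.Fi24H
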