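import Cfsg.Agent.CosetEnum.Fi24H.FastFix

set_option autoImplicit false
set_option maxRecDepth 100000
set_option Elab.async false

/-! fix, part 1 (generated certificate). -/

namespace CfsgLib.CosetEnum.Fi24H

noncomputable section

theorem fix12 : allR (fastFix) 11 24576 = true := by decide +kernel

theorem fix13 : allR (fastFix) 11 26624 = true := by decide +kernel

theorem fix14 : allR (fastFix) 11 28672 = true := by decide +kernel

theorem fix15 : allR (fastFix) 11 30720 = true := by decide +kernel

theorem fix16 : allR (fastFix) 11 32768 = true := by decide +kernel

theorem fix17 : allR (fastFix) 11 34816 = true := by decide +kernel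

theorem fix18 : allR (fastFix) 11 36864 = true := by decide +kernel

theorem fix19 : allR (fastFix) 11 38912 = true := by decide +kernel

theorem fix20 : allR (fastFix) 11 40960 = true := by decide +kernel

theorem fix21 : allR (fastFix) 11 43008 = true := by decide +kernel

theorem fix22 : allR (fastFix) 11 45056 = true := by decide +kernel

theorem fix23 : allR (fastFix) 11 47104 = true := by decide +kernel

theorem fix_on1 : Wide.On (fastFix) 24576 49152 :=
  (((((((((((Wide.On.of_allR fix12).append (Wide.On.of_allR fix13)).append (Wide.On.of_allR fix14)).append (Wide.On.of_allR fix15)).append (Wide.On.of_allR fix16)).append (Wide.On.of_allR fix17)).append (Wide.On.of_allR fix18)).append (Wide.On.of_allR fix19)).append (Wide.On.of_allR fix20)).append (Wide.On.of_allR fix21)).append (Wide.On.of_allR fix22)).append (Wide.On.of_allR fix23)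

end

end CfsgLib.CosetEnum.Fi24H
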