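import Cfsg.Agent.CosetEnum.Fi24H.FastFix

set_option autoImplicit false
set_option maxRecDepth 100000
set_option Elab.async false

/-! fix, part 10 (generated certificate). -/

namespace CfsgLib.CosetEnum.Fi24H

noncomputable section

theorem fix120 : allR (fastFix) 11 245760 = true := by decide +kernel

theorem fix121 : allR (fastFix) 11 247808 = true := by decide +kernel

theorem fix122 : allR (fastFix) 11 249856 = true := by decide +kernel

theorem fix123 : allR (fastFix) 11 251904 = true := by decide +kernel

theorem fix124 : allR (fastFix) 11 253952 = true := by decide +kernel

theorem fix125 : allR (fastFix) 11 256000 = true := by decide +kernel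

theorem fix126 : allR (fastFix) 11 258048 = true := by decide +kernel

theorem fix127 : allR (fastFix) 11 260096 = true := by decide +kernel

theorem fix128 : allR (fastFix) 11 262144 = true := by decide +kernel

theorem fix129 : allR (fastFix) 11 264192 = true := by decide +kernel

theorem fix130 : allR (fastFix) 11 266240 = true := by decide +kernel

theorem fix131 : allR (fastFix) 11 268288 = true := by decide +kernel

theorem fix_on10 : Wide.On (fastFix) 245760 270336 :=
  (((((((((((Wide.On.of_allR fix120).append (Wide.On.of_allR fix121)).append (Wide.On.of_allR fix122)).append (Wide.On.of_allR fix123)).append (Wide.On.of_allR fix124)).append (Wide.On.of_allR fix125)).append (Wide.On.of_allR fix126)).append (Wide.On.of_allR fix127)).append (Wide.On.of_allR fix128)).append (Wide.On.of_allR fix129)).append (Wide.On.of_allR fix130)).append (Wide.On.of_allR fix131)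

end

end CfsgLib.CosetEnum.Fi24H
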