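import Cfsg.Agent.CosetEnum.Fi24H.FastFix

set_option autoImplicit false
set_option maxRecDepth 100000
set_option Elab.async false

/-! fix, part 11 (generated certificate). -/

namespace CfsgLib.CosetEnum.Fi24H

noncomputable section

theorem fix132 : allR (fastFix) 11 270336 = true := by decide +kernel

theorem fix133 : allR (fastFix) 11 272384 = true := by decide +kernel

theorem fix134 : allR (fastFix) 11 274432 = true := by decide +kernel

theorem fix135 : allR (fastFix) 11 276480 = true := by decide +kernel

theorem fix136 : allR (fastFix) 11 278528 = true := by decide +kernel

theorem fix137 : allR (fastFix) 11 280576 = true := by decide +kernel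

theorem fix138 : allR (fastFix) 11 282624 = true := by decide +kernel

theorem fix139 : allR (fastFix) 11 284672 = true := by decide +kernel

theorem fix140 : allR (fastFix) 11 286720 = true := by decide +kernel

theorem fix141 : allR (fastFix) 11 288768 = true := by decide +kernel

theorem fix142 : allR (fastFix) 11 290816 = true := by decide +kernel

theorem fix143 : allR (fastFix) 11 292864 = true := by decide +kernel

theorem fix_on11 : Wide.On (fastFix) 270336 294912 :=
  (((((((((((Wide.On.of_allR fix132).append (Wide.On.of_allR fix133)).append (Wide.On.of_allR fix134)).append (Wide.On.of_allR fix135)).append (Wide.On.of_allR fix136)).append (Wide.On.of_allR fix137)).append (Wide.On.of_allR fix138)).append (Wide.On.of_allR fix139)).append (Wide.On.of_allR fix140)).append (Wide.On.of_allR fix141)).append (Wide.On.of_allR fix142)).append (Wide.On.of_allR fix143)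

end

end CfsgLib.CosetEnum.Fi24H
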