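import Cfsg.Agent.CosetEnum.Fi24H.FastFix

set_option autoImplicit false
set_option maxRecDepth 100000
set_option Elab.async false

/-! fix, part 2 (generated certificate). -/

namespace CfsgLib.CosetEnum.Fi24H

noncomputable section

theorem fix24 : allR (fastFix) 11 49152 = true := by decide +kernel

theorem fix25 : allR (fastFix) 11 51200 = true := by decide +kernel

theorem fix26 : allR (fastFix) 11 53248 = true := by decide +kernel

theorem fix27 : allR (fastFix) 11 55296 = true := by decide +kernel

theorem fix28 : allR (fastFix) 11 57344 = true := by decide +kernel

theorem fix29 : allR (fastFix) 11 59392 = true := by decide +kernel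

theorem fix30 : allR (fastFix) 11 61440 = true := by decide +kernel

theorem fix31 : allR (fastFix) 11 63488 = true := by decide +kernel

theorem fix32 : allR (fastFix) 11 65536 = true := by decide +kernel

theorem fix33 : allR (fastFix) 11 67584 = true := by decide +kernel

theorem fix34 : allR (fastFix) 11 69632 = true := by decide +kernel

theorem fix35 : allR (fastFix) 11 71680 = true := by decide +kernel

theorem fix_on2 : Wide.On (fastFix) 49152 73728 :=
  (((((((((((Wide.On.of_allR fix24).append (Wide.On.of_allR fix25)).append (Wide.On.of_allR fix26)).append (Wide.On.of_allR fix27)).append (Wide.On.of_allR fix28)).append (Wide.On.of_allR fix29)).append (Wide.On.of_allR fix30)).append (Wide.On.of_allR fix31)).append (Wide.On.of_allR fix32)).append (Wide.On.of_allR fix33)).append (Wide.On.of_allR fix34)).append (Wide.On.of_allR fix35)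

end

end CfsgLib.CosetEnum.Fi24H
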