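import Cfsg.Agent.CosetEnum.Fi24H.FastFix

set_option autoImplicit false
set_option maxRecDepth 100000
set_option Elab.async false

/-! fix, part 3 (generated certificate). -/

namespace CfsgLib.CosetEnum.Fi24H

noncomputable section

theorem fix36 : allR (fastFix) 11 73728 = true := by decide +kernel

theorem fix37 : allR (fastFix) 11 75776 = true := by decide +kernel

theorem fix38 : allR (fastFix) 11 77824 = true := by decide +kernel

theorem fix39 : allR (fastFix) 11 79872 = true := by decide +kernel

theorem fix40 : allR (fastFix) 11 81920 = true := by decide +kernel

theorem fix41 : allR (fastFix) 11 83968 = true := by decide +kernel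

theorem fix42 : allR (fastFix) 11 86016 = true := by decide +kernel

theorem fix43 : allR (fastFix) 11 88064 = true := by decide +kernel

theorem fix44 : allR (fastFix) 11 90112 = true := by decide +kernel

theorem fix45 : allR (fastFix) 11 92160 = true := by decide +kernel

theorem fix46 : allR (fastFix) 11 94208 = true := by decide +kernel

theorem fix47 : allR (fastFix) 11 96256 = true := by decide +kernel

theorem fix_on3 : Wide.On (fastFix) 73728 98304 :=
  (((((((((((Wide.On.of_allR fix36).append (Wide.On.of_allR fix37)).append (Wide.On.of_allR fix38)).append (Wide.On.of_allR fix39)).append (Wide.On.of_allR fix40)).append (Wide.On.of_allR fix41)).append (Wide.On.of_allR fix42)).append (Wide.On.of_allR fix43)).append (Wide.On.of_allR fix44)).append (Wide.On.of_allR fix45)).append (Wide.On.of_allR fix46)).append (Wide.On.of_allR fix47)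

end

end CfsgLib.CosetEnum.Fi24H
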