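import Cfsg.Agent.CosetEnum.Fi24H.FastFix

set_option autoImplicit false
set_option maxRecDepth 100000
set_option Elab.async false

/-! fix, part 4 (generated certificate). -/

namespace CfsgLib.CosetEnum.Fi24H

noncomputable section

theorem fix48 : allR (fastFix) 11 98304 = true := by decide +kernel

theorem fix49 : allR (fastFix) 11 100352 = true := by decide +kernel

theorem fix50 : allR (fastFix) 11 102400 = true := by decide +kernel

theorem fix51 : allR (fastFix) 11 104448 = true := by decide +kernel

theorem fix52 : allR (fastFix) 11 106496 = true := by decide +kernel

theorem fix53 : allR (fastFix) 11 108544 = true := by decide +kernel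

theorem fix54 : allR (fastFix) 11 110592 = true := by decide +kernel

theorem fix55 : allR (fastFix) 11 112640 = true := by decide +kernel

theorem fix56 : allR (fastFix) 11 114688 = true := by decide +kernel

theorem fix57 : allR (fastFix) 11 116736 = true := by decide +kernel

theorem fix58 : allR (fastFix) 11 118784 = true := by decide +kernel

theorem fix59 : allR (fastFix) 11 120832 = true := by decide +kernel

theorem fix_on4 : Wide.On (fastFix) 98304 122880 :=
  (((((((((((Wide.On.of_allR fix48).append (Wide.On.of_allR fix49)).append (Wide.On.of_allR fix50)).append (Wide.On.of_allR fix51)).append (Wide.On.of_allR fix52)).append (Wide.On.of_allR fix53)).append (Wide.On.of_allR fix54)).append (Wide.On.of_allR fix55)).append (Wide.On.of_allR fix56)).append (Wide.On.of_allR fix57)).append (Wide.On.of_allR fix58)).append (Wide.On.of_allR fix59)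

end

end CfsgLib.CosetEnum.Fi24H
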