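import Cfsg.Agent.CosetEnum.Fi24H.FastFix

set_option autoImplicit false
set_option maxRecDepth 100000
set_option Elab.async false

/-! fix, part 5 (generated certificate). -/

namespace CfsgLib.CosetEnum.Fi24H

noncomputable section

theorem fix60 : allR (fastFix) 11 122880 = true := by decide +kernel

theorem fix61 : allR (fastFix) 11 124928 = true := by decide +kernel

theorem fix62 : allR (fastFix) 11 126976 = true := by decide +kernel

theorem fix63 : allR (fastFix) 11 129024 = true := by decide +kernel

theorem fix64 : allR (fastFix) 11 131072 = true := by decide +kernel

theorem fix65 : allR (fastFix) 11 133120 = true := by decide +kernel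

theorem fix66 : allR (fastFix) 11 135168 = true := by decide +kernel

theorem fix67 : allR (fastFix) 11 137216 = true := by decide +kernel

theorem fix68 : allR (fastFix) 11 139264 = true := by decide +kernel

theorem fix69 : allR (fastFix) 11 141312 = true := by decide +kernel

theorem fix70 : allR (fastFix) 11 143360 = true := by decide +kernel

theorem fix71 : allR (fastFix) 11 145408 = true := by decide +kernel

theorem fix_on5 : Wide.On (fastFix) 122880 147456 :=
  (((((((((((Wide.On.of_allR fix60).append (Wide.On.of_allR fix61)).append (Wide.On.of_allR fix62)).append (Wide.On.of_allR fix63)).append (Wide.On.of_allR fix64)).append (Wide.On.of_allR fix65)).append (Wide.On.of_allR fix66)).append (Wide.On.of_allR fix67)).append (Wide.On.of_allR fix68)).append (Wide.On.of_allR fix69)).append (Wide.On.of_allR fix70)).append (Wide.On.of_allR fix71)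

end

end CfsgLib.CosetEnum.Fi24H
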