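import Cfsg.Agent.CosetEnum.Fi24H.FastFix

set_option autoImplicit false
set_option maxRecDepth 100000
set_option Elab.async false

/-! fix, part 6 (generated certificate). -/

namespace CfsgLib.CosetEnum.Fi24H

noncomputable section

theorem fix72 : allR (fastFix) 11 147456 = true := by decide +kernel

theorem fix73 : allR (fastFix) 11 149504 = true := by decide +kernel

theorem fix74 : allR (fastFix) 11 151552 = true := by decide +kernel

theorem fix75 : allR (fastFix) 11 153600 = true := by decide +kernel

theorem fix76 : allR (fastFix) 11 155648 = true := by decide +kernel

theorem fix77 : allR (fastFix) 11 157696 = true := by decide +kernel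

theorem fix78 : allR (fastFix) 11 159744 = true := by decide +kernel

theorem fix79 : allR (fastFix) 11 161792 = true := by decide +kernel

theorem fix80 : allR (fastFix) 11 163840 = true := by decide +kernel

theorem fix81 : allR (fastFix) 11 165888 = true := by decide +kernel

theorem fix82 : allR (fastFix) 11 167936 = true := by decide +kernel

theorem fix83 : allR (fastFix) 11 169984 = true := by decide +kernel

theorem fix_on6 : Wide.On (fastFix) 147456 172032 :=
  (((((((((((Wide.On.of_allR fix72).append (Wide.On.of_allR fix73)).append (Wide.On.of_allR fix74)).append (Wide.On.of_allR fix75)).append (Wide.On.of_allR fix76)).append (Wide.On.of_allR fix77)).append (Wide.On.of_allR fix78)).append (Wide.On.of_allR fix79)).append (Wide.On.of_allR fix80)).append (Wide.On.of_allR fix81)).append (Wide.On.of_allR fix82)).append (Wide.On.of_allR fix83)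

end

end CfsgLib.CosetEnum.Fi24H
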