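import Cfsg.Agent.CosetEnum.Fi24H.FastFix

set_option autoImplicit false
set_option maxRecDepth 100000
set_option Elab.async false

/-! fix, part 7 (generated certificate). -/

namespace CfsgLib.CosetEnum.Fi24H

noncomputable section

theorem fix84 : allR (fastFix) 11 172032 = true := by decide +kernel

theorem fix85 : allR (fastFix) 11 174080 = true := by decide +kernel

theorem fix86 : allR (fastFix) 11 176128 = true := by decide +kernel

theorem fix87 : allR (fastFix) 11 178176 = true := by decide +kernel

theorem fix88 : allR (fastFix) 11 180224 = true := by decide +kernel

theorem fix89 : allR (fastFix) 11 182272 = true := by decide +kernel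

theorem fix90 : allR (fastFix) 11 184320 = true := by decide +kernel

theorem fix91 : allR (fastFix) 11 186368 = true := by decide +kernel

theorem fix92 : allR (fastFix) 11 188416 = true := by decide +kernel

theorem fix93 : allR (fastFix) 11 190464 = true := by decide +kernel

theorem fix94 : allR (fastFix) 11 192512 = true := by decide +kernel

theorem fix95 : allR (fastFix) 11 194560 = true := by decide +kernel

theorem fix_on7 : Wide.On (fastFix) 172032 196608 :=
  (((((((((((Wide.On.of_allR fix84).append (Wide.On.of_allR fix85)).append (Wide.On.of_allR fix86)).append (Wide.On.of_allR fix87)).append (Wide.On.of_allR fix88)).append (Wide.On.of_allR fix89)).append (Wide.On.of_allR fix90)).append (Wide.On.of_allR fix91)).append (Wide.On.of_allR fix92)).append (Wide.On.of_allR fix93)).append (Wide.On.of_allR fix94)).append (Wide.On.of_allR fix95)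

end

end CfsgLib.CosetEnum.Fi24H
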