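import Cfsg.Agent.CosetEnum.Fi24H.FastFix

set_option autoImplicit false
set_option maxRecDepth 100000
set_option Elab.async false

/-! fix, part 8 (generated certificate). -/

namespace CfsgLib.CosetEnum.Fi24H

noncomputable section

theorem fix96 : allR (fastFix) 11 196608 = true := by decide +kernel

theorem fix97 : allR (fastFix) 11 198656 = true := by decide +kernel

theorem fix98 : allR (fastFix) 11 200704 = true := by decide +kernel

theorem fix99 : allR (fastFix) 11 202752 = true := by decide +kernel

theorem fix100 : allR (fastFix) 11 204800 = true := by decide +kernel

theorem fix101 : allR (fastFix) 11 206848 = true := by decide +kernel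

theorem fix102 : allR (fastFix) 11 208896 = true := by decide +kernel

theorem fix103 : allR (fastFix) 11 210944 = true := by decide +kernel

theorem fix104 : allR (fastFix) 11 212992 = true := by decide +kernel

theorem fix105 : allR (fastFix) 11 215040 = true := by decide +kernel

theorem fix106 : allR (fastFix) 11 217088 = true := by decide +kernel

theorem fix107 : allR (fastFix) 11 219136 = true := by decide +kernel

theorem fix_on8 : Wide.On (fastFix) 196608 221184 :=
  (((((((((((Wide.On.of_allR fix96).append (Wide.On.of_allR fix97)).append (Wide.On.of_allR fix98)).append (Wide.On.of_allR fix99)).append (Wide.On.of_allR fix100)).append (Wide.On.of_allR fix101)).append (Wide.On.of_allR fix102)).append (Wide.On.of_allR fix103)).append (Wide.On.of_allR fix104)).append (Wide.On.of_allR fix105)).append (Wide.On.of_allR fix106)).append (Wide.On.of_allR fix107)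

end

end CfsgLib.CosetEnum.Fi24H
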