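import Cfsg.Agent.CosetEnum.Fi24H.FastFix

set_option autoImplicit false
set_option maxRecDepth 100000
set_option Elab.async false

/-! fix, part 9 (generated certificate). -/

namespace CfsgLib.CosetEnum.Fi24H

noncomputable section

theorem fix108 : allR (fastFix) 11 221184 = true := by decide +kernel

theorem fix109 : allR (fastFix) 11 223232 = true := by decide +kernel

theorem fix110 : allR (fastFix) 11 225280 = true := by decide +kernel

theorem fix111 : allR (fastFix) 11 227328 = true := by decide +kernel

theorem fix112 : allR (fastFix) 11 229376 = true := by decide +kernel

theorem fix113 : allR (fastFix) 11 231424 = true := by decide +kernel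

theorem fix114 : allR (fastFix) 11 233472 = true := by decide +kernel

theorem fix115 : allR (fastFix) 11 235520 = true := by decide +kernel

theorem fix116 : allR (fastFix) 11 237568 = true := by decide +kernel

theorem fix117 : allR (fastFix) 11 239616 = true := by decide +kernel

theorem fix118 : allR (fastFix) 11 241664 = true := by decide +kernel

theorem fix119 : allR (fastFix) 11 243712 = true := by decide +kernel

theorem fix_on9 : Wide.On (fastFix) 221184 245760 :=
  (((((((((((Wide.On.of_allR fix108).append (Wide.On.of_allR fix109)).append (Wide.On.of_allR fix110)).append (Wide.On.of_allR fix111)).append (Wide.On.of_allR fix112)).append (Wide.On.of_allR fix113)).append (Wide.On.of_allR fix114)).append (Wide.On.of_allR fix115)).append (Wide.On.of_allR fix116)).append (Wide.On.of_allR fix117)).append (Wide.On.of_allR fix118)).append (Wide.On.of_allR fix119)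

end

end CfsgLib.CosetEnum.Fi24H
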