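import Cfsg.Agent.CosetEnum.Fi24H.Fix0
import Cfsg.Agent.CosetEnum.Fi24H.Fix1
import Cfsg.Agent.CosetEnum.Fi24H.Fix2
import Cfsg.Agent.CosetEnum.Fi24H.Fix3
import Cfsg.Agent.CosetEnum.Fi24H.Fix4
import Cfsg.Agent.CosetEnum.Fi24H.Fix5
import Cfsg.Agent.CosetEnum.Fi24H.Fix6
import Cfsg.Agent.CosetEnum.Fi24H.Fix7
import Cfsg.Agent.CosetEnum.Fi24H.Fix8
import Cfsg.Agent.CosetEnum.Fi24H.Fix9
import Cfsg.Agent.CosetEnum.Fi24H.Fix10
import Cfsg.Agent.CosetEnum.Fi24H.Fix11
import Cfsg.Agent.CosetEnum.Fi24H.Fix12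

set_option autoImplicit false
set_option maxRecDepth 100000
set_option Elab.async false

/-! fix (generated certificate). -/

namespace CfsgLib.CosetEnum.Fi24H

noncomputable section

theorem fix_all : Wide.On (fastFix) 0 306936 :=
  fun i hi hn => (((((((((((((fix_on0).append fix_on1).append fix_on2).append fix_on3).append fix_on4).append fix_on5).append fix_on6).append fix_on7).append fix_on8).append fix_on9).append fix_on10).append fix_on11).append fix_on12) i hi (by omega)

end

end CfsgLib.CosetEnum.Fi24H
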