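import Cfsg.Agent.CosetEnum.Fi24H.Table

set_option autoImplicit false
set_option maxRecDepth 100000
set_option Elab.async false

/-! tree, part 1 (generated certificate). -/

namespace CfsgLib.CosetEnum.Fi24H

noncomputable section

theorem tree50 : allR (Wide.treeOK 306936 12 E par) 11 102400 = true := by decide +kernel

theorem tree51 : allR (Wide.treeOK 306936 12 E par) 11 104448 = true := by decide +kernel

theorem tree52 : allR (Wide.treeOK 306936 12 E par) 11 106496 = true := by decide +kernel

theorem tree53 : allR (Wide.treeOK 306936 12 E par) 11 108544 = true := by decide +kernel

theorem tree54 : allR (Wide.treeOK 306936 12 E par) 11 110592 = true := by decide +kernel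

theorem tree55 : allR (Wide.treeOK 306936 12 E par) 11 112640 = true := by decide +kernel

theorem tree56 : allR (Wide.treeOK 306936 12 E par) 11 114688 = true := by decide +kernel

theorem tree57 : allR (Wide.treeOK 306936 12 E par) 11 116736 = true := by decide +kernel

theorem tree58 : allR (Wide.treeOK 306936 12 E par) 11 118784 = true := by decide +kernel

theorem tree59 : allR (Wide.treeOK 306936 12 E par) 11 120832 = true := by decide +kernel

theorem tree60 : allR (Wide.treeOK 306936 12 E par) 11 122880 = true := by decide +kernel

theorem tree61 : allR (Wide.treeOK 306936 12 E par) 11 124928 = true := by decide +kernel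

theorem tree62 : allR (Wide.treeOK 306936 12 E par) 11 126976 = true := by decide +kernel

theorem tree63 : allR (Wide.treeOK 306936 12 E par) 11 129024 = true := by decide +kernel

theorem tree64 : allR (Wide.treeOK 306936 12 E par) 11 131072 = true := by decide +kernel

theorem tree65 : allR (Wide.treeOK 306936 12 E par) 11 133120 = true := by decide +kernel

theorem tree66 : allR (Wide.treeOK 306936 12 E par) 11 135168 = true := by decide +kernel

theorem tree67 : allR (Wide.treeOK 306936 12 E par) 11 137216 = true := by decide +kernel

theorem tree68 : allR (Wide.treeOK 306936 12 E par) 11 139264 = true := by decide +kernel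

theorem tree69 : allR (Wide.treeOK 306936 12 E par) 11 141312 = true := by decide +kernel

theorem tree70 : allR (Wide.treeOK 306936 12 E par) 11 143360 = true := by decide +kernel

theorem tree71 : allR (Wide.treeOK 306936 12 E par) 11 145408 = true := by decide +kernel

theorem tree72 : allR (Wide.treeOK 306936 12 E par) 11 147456 = true := by decide +kernel

theorem tree73 : allR (Wide.treeOK 306936 12 E par) 11 149504 = true := by decide +kernel

theorem tree74 : allR (Wide.treeOK 306936 12 E par) 11 151552 = true := by decide +kernel

theorem tree75 : allR (Wide.treeOK 306936 12 E par) 11 153600 = true := by decide +kernel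

theorem tree76 : allR (Wide.treeOK 306936 12 E par) 11 155648 = true := by decide +kernel

theorem tree77 : allR (Wide.treeOK 306936 12 E par) 11 157696 = true := by decide +kernel

theorem tree78 : allR (Wide.treeOK 306936 12 E par) 11 159744 = true := by decide +kernel

theorem tree79 : allR (Wide.treeOK 306936 12 E par) 11 161792 = true := by decide +kernel

theorem tree80 : allR (Wide.treeOK 306936 12 E par) 11 163840 = true := by decide +kernel

theorem tree81 : allR (Wide.treeOK 306936 12 E par) 11 165888 = true := by decide +kernel

theorem tree82 : allR (Wide.treeOK 306936 12 E par) 11 167936 = true := by decide +kernel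

theorem tree83 : allR (Wide.treeOK 306936 12 E par) 11 169984 = true := by decide +kernel

theorem tree84 : allR (Wide.treeOK 306936 12 E par) 11 172032 = true := by decide +kernel

theorem tree85 : allR (Wide.treeOK 306936 12 E par) 11 174080 = true := by decide +kernel

theorem tree86 : allR (Wide.treeOK 306936 12 E par) 11 176128 = true := by decide +kernel

theorem tree87 : allR (Wide.treeOK 306936 12 E par) 11 178176 = true := by decide +kernel

theorem tree88 : allR (Wide.treeOK 306936 12 E par) 11 180224 = true := by decide +kernel

theorem tree89 : allR (Wide.treeOK 306936 12 E par) 11 182272 = true := by decide +kernel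

theorem tree90 : allR (Wide.treeOK 306936 12 E par) 11 184320 = true := by decide +kernel

theorem tree91 : allR (Wide.treeOK 306936 12 E par) 11 186368 = true := by decide +kernel

theorem tree92 : allR (Wide.treeOK 306936 12 E par) 11 188416 = true := by decide +kernel

theorem tree93 : allR (Wide.treeOK 306936 12 E par) 11 190464 = true := by decide +kernel

theorem tree94 : allR (Wide.treeOK 306936 12 E par) 11 192512 = true := by decide +kernel

theorem tree95 : allR (Wide.treeOK 306936 12 E par) 11 194560 = true := by decide +kernel

theorem tree96 : allR (Wide.treeOK 306936 12 E par) 11 196608 = true := by decide +kernel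

theorem tree97 : allR (Wide.treeOK 306936 12 E par) 11 198656 = true := by decide +kernel

theorem tree98 : allR (Wide.treeOK 306936 12 E par) 11 200704 = true := by decide +kernel

theorem tree99 : allR (Wide.treeOK 306936 12 E par) 11 202752 = true := by decide +kernel

theorem tree_on1 : Wide.On (Wide.treeOK 306936 12 E par) 102400 204800 :=
  (((((((((((((((((((((((((((((((((((((((((((((((((Wide.On.of_allR tree50).append (Wide.On.of_allR tree51)).append (Wide.On.of_allR tree52)).append (Wide.On.of_allR tree53)).append (Wide.On.of_allR tree54)).append (Wide.On.of_allR tree55)).append (Wide.On.of_allR tree56)).append (Wide.On.of_allR tree57)).append (Wide.On.of_allR tree58)).append (Wide.On.of_allR tree59)).append (Wide.On.of_allR tree60)).append (Wide.On.of_allR tree61)).append (Wide.On.of_allR tree62)).append (Wide.On.of_allR tree63)).append (Wide.On.of_allR tree64)).append (Wide.On.of_allR tree65)).append (Wide.On.of_allR tree66)).append (Wide.On.of_allR tree67)).append (Wide.On.of_allR tree68)).append (Wide.On.of_allR tree69)).append (Wide.On.of_allR tree70)).append (Wide.On.of_allR tree71)).append (Wide.On.of_allR tree72)).append (Wide.On.of_allR tree73)).append (Wide.On.of_allR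 tree74)).append (Wide.On.of_allR tree75)).append (Wide.On.of_allR tree76)).append (Wide.On.of_allR tree77)).append (Wide.On.of_allR tree78)).append (Wide.On.of_allR tree79)).append (Wide.On.of_allR tree80)).append (Wide.On.of_allR tree81)).append (Wide.On.of_allR tree82)).append (Wide.On.of_allR tree83)).append (Wide.On.of_allR tree84)).append (Wide.On.of_allR tree85)).append (Wide.On.of_allR tree86)).append (Wide.On.of_allR tree87)).append (Wide.On.of_allR tree88)).append (Wide.On.of_allR tree89)).append (Wide.On.of_allR tree90)).append (Wide.On.of_allR tree91)).append (Wide.On.of_allR tree92)).append (Wide.On.of_allR tree93)).append (Wide.On.of_allR tree94)).append (Wide.On.of_allR tree95)).append (Wide.On.of_allR tree96)).append (Wide.On.of_allR tree97)).append (Wide.On.of_allR tree98)).append (Wide.On.of_allR tree99)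

end

end CfsgLib.CosetEnum.Fi24H
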