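import Cfsg.Agent.CosetEnum.Fi24H.Table

set_option autoImplicit false
set_option maxRecDepth 100000
set_option Elab.async false

/-! tree, part 2 (generated certificate). -/

namespace CfsgLib.CosetEnum.Fi24H

noncomputable section

theorem tree100 : allR (Wide.treeOK 306936 12 E par) 11 204800 = true := by decide +kernel

theorem tree101 : allR (Wide.treeOK 306936 12 E par) 11 206848 = true := by decide +kernel

theorem tree102 : allR (Wide.treeOK 306936 12 E par) 11 208896 = true := by decide +kernel

theorem tree103 : allR (Wide.treeOK 306936 12 E par) 11 210944 = true := by decide +kernel

theorem tree104 : allR (Wide.treeOK 306936 12 E par) 11 212992 = true := by decide +kernel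

theorem tree105 : allR (Wide.treeOK 306936 12 E par) 11 215040 = true := by decide +kernel

theorem tree106 : allR (Wide.treeOK 306936 12 E par) 11 217088 = true := by decide +kernel

theorem tree107 : allR (Wide.treeOK 306936 12 E par) 11 219136 = true := by decide +kernel

theorem tree108 : allR (Wide.treeOK 306936 12 E par) 11 221184 = true := by decide +kernel

theorem tree109 : allR (Wide.treeOK 306936 12 E par) 11 223232 = true := by decide +kernel

theorem tree110 : allR (Wide.treeOK 306936 12 E par) 11 225280 = true := by decide +kernel

theorem tree111 : allR (Wide.treeOK 306936 12 E par) 11 227328 = true := by decide +kernel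

theorem tree112 : allR (Wide.treeOK 306936 12 E par) 11 229376 = true := by decide +kernel

theorem tree113 : allR (Wide.treeOK 306936 12 E par) 11 231424 = true := by decide +kernel

theorem tree114 : allR (Wide.treeOK 306936 12 E par) 11 233472 = true := by decide +kernel

theorem tree115 : allR (Wide.treeOK 306936 12 E par) 11 235520 = true := by decide +kernel

theorem tree116 : allR (Wide.treeOK 306936 12 E par) 11 237568 = true := by decide +kernel

theorem tree117 : allR (Wide.treeOK 306936 12 E par) 11 239616 = true := by decide +kernel

theorem tree118 : allR (Wide.treeOK 306936 12 E par) 11 241664 = true := by decide +kernel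

theorem tree119 : allR (Wide.treeOK 306936 12 E par) 11 243712 = true := by decide +kernel

theorem tree120 : allR (Wide.treeOK 306936 12 E par) 11 245760 = true := by decide +kernel

theorem tree121 : allR (Wide.treeOK 306936 12 E par) 11 247808 = true := by decide +kernel

theorem tree122 : allR (Wide.treeOK 306936 12 E par) 11 249856 = true := by decide +kernel

theorem tree123 : allR (Wide.treeOK 306936 12 E par) 11 251904 = true := by decide +kernel

theorem tree124 : allR (Wide.treeOK 306936 12 E par) 11 253952 = true := by decide +kernel

theorem tree125 : allR (Wide.treeOK 306936 12 E par) 11 256000 = true := by decide +kernel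

theorem tree126 : allR (Wide.treeOK 306936 12 E par) 11 258048 = true := by decide +kernel

theorem tree127 : allR (Wide.treeOK 306936 12 E par) 11 260096 = true := by decide +kernel

theorem tree128 : allR (Wide.treeOK 306936 12 E par) 11 262144 = true := by decide +kernel

theorem tree129 : allR (Wide.treeOK 306936 12 E par) 11 264192 = true := by decide +kernel

theorem tree130 : allR (Wide.treeOK 306936 12 E par) 11 266240 = true := by decide +kernel

theorem tree131 : allR (Wide.treeOK 306936 12 E par) 11 268288 = true := by decide +kernel

theorem tree132 : allR (Wide.treeOK 306936 12 E par) 11 270336 = true := by decide +kernel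

theorem tree133 : allR (Wide.treeOK 306936 12 E par) 11 272384 = true := by decide +kernel

theorem tree134 : allR (Wide.treeOK 306936 12 E par) 11 274432 = true := by decide +kernel

theorem tree135 : allR (Wide.treeOK 306936 12 E par) 11 276480 = true := by decide +kernel

theorem tree136 : allR (Wide.treeOK 306936 12 E par) 11 278528 = true := by decide +kernel

theorem tree137 : allR (Wide.treeOK 306936 12 E par) 11 280576 = true := by decide +kernel

theorem tree138 : allR (Wide.treeOK 306936 12 E par) 11 282624 = true := by decide +kernel

theorem tree139 : allR (Wide.treeOK 306936 12 E par) 11 284672 = true := by decide +kernel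

theorem tree140 : allR (Wide.treeOK 306936 12 E par) 11 286720 = true := by decide +kernel

theorem tree141 : allR (Wide.treeOK 306936 12 E par) 11 288768 = true := by decide +kernel

theorem tree142 : allR (Wide.treeOK 306936 12 E par) 11 290816 = true := by decide +kernel

theorem tree143 : allR (Wide.treeOK 306936 12 E par) 11 292864 = true := by decide +kernel

theorem tree144 : allR (Wide.treeOK 306936 12 E par) 11 294912 = true := by decide +kernel

theorem tree145 : allR (Wide.treeOK 306936 12 E par) 11 296960 = true := by decide +kernel

theorem tree146 : allR (Wide.treeOK 306936 12 E par) 11 299008 = true := by decide +kernel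

theorem tree147 : allR (Wide.treeOK 306936 12 E par) 11 301056 = true := by decide +kernel

theorem tree148 : allR (Wide.treeOK 306936 12 E par) 11 303104 = true := by decide +kernel

theorem tree149 : allR (Wide.treeOK 306936 12 E par) 11 305152 = true := by decide +kernel

theorem tree_on2 : Wide.On (Wide.treeOK 306936 12 E par) 204800 307200 :=
  (((((((((((((((((((((((((((((((((((((((((((((((((Wide.On.of_allR tree100).append (Wide.On.of_allR tree101)).append (Wide.On.of_allR tree102)).append (Wide.On.of_allR tree103)).append (Wide.On.of_allR tree104)).append (Wide.On.of_allR tree105)).append (Wide.On.of_allR tree106)).append (Wide.On.of_allR tree107)).append (Wide.On.of_allR tree108)).append (Wide.On.of_allR tree109)).append (Wide.On.of_allR tree110)).append (Wide.On.of_allR tree111)).append (Wide.On.of_allR tree112)).append (Wide.On.of_allR tree113)).append (Wide.On.of_allR tree114)).append (Wide.On.of_allR tree115)).append (Wide.On.of_allR tree116)).append (Wide.On.of_allR tree117)).append (Wide.On.of_allR tree118)).append (Wide.On.of_allR tree119)).append (Wide.On.of_allR tree120)).append (Wide.On.of_allR tree121)).append (Wide.On.of_allR tree122)).append (Wide.On.of_allR tree123)).append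 (Wide.On.of_allR tree124)).append (Wide.On.of_allR tree125)).append (Wide.On.of_allR tree126)).append (Wide.On.of_allR tree127)).append (Wide.On.of_allR tree128)).append (Wide.On.of_allR tree129)).append (Wide.On.of_allR tree130)).append (Wide.On.of_allR tree131)).append (Wide.On.of_allR tree132)).append (Wide.On.of_allR tree133)).append (Wide.On.of_allR tree134)).append (Wide.On.of_allR tree135)).append (Wide.On.of_allR tree136)).append (Wide.On.of_allR tree137)).append (Wide.On.of_allR tree138)).append (Wide.On.of_allR tree139)).append (Wide.On.of_allR tree140)).append (Wide.On.of_allR tree141)).append (Wide.On.of_allR tree142)).append (Wide.On.of_allR tree143)).append (Wide.On.of_allR tree144)).append (Wide.On.of_allR tree145)).append (Wide.On.of_allR tree146)).append (Wide.On.of_allR tree147)).append (Wide.On.of_allR tree148)).append (Wide.On.of_allR tree149)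

end

end CfsgLib.CosetEnum.Fi24H
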