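import Cfsg.Agent.CosetEnum.Fi24H.Tree0
import Cfsg.Agent.CosetEnum.Fi24H.Tree1
import Cfsg.Agent.CosetEnum.Fi24H.Tree2

set_option autoImplicit false
set_option maxRecDepth 100000
set_option Elab.async false

/-! tree (generated certificate). -/

namespace CfsgLib.CosetEnum.Fi24H

noncomputable section

theorem tree_all : Wide.On (Wide.treeOK 306936 12 E par) 0 306936 :=
  fun i hi hn => (((tree_on0).append tree_on1).append tree_on2) i hi (by omega)

end

end CfsgLib.CosetEnum.Fi24H
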