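import Cfsg.Agent.CosetEnum.Fi24H.OrbitCount

set_option autoImplicit false
set_option maxRecDepth 100000
set_option Elab.async false

/-! suborbits, part 1 (generated certificate). -/

namespace CfsgLib.CosetEnum.Fi24H

noncomputable section

theorem orb30 : allR orbEntry 11 61440 = true := by decide +kernel

theorem small30 : cntR isSmall 11 61440 = 422 := by decide +kernel

theorem orb31 : allR orbEntry 11 63488 = true := by decide +kernel

theorem small31 : cntR isSmall 11 63488 = 267 := by decide +kernel

theorem orb32 : allR orbEntry 11 65536 = true := by decide +kernel

theorem small32 : cntR isSmall 11 65536 = 0 := by decide +kernel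

theorem orb33 : allR orbEntry 11 67584 = true := by decide +kernel

theorem small33 : cntR isSmall 11 67584 = 98 := by decide +kernel

theorem orb34 : allR orbEntry 11 69632 = true := by decide +kernel

theorem small34 : cntR isSmall 11 69632 = 195 := by decide +kernel

theorem orb35 : allR orbEntry 11 71680 = true := by decide +kernel

theorem small35 : cntR isSmall 11 71680 = 401 := by decide +kernel

theorem orb36 : allR orbEntry 11 73728 = true := by decide +kernel

theorem small36 : cntR isSmall 11 73728 = 435 := by decide +kernel

theorem orb37 : allR orbEntry 11 75776 = true := by decide +kernel

theorem small37 : cntR isSmall 11 75776 = 403 := by decide +kernel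

theorem orb38 : allR orbEntry 11 77824 = true := by decide +kernel

theorem small38 : cntR isSmall 11 77824 = 397 := by decide +kernel

theorem orb39 : allR orbEntry 11 79872 = true := by decide +kernel

theorem small39 : cntR isSmall 11 79872 = 142 := by decide +kernel

theorem orb40 : allR orbEntry 11 81920 = true := by decide +kernel

theorem small40 : cntR isSmall 11 81920 = 29 := by decide +kernel

theorem orb41 : allR orbEntry 11 83968 = true := by decide +kernel

theorem small41 : cntR isSmall 11 83968 = 66 := by decide +kernel

theorem orb42 : allR orbEntry 11 86016 = true := by decide +kernel

theorem small42 : cntR isSmall 11 86016 = 162 := by decide +kernel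

theorem orb43 : allR orbEntry 11 88064 = true := by decide +kernel

theorem small43 : cntR isSmall 11 88064 = 401 := by decide +kernel

theorem orb44 : allR orbEntry 11 90112 = true := by decide +kernel

theorem small44 : cntR isSmall 11 90112 = 344 := by decide +kernel

theorem orb45 : allR orbEntry 11 92160 = true := by decide +kernel

theorem small45 : cntR isSmall 11 92160 = 596 := by decide +kernel

theorem orb46 : allR orbEntry 11 94208 = true := by decide +kernel

theorem small46 : cntR isSmall 11 94208 = 336 := by decide +kernel

theorem orb47 : allR orbEntry 11 96256 = true := by decide +kernel

theorem small47 : cntR isSmall 11 96256 = 205 := by decide +kernel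

theorem orb48 : allR orbEntry 11 98304 = true := by decide +kernel

theorem small48 : cntR isSmall 11 98304 = 0 := by decide +kernel

theorem orb49 : allR orbEntry 11 100352 = true := by decide +kernel

theorem small49 : cntR isSmall 11 100352 = 88 := by decide +kernel

theorem orb50 : allR orbEntry 11 102400 = true := by decide +kernel

theorem small50 : cntR isSmall 11 102400 = 4 := by decide +kernel

theorem orb51 : allR orbEntry 11 104448 = true := by decide +kernel

theorem small51 : cntR isSmall 11 104448 = 118 := by decide +kernel

theorem orb52 : allR orbEntry 11 106496 = true := by decide +kernel

theorem small52 : cntR isSmall 11 106496 = 458 := by decide +kernel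

theorem orb53 : allR orbEntry 11 108544 = true := by decide +kernel

theorem small53 : cntR isSmall 11 108544 = 261 := by decide +kernel

theorem orb54 : allR orbEntry 11 110592 = true := by decide +kernel

theorem small54 : cntR isSmall 11 110592 = 579 := by decide +kernel

theorem orb55 : allR orbEntry 11 112640 = true := by decide +kernel

theorem small55 : cntR isSmall 11 112640 = 130 := by decide +kernel

theorem orb56 : allR orbEntry 11 114688 = true := by decide +kernel

theorem small56 : cntR isSmall 11 114688 = 405 := by decide +kernel

theorem orb57 : allR orbEntry 11 116736 = true := by decide +kernel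

theorem small57 : cntR isSmall 11 116736 = 0 := by decide +kernel

theorem orb58 : allR orbEntry 11 118784 = true := by decide +kernel

theorem small58 : cntR isSmall 11 118784 = 0 := by decide +kernel

theorem orb59 : allR orbEntry 11 120832 = true := by decide +kernel

theorem small59 : cntR isSmall 11 120832 = 69 := by decide +kernel

theorem orb_on1 : Wide.On orbEntry 61440 122880 :=
  (((((((((((((((((((((((((((((Wide.On.of_allR orb30).append (Wide.On.of_allR orb31)).append (Wide.On.of_allR orb32)).append (Wide.On.of_allR orb33)).append (Wide.On.of_allR orb34)).append (Wide.On.of_allR orb35)).append (Wide.On.of_allR orb36)).append (Wide.On.of_allR orb37)).append (Wide.On.of_allR orb38)).append (Wide.On.of_allR orb39)).append (Wide.On.of_allR orb40)).append (Wide.On.of_allR orb41)).append (Wide.On.of_allR orb42)).append (Wide.On.of_allR orb43)).append (Wide.On.of_allR orb44)).append (Wide.On.of_allR orb45)).append (Wide.On.of_allR orb46)).append (Wide.On.of_allR orb47)).append (Wide.On.of_allR orb48)).append (Wide.On.of_allR orb49)).append (Wide.On.of_allR orb50)).append (Wide.On.of_allR orb51)).append (Wide.On.of_allR orb52)).append (Wide.On.of_allR orb53)).append (Wide.On.of_allR orb54)).append (Wide.On.of_allR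 orb55)).append (Wide.On.of_allR orb56)).append (Wide.On.of_allR orb57)).append (Wide.On.of_allR orb58)).append (Wide.On.of_allR orb59)

theorem small_on1 : SmallCount 61440 122880 7011 :=
  (((((((((((((((((((((((((((((SmallCount.of_cntR small30).append (SmallCount.of_cntR small31)).append (SmallCount.of_cntR small32)).append (SmallCount.of_cntR small33)).append (SmallCount.of_cntR small34)).append (SmallCount.of_cntR small35)).append (SmallCount.of_cntR small36)).append (SmallCount.of_cntR small37)).append (SmallCount.of_cntR small38)).append (SmallCount.of_cntR small39)).append (SmallCount.of_cntR small40)).append (SmallCount.of_cntR small41)).append (SmallCount.of_cntR small42)).append (SmallCount.of_cntR small43)).append (SmallCount.of_cntR small44)).append (SmallCount.of_cntR small45)).append (SmallCount.of_cntR small46)).append (SmallCount.of_cntR small47)).append (SmallCount.of_cntR small48)).append (SmallCount.of_cntR small49)).append (SmallCount.of_cntR small50)).append (SmallCount.of_cntR small51)).append (SmallCount.of_cntR small52)).append (SmallCount.of_cntR small53)).append (SmallCount.of_cntR small54)).append (SmallCount.of_cntR small55)).append (SmallCount.of_cntR small56)).append (SmallCount.of_cntR small57)).append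 (SmallCount.of_cntR small58)).append (SmallCount.of_cntR small59)

end

end CfsgLib.CosetEnum.Fi24H
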