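import Cfsg.Agent.CosetEnum.Fi24H.OrbitCount

set_option autoImplicit false
set_option maxRecDepth 100000
set_option Elab.async false

/-! suborbits, part 2 (generated certificate). -/

namespace CfsgLib.CosetEnum.Fi24H

noncomputable section

theorem orb60 : allR orbEntry 11 122880 = true := by decide +kernel

theorem small60 : cntR isSmall 11 122880 = 67 := by decide +kernel

theorem orb61 : allR orbEntry 11 124928 = true := by decide +kernel

theorem small61 : cntR isSmall 11 124928 = 71 := by decide +kernel

theorem orb62 : allR orbEntry 11 126976 = true := by decide +kernel

theorem small62 : cntR isSmall 11 126976 = 409 := by decide +kernel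

theorem orb63 : allR orbEntry 11 129024 = true := by decide +kernel

theorem small63 : cntR isSmall 11 129024 = 157 := by decide +kernel

theorem orb64 : allR orbEntry 11 131072 = true := by decide +kernel

theorem small64 : cntR isSmall 11 131072 = 625 := by decide +kernel

theorem orb65 : allR orbEntry 11 133120 = true := by decide +kernel

theorem small65 : cntR isSmall 11 133120 = 0 := by decide +kernel

theorem orb66 : allR orbEntry 11 135168 = true := by decide +kernel

theorem small66 : cntR isSmall 11 135168 = 422 := by decide +kernel

theorem orb67 : allR orbEntry 11 137216 = true := by decide +kernel

theorem small67 : cntR isSmall 11 137216 = 0 := by decide +kernel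

theorem orb68 : allR orbEntry 11 139264 = true := by decide +kernel

theorem small68 : cntR isSmall 11 139264 = 0 := by decide +kernel

theorem orb69 : allR orbEntry 11 141312 = true := by decide +kernel

theorem small69 : cntR isSmall 11 141312 = 55 := by decide +kernel

theorem orb70 : allR orbEntry 11 143360 = true := by decide +kernel

theorem small70 : cntR isSmall 11 143360 = 0 := by decide +kernel

theorem orb71 : allR orbEntry 11 145408 = true := by decide +kernel

theorem small71 : cntR isSmall 11 145408 = 70 := by decide +kernel

theorem orb72 : allR orbEntry 11 147456 = true := by decide +kernel

theorem small72 : cntR isSmall 11 147456 = 165 := by decide +kernel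

theorem orb73 : allR orbEntry 11 149504 = true := by decide +kernel

theorem small73 : cntR isSmall 11 149504 = 373 := by decide +kernel

theorem orb74 : allR orbEntry 11 151552 = true := by decide +kernel

theorem small74 : cntR isSmall 11 151552 = 316 := by decide +kernel

theorem orb75 : allR orbEntry 11 153600 = true := by decide +kernel

theorem small75 : cntR isSmall 11 153600 = 277 := by decide +kernel

theorem orb76 : allR orbEntry 11 155648 = true := by decide +kernel

theorem small76 : cntR isSmall 11 155648 = 90 := by decide +kernel

theorem orb77 : allR orbEntry 11 157696 = true := by decide +kernel

theorem small77 : cntR isSmall 11 157696 = 265 := by decide +kernel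

theorem orb78 : allR orbEntry 11 159744 = true := by decide +kernel

theorem small78 : cntR isSmall 11 159744 = 0 := by decide +kernel

theorem orb79 : allR orbEntry 11 161792 = true := by decide +kernel

theorem small79 : cntR isSmall 11 161792 = 0 := by decide +kernel

theorem orb80 : allR orbEntry 11 163840 = true := by decide +kernel

theorem small80 : cntR isSmall 11 163840 = 45 := by decide +kernel

theorem orb81 : allR orbEntry 11 165888 = true := by decide +kernel

theorem small81 : cntR isSmall 11 165888 = 0 := by decide +kernel

theorem orb82 : allR orbEntry 11 167936 = true := by decide +kernel

theorem small82 : cntR isSmall 11 167936 = 59 := by decide +kernel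

theorem orb83 : allR orbEntry 11 169984 = true := by decide +kernel

theorem small83 : cntR isSmall 11 169984 = 107 := by decide +kernel

theorem orb84 : allR orbEntry 11 172032 = true := by decide +kernel

theorem small84 : cntR isSmall 11 172032 = 379 := by decide +kernel

theorem orb85 : allR orbEntry 11 174080 = true := by decide +kernel

theorem small85 : cntR isSmall 11 174080 = 0 := by decide +kernel

theorem orb86 : allR orbEntry 11 176128 = true := by decide +kernel

theorem small86 : cntR isSmall 11 176128 = 500 := by decide +kernel

theorem orb87 : allR orbEntry 11 178176 = true := by decide +kernel

theorem small87 : cntR isSmall 11 178176 = 48 := by decide +kernel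

theorem orb88 : allR orbEntry 11 180224 = true := by decide +kernel

theorem small88 : cntR isSmall 11 180224 = 273 := by decide +kernel

theorem orb89 : allR orbEntry 11 182272 = true := by decide +kernel

theorem small89 : cntR isSmall 11 182272 = 17 := by decide +kernel

theorem orb_on2 : Wide.On orbEntry 122880 184320 :=
  (((((((((((((((((((((((((((((Wide.On.of_allR orb60).append (Wide.On.of_allR orb61)).append (Wide.On.of_allR orb62)).append (Wide.On.of_allR orb63)).append (Wide.On.of_allR orb64)).append (Wide.On.of_allR orb65)).append (Wide.On.of_allR orb66)).append (Wide.On.of_allR orb67)).append (Wide.On.of_allR orb68)).append (Wide.On.of_allR orb69)).append (Wide.On.of_allR orb70)).append (Wide.On.of_allR orb71)).append (Wide.On.of_allR orb72)).append (Wide.On.of_allR orb73)).append (Wide.On.of_allR orb74)).append (Wide.On.of_allR orb75)).append (Wide.On.of_allR orb76)).append (Wide.On.of_allR orb77)).append (Wide.On.of_allR orb78)).append (Wide.On.of_allR orb79)).append (Wide.On.of_allR orb80)).append (Wide.On.of_allR orb81)).append (Wide.On.of_allR orb82)).append (Wide.On.of_allR orb83)).append (Wide.On.of_allR orb84)).append (Wide.On.of_allR orb85)).append (Wide.On.of_allR orb86)).append (Wide.On.of_allR orb87)).append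 (Wide.On.of_allR orb88)).append (Wide.On.of_allR orb89)

theorem small_on2 : SmallCount 122880 184320 4790 :=
  (((((((((((((((((((((((((((((SmallCount.of_cntR small60).append (SmallCount.of_cntR small61)).append (SmallCount.of_cntR small62)).append (SmallCount.of_cntR small63)).append (SmallCount.of_cntR small64)).append (SmallCount.of_cntR small65)).append (SmallCount.of_cntR small66)).append (SmallCount.of_cntR small67)).append (SmallCount.of_cntR small68)).append (SmallCount.of_cntR small69)).append (SmallCount.of_cntR small70)).append (SmallCount.of_cntR small71)).append (SmallCount.of_cntR small72)).append (SmallCount.of_cntR small73)).append (SmallCount.of_cntR small74)).append (SmallCount.of_cntR small75)).append (SmallCount.of_cntR small76)).append (SmallCount.of_cntR small77)).append (SmallCount.of_cntR small78)).append (SmallCount.of_cntR small79)).append (SmallCount.of_cntR small80)).append (SmallCount.of_cntR small81)).append (SmallCount.of_cntR small82)).append (SmallCount.of_cntR small83)).append (SmallCount.of_cntR small84)).append (SmallCount.of_cntR small85)).append (SmallCount.of_cntR small86)).append (SmallCount.of_cntR small87)).append (SmallCount.of_cntR small88)).append (SmallCount.of_cntR small89)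

end

end CfsgLib.CosetEnum.Fi24H
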