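import Cfsg.Agent.CosetEnum.Fi24H.OrbitCount

set_option autoImplicit false
set_option maxRecDepth 100000
set_option Elab.async false

/-! suborbits, part 3 (generated certificate). -/

namespace CfsgLib.CosetEnum.Fi24H

noncomputable section

theorem orb90 : allR orbEntry 11 184320 = true := by decide +kernel

theorem small90 : cntR isSmall 11 184320 = 0 := by decide +kernel

theorem orb91 : allR orbEntry 11 186368 = true := by decide +kernel

theorem small91 : cntR isSmall 11 186368 = 0 := by decide +kernel

theorem orb92 : allR orbEntry 11 188416 = true := by decide +kernel

theorem small92 : cntR isSmall 11 188416 = 39 := by decide +kernel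

theorem orb93 : allR orbEntry 11 190464 = true := by decide +kernel

theorem small93 : cntR isSmall 11 190464 = 0 := by decide +kernel

theorem orb94 : allR orbEntry 11 192512 = true := by decide +kernel

theorem small94 : cntR isSmall 11 192512 = 50 := by decide +kernel

theorem orb95 : allR orbEntry 11 194560 = true := by decide +kernel

theorem small95 : cntR isSmall 11 194560 = 92 := by decide +kernel

theorem orb96 : allR orbEntry 11 196608 = true := by decide +kernel

theorem small96 : cntR isSmall 11 196608 = 346 := by decide +kernel

theorem orb97 : allR orbEntry 11 198656 = true := by decide +kernel

theorem small97 : cntR isSmall 11 198656 = 0 := by decide +kernel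

theorem orb98 : allR orbEntry 11 200704 = true := by decide +kernel

theorem small98 : cntR isSmall 11 200704 = 353 := by decide +kernel

theorem orb99 : allR orbEntry 11 202752 = true := by decide +kernel

theorem small99 : cntR isSmall 11 202752 = 130 := by decide +kernel

theorem orb100 : allR orbEntry 11 204800 = true := by decide +kernel

theorem small100 : cntR isSmall 11 204800 = 230 := by decide +kernel

theorem orb101 : allR orbEntry 11 206848 = true := by decide +kernel

theorem small101 : cntR isSmall 11 206848 = 17 := by decide +kernel

theorem orb102 : allR orbEntry 11 208896 = true := by decide +kernel

theorem small102 : cntR isSmall 11 208896 = 0 := by decide +kernel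

theorem orb103 : allR orbEntry 11 210944 = true := by decide +kernel

theorem small103 : cntR isSmall 11 210944 = 0 := by decide +kernel

theorem orb104 : allR orbEntry 11 212992 = true := by decide +kernel

theorem small104 : cntR isSmall 11 212992 = 10 := by decide +kernel

theorem orb105 : allR orbEntry 11 215040 = true := by decide +kernel

theorem small105 : cntR isSmall 11 215040 = 29 := by decide +kernel

theorem orb106 : allR orbEntry 11 217088 = true := by decide +kernel

theorem small106 : cntR isSmall 11 217088 = 17 := by decide +kernel

theorem orb107 : allR orbEntry 11 219136 = true := by decide +kernel

theorem small107 : cntR isSmall 11 219136 = 111 := by decide +kernel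

theorem orb108 : allR orbEntry 11 221184 = true := by decide +kernel

theorem small108 : cntR isSmall 11 221184 = 231 := by decide +kernel

theorem orb109 : allR orbEntry 11 223232 = true := by decide +kernel

theorem small109 : cntR isSmall 11 223232 = 82 := by decide +kernel

theorem orb110 : allR orbEntry 11 225280 = true := by decide +kernel

theorem small110 : cntR isSmall 11 225280 = 269 := by decide +kernel

theorem orb111 : allR orbEntry 11 227328 = true := by decide +kernel

theorem small111 : cntR isSmall 11 227328 = 193 := by decide +kernel

theorem orb112 : allR orbEntry 11 229376 = true := by decide +kernel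

theorem small112 : cntR isSmall 11 229376 = 0 := by decide +kernel

theorem orb113 : allR orbEntry 11 231424 = true := by decide +kernel

theorem small113 : cntR isSmall 11 231424 = 239 := by decide +kernel

theorem orb114 : allR orbEntry 11 233472 = true := by decide +kernel

theorem small114 : cntR isSmall 11 233472 = 0 := by decide +kernel

theorem orb115 : allR orbEntry 11 235520 = true := by decide +kernel

theorem small115 : cntR isSmall 11 235520 = 0 := by decide +kernel

theorem orb116 : allR orbEntry 11 237568 = true := by decide +kernel

theorem small116 : cntR isSmall 11 237568 = 0 := by decide +kernel

theorem orb117 : allR orbEntry 11 239616 = true := by decide +kernel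

theorem small117 : cntR isSmall 11 239616 = 40 := by decide +kernel

theorem orb118 : allR orbEntry 11 241664 = true := by decide +kernel

theorem small118 : cntR isSmall 11 241664 = 0 := by decide +kernel

theorem orb119 : allR orbEntry 11 243712 = true := by decide +kernel

theorem small119 : cntR isSmall 11 243712 = 48 := by decide +kernel

theorem orb_on3 : Wide.On orbEntry 184320 245760 :=
  (((((((((((((((((((((((((((((Wide.On.of_allR orb90).append (Wide.On.of_allR orb91)).append (Wide.On.of_allR orb92)).append (Wide.On.of_allR orb93)).append (Wide.On.of_allR orb94)).append (Wide.On.of_allR orb95)).append (Wide.On.of_allR orb96)).append (Wide.On.of_allR orb97)).append (Wide.On.of_allR orb98)).append (Wide.On.of_allR orb99)).append (Wide.On.of_allR orb100)).append (Wide.On.of_allR orb101)).append (Wide.On.of_allR orb102)).append (Wide.On.of_allR orb103)).append (Wide.On.of_allR orb104)).append (Wide.On.of_allR orb105)).append (Wide.On.of_allR orb106)).append (Wide.On.of_allR orb107)).append (Wide.On.of_allR orb108)).append (Wide.On.of_allR orb109)).append (Wide.On.of_allR orb110)).append (Wide.On.of_allR orb111)).append (Wide.On.of_allR orb112)).append (Wide.On.of_allR orb113)).append (Wide.On.of_allR orb114)).append (Wide.On.of_allR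 orb115)).append (Wide.On.of_allR orb116)).append (Wide.On.of_allR orb117)).append (Wide.On.of_allR orb118)).append (Wide.On.of_allR orb119)

theorem small_on3 : SmallCount 184320 245760 2526 :=
  (((((((((((((((((((((((((((((SmallCount.of_cntR small90).append (SmallCount.of_cntR small91)).append (SmallCount.of_cntR small92)).append (SmallCount.of_cntR small93)).append (SmallCount.of_cntR small94)).append (SmallCount.of_cntR small95)).append (SmallCount.of_cntR small96)).append (SmallCount.of_cntR small97)).append (SmallCount.of_cntR small98)).append (SmallCount.of_cntR small99)).append (SmallCount.of_cntR small100)).append (SmallCount.of_cntR small101)).append (SmallCount.of_cntR small102)).append (SmallCount.of_cntR small103)).append (SmallCount.of_cntR small104)).append (SmallCount.of_cntR small105)).append (SmallCount.of_cntR small106)).append (SmallCount.of_cntR small107)).append (SmallCount.of_cntR small108)).append (SmallCount.of_cntR small109)).append (SmallCount.of_cntR small110)).append (SmallCount.of_cntR small111)).append (SmallCount.of_cntR small112)).append (SmallCount.of_cntR small113)).append (SmallCount.of_cntR small114)).append (SmallCount.of_cntR small115)).append (SmallCount.of_cntR small116)).append (SmallCount.of_cntR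 small117)).append (SmallCount.of_cntR small118)).append (SmallCount.of_cntR small119)

end

end CfsgLib.CosetEnum.Fi24H
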