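import Cfsg.Agent.CosetEnum.Fi24H.OrbitCount

set_option autoImplicit false
set_option maxRecDepth 100000
set_option Elab.async false

/-! suborbits, part 4 (generated certificate). -/

namespace CfsgLib.CosetEnum.Fi24H

noncomputable section

theorem orb120 : allR orbEntry 11 245760 = true := by decide +kernel

theorem small120 : cntR isSmall 11 245760 = 302 := by decide +kernel

theorem orb121 : allR orbEntry 11 247808 = true := by decide +kernel

theorem small121 : cntR isSmall 11 247808 = 85 := by decide +kernel

theorem orb122 : allR orbEntry 11 249856 = true := by decide +kernel

theorem small122 : cntR isSmall 11 249856 = 129 := by decide +kernel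

theorem orb123 : allR orbEntry 11 251904 = true := by decide +kernel

theorem small123 : cntR isSmall 11 251904 = 350 := by decide +kernel

theorem orb124 : allR orbEntry 11 253952 = true := by decide +kernel

theorem small124 : cntR isSmall 11 253952 = 0 := by decide +kernel

theorem orb125 : allR orbEntry 11 256000 = true := by decide +kernel

theorem small125 : cntR isSmall 11 256000 = 239 := by decide +kernel

theorem orb126 : allR orbEntry 11 258048 = true := by decide +kernel

theorem small126 : cntR isSmall 11 258048 = 0 := by decide +kernel

theorem orb127 : allR orbEntry 11 260096 = true := by decide +kernel

theorem small127 : cntR isSmall 11 260096 = 0 := by decide +kernel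

theorem orb128 : allR orbEntry 11 262144 = true := by decide +kernel

theorem small128 : cntR isSmall 11 262144 = 38 := by decide +kernel

theorem orb129 : allR orbEntry 11 264192 = true := by decide +kernel

theorem small129 : cntR isSmall 11 264192 = 0 := by decide +kernel

theorem orb130 : allR orbEntry 11 266240 = true := by decide +kernel

theorem small130 : cntR isSmall 11 266240 = 96 := by decide +kernel

theorem orb131 : allR orbEntry 11 268288 = true := by decide +kernel

theorem small131 : cntR isSmall 11 268288 = 325 := by decide +kernel

theorem orb132 : allR orbEntry 11 270336 = true := by decide +kernel

theorem small132 : cntR isSmall 11 270336 = 24 := by decide +kernel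

theorem orb133 : allR orbEntry 11 272384 = true := by decide +kernel

theorem small133 : cntR isSmall 11 272384 = 365 := by decide +kernel

theorem orb134 : allR orbEntry 11 274432 = true := by decide +kernel

theorem small134 : cntR isSmall 11 274432 = 140 := by decide +kernel

theorem orb135 : allR orbEntry 11 276480 = true := by decide +kernel

theorem small135 : cntR isSmall 11 276480 = 214 := by decide +kernel

theorem orb136 : allR orbEntry 11 278528 = true := by decide +kernel

theorem small136 : cntR isSmall 11 278528 = 0 := by decide +kernel

theorem orb137 : allR orbEntry 11 280576 = true := by decide +kernel

theorem small137 : cntR isSmall 11 280576 = 30 := by decide +kernel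

theorem orb138 : allR orbEntry 11 282624 = true := by decide +kernel

theorem small138 : cntR isSmall 11 282624 = 35 := by decide +kernel

theorem orb139 : allR orbEntry 11 284672 = true := by decide +kernel

theorem small139 : cntR isSmall 11 284672 = 386 := by decide +kernel

theorem orb140 : allR orbEntry 11 286720 = true := by decide +kernel

theorem small140 : cntR isSmall 11 286720 = 127 := by decide +kernel

theorem orb141 : allR orbEntry 11 288768 = true := by decide +kernel

theorem small141 : cntR isSmall 11 288768 = 352 := by decide +kernel

theorem orb142 : allR orbEntry 11 290816 = true := by decide +kernel

theorem small142 : cntR isSmall 11 290816 = 168 := by decide +kernel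

theorem orb143 : allR orbEntry 11 292864 = true := by decide +kernel

theorem small143 : cntR isSmall 11 292864 = 19 := by decide +kernel

theorem orb144 : allR orbEntry 11 294912 = true := by decide +kernel

theorem small144 : cntR isSmall 11 294912 = 324 := by decide +kernel

theorem orb145 : allR orbEntry 11 296960 = true := by decide +kernel

theorem small145 : cntR isSmall 11 296960 = 347 := by decide +kernel

theorem orb146 : allR orbEntry 11 299008 = true := by decide +kernel

theorem small146 : cntR isSmall 11 299008 = 189 := by decide +kernel

theorem orb147 : allR orbEntry 11 301056 = true := by decide +kernel

theorem small147 : cntR isSmall 11 301056 = 274 := by decide +kernel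

theorem orb148 : allR orbEntry 11 303104 = true := by decide +kernel

theorem small148 : cntR isSmall 11 303104 = 431 := by decide +kernel

theorem orb149 : allR orbEntry 11 305152 = true := by decide +kernel

theorem small149 : cntR isSmall 11 305152 = 1026 := by decide +kernel

theorem orb_on4 : Wide.On orbEntry 245760 307200 :=
  (((((((((((((((((((((((((((((Wide.On.of_allR orb120).append (Wide.On.of_allR orb121)).append (Wide.On.of_allR orb122)).append (Wide.On.of_allR orb123)).append (Wide.On.of_allR orb124)).append (Wide.On.of_allR orb125)).append (Wide.On.of_allR orb126)).append (Wide.On.of_allR orb127)).append (Wide.On.of_allR orb128)).append (Wide.On.of_allR orb129)).append (Wide.On.of_allR orb130)).append (Wide.On.of_allR orb131)).append (Wide.On.of_allR orb132)).append (Wide.On.of_allR orb133)).append (Wide.On.of_allR orb134)).append (Wide.On.of_allR orb135)).append (Wide.On.of_allR orb136)).append (Wide.On.of_allR orb137)).append (Wide.On.of_allR orb138)).append (Wide.On.of_allR orb139)).append (Wide.On.of_allR orb140)).append (Wide.On.of_allR orb141)).append (Wide.On.of_allR orb142)).append (Wide.On.of_allR orb143)).append (Wide.On.of_allR orb144)).append (Wide.On.of_allR orb145)).append (Wide.On.of_allR orb146)).append (Wide.On.of_allR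 orb147)).append (Wide.On.of_allR orb148)).append (Wide.On.of_allR orb149)

theorem small_on4 : SmallCount 245760 307200 6015 :=
  (((((((((((((((((((((((((((((SmallCount.of_cntR small120).append (SmallCount.of_cntR small121)).append (SmallCount.of_cntR small122)).append (SmallCount.of_cntR small123)).append (SmallCount.of_cntR small124)).append (SmallCount.of_cntR small125)).append (SmallCount.of_cntR small126)).append (SmallCount.of_cntR small127)).append (SmallCount.of_cntR small128)).append (SmallCount.of_cntR small129)).append (SmallCount.of_cntR small130)).append (SmallCount.of_cntR small131)).append (SmallCount.of_cntR small132)).append (SmallCount.of_cntR small133)).append (SmallCount.of_cntR small134)).append (SmallCount.of_cntR small135)).append (SmallCount.of_cntR small136)).append (SmallCount.of_cntR small137)).append (SmallCount.of_cntR small138)).append (SmallCount.of_cntR small139)).append (SmallCount.of_cntR small140)).append (SmallCount.of_cntR small141)).append (SmallCount.of_cntR small142)).append (SmallCount.of_cntR small143)).append (SmallCount.of_cntR small144)).append (SmallCount.of_cntR small145)).append (SmallCount.of_cntR small146)).append (SmallCount.of_cntR small147)).append (SmallCount.of_cntR small148)).append (SmallCount.of_cntR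 small149)

end

end CfsgLib.CosetEnum.Fi24H
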