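import Cfsg.Agent.CosetEnum.Fi24H.Orbit0
import Cfsg.Agent.CosetEnum.Fi24H.Orbit1
import Cfsg.Agent.CosetEnum.Fi24H.Orbit2
import Cfsg.Agent.CosetEnum.Fi24H.Orbit3
import Cfsg.Agent.CosetEnum.Fi24H.Orbit4

set_option autoImplicit false
set_option maxRecDepth 100000
set_option Elab.async false

/-! suborbits (generated certificate). -/

namespace CfsgLib.CosetEnum.Fi24H

noncomputable section

theorem orb_all : Wide.On orbEntry 0 306936 :=
  fun i hi hn => (((((orb_on0).append orb_on1).append orb_on2).append orb_on3).append orb_on4) i hi (by omega)

theorem small_total : SmallCount 0 307200 31671 :=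
  ((((small_on0).append small_on1).append small_on2).append small_on3).append small_on4

end

end CfsgLib.CosetEnum.Fi24H
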