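import Cfsg.Agent.CosetEnum.Wide.Engine

set_option autoImplicit false
set_option maxRecDepth 100000
set_option Elab.async false

/-! The rotated relators (generated certificate). -/

namespace CfsgLib.CosetEnum.Fi24H

noncomputable section

def wds1 (r : Nat) : List Nat := (bif Nat.blt r 4 then (bif Nat.blt r 2 then (bif Nat.blt r 1 then [0, 2, 0, 2] else [2, 0, 2, 0]) else (bif Nat.blt r 3 then [0, 3, 0, 3] else [3, 0, 3, 0])) else (bif Nat.blt r 6 then (bif Nat.blt r 5 then [0, 4, 0, 4] else [4, 0, 4, 0]) else (bif Nat.blt r 7 then [0, 5, 0, 5] else [5, 0, 5, 0])))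

def wds2 (r : Nat) : List Nat := (bif Nat.blt r 12 then (bif Nat.blt r 10 then (bif Nat.blt r 9 then [0, 6, 0, 6] else [6, 0, 6, 0]) else (bif Nat.blt r 11 then [0, 7, 0, 7] else [7, 0, 7, 0])) else (bif Nat.blt r 14 then (bif Nat.blt r 13 then [0, 8, 0, 8] else [8, 0, 8, 0]) else (bif Nat.blt r 15 then [0, 9, 0, 9] else (bif Nat.blt r 16 then [9, 0, 9, 0] else [0, 11, 0, 11]))))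

def wds3 (r : Nat) : List Nat := bif Nat.blt r 8 then wds1 r else wds2 r

def wds4 (r : Nat) : List Nat := (bif Nat.blt r 21 then (bif Nat.blt r 19 then (bif Nat.blt r 18 then [11, 0, 11, 0] else [1, 3, 1, 3]) else (bif Nat.blt r 20 then [3, 1, 3, 1] else [1, 4, 1, 4])) else (bif Nat.blt r 23 then (bif Nat.blt r 22 then [4, 1, 4, 1] else [1, 5, 1, 5]) else (bif Nat.blt r 24 then [5, 1, 5, 1] else (bif Nat.blt r 25 then [1, 6, 1, 6] else [6, 1, 6, 1]))))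

def wds5 (r : Nat) : List Nat := (bif Nat.blt r 30 then (bif Nat.blt r 28 then (bif Nat.blt r 27 then [1, 7, 1, 7] else [7, 1, 7, 1]) else (bif Nat.blt r 29 then [1, 8, 1, 8] else [8, 1, 8, 1])) else (bif Nat.blt r 32 then (bif Nat.blt r 31 then [1, 9, 1, 9] else [9, 1, 9, 1]) else (bif Nat.blt r 33 then [1, 10, 1, 10] else (bif Nat.blt r 34 then [10, 1, 10, 1] else [1, 11, 1, 11]))))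

def wds6 (r : Nat) : List Nat := bif Nat.blt r 26 then wds4 r else wds5 r

def wds7 (r : Nat) : List Nat := bif Nat.blt r 17 then wds3 r else wds6 r

def wds8 (r : Nat) : List Nat := (bif Nat.blt r 39 then (bif Nat.blt r 37 then (bif Nat.blt r 36 then [11, 1, 11, 1] else [2, 4, 2, 4]) else (bif Nat.blt r 38 then [4, 2, 4, 2] else [2, 5, 2, 5])) else (bif Nat.blt r 41 then (bif Nat.blt r 40 then [5, 2, 5, 2] else [2, 6, 2, 6]) else (bif Nat.blt r 42 then [6, 2, 6, 2] else (bif Nat.blt r 43 then [2, 7, 2, 7] else [7, 2, 7, 2]))))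

def wds9 (r : Nat) : List Nat := (bif Nat.blt r 48 then (bif Nat.blt r 46 then (bif Nat.blt r 45 then [2, 8, 2, 8] else [8, 2, 8, 2]) else (bif Nat.blt r 47 then [2, 9, 2, 9] else [9, 2, 9, 2])) else (bif Nat.blt r 50 then (bif Nat.blt r 49 then [2, 10, 2, 10] else [10, 2, 10, 2]) else (bif Nat.blt r 51 then [2, 11, 2, 11] else (bif Nat.blt r 52 then [11, 2, 11, 2] else [3, 5, 3, 5]))))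

def wds10 (r : Nat) : List Nat := bif Nat.blt r 44 then wds8 r else wds9 r

def wds11 (r : Nat) : List Nat := (bif Nat.blt r 57 then (bif Nat.blt r 55 then (bif Nat.blt r 54 then [5, 3, 5, 3] else [3, 6, 3, 6]) else (bif Nat.blt r 56 then [6, 3, 6, 3] else [3, 8, 3, 8])) else (bif Nat.blt r 59 then (bif Nat.blt r 58 then [8, 3, 8, 3] else [3, 9, 3, 9]) else (bif Nat.blt r 60 then [9, 3, 9, 3] else (bif Nat.blt r 61 then [3, 10, 3, 10] else [10, 3, 10, 3]))))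

def wds12 (r : Nat) : List Nat := (bif Nat.blt r 66 then (bif Nat.blt r 64 then (bif Nat.blt r 63 then [3, 11, 3, 11] else [11, 3, 11, 3]) else (bif Nat.blt r 65 then [4, 6, 4, 6] else [6, 4, 6, 4])) else (bif Nat.blt r 68 then (bif Nat.blt r 67 then [4, 7, 4, 7] else [7, 4, 7, 4]) else (bif Nat.blt r 69 then [4, 8, 4, 8] else (bif Nat.blt r 70 then [8, 4, 8, 4] else [4, 9, 4, 9]))))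

def wds13 (r : Nat) : List Nat := bif Nat.blt r 62 then wds11 r else wds12 r

def wds14 (r : Nat) : List Nat := bif Nat.blt r 53 then wds10 r else wds13 r

def wds15 (r : Nat) : List Nat := bif Nat.blt r 35 then wds7 r else wds14 r

def wds16 (r : Nat) : List Nat := (bif Nat.blt r 75 then (bif Nat.blt r 73 then (bif Nat.blt r 72 then [9, 4, 9, 4] else [4, 10, 4, 10]) else (bif Nat.blt r 74 then [10, 4, 10, 4] else [4, 11, 4, 11])) else (bif Nat.blt r 77 then (bif Nat.blt r 76 then [11, 4, 11, 4] else [5, 7, 5, 7]) else (bif Nat.blt r 78 then [7, 5, 7, 5] else [5, 8, 5, 8])))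

def wds17 (r : Nat) : List Nat := (bif Nat.blt r 83 then (bif Nat.blt r 81 then (bif Nat.blt r 80 then [8, 5, 8, 5] else [5, 9, 5, 9]) else (bif Nat.blt r 82 then [9, 5, 9, 5] else [5, 10, 5, 10])) else (bif Nat.blt r 85 then (bif Nat.blt r 84 then [10, 5, 10, 5] else [5, 11, 5, 11]) else (bif Nat.blt r 86 then [11, 5, 11, 5] else (bif Nat.blt r 87 then [6, 7, 6, 7] else [7, 6, 7, 6]))))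

def wds18 (r : Nat) : List Nat := bif Nat.blt r 79 then wds16 r else wds17 r

def wds19 (r : Nat) : List Nat := (bif Nat.blt r 92 then (bif Nat.blt r 90 then (bif Nat.blt r 89 then [6, 8, 6, 8] else [8, 6, 8, 6]) else (bif Nat.blt r 91 then [6, 10, 6, 10] else [10, 6, 10, 6])) else (bif Nat.blt r 94 then (bif Nat.blt r 93 then [6, 11, 6, 11] else [11, 6, 11, 6]) else (bif Nat.blt r 95 then [7, 9, 7, 9] else (bif Nat.blt r 96 then [9, 7, 9, 7] else [7, 10, 7, 10]))))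

def wds20 (r : Nat) : List Nat := (bif Nat.blt r 101 then (bif Nat.blt r 99 then (bif Nat.blt r 98 then [10, 7, 10, 7] else [7, 11, 7, 11]) else (bif Nat.blt r 100 then [11, 7, 11, 7] else [8, 9, 8, 9])) else (bif Nat.blt r 103 then (bif Nat.blt r 102 then [9, 8, 9, 8] else [8, 10, 8, 10]) else (bif Nat.blt r 104 then [10, 8, 10, 8] else (bif Nat.blt r 105 then [8, 11, 8, 11] else [11, 8, 11, 8]))))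

def wds21 (r : Nat) : List Nat := bif Nat.blt r 97 then wds19 r else wds20 r

def wds22 (r : Nat) : List Nat := bif Nat.blt r 88 then wds18 r else wds21 r

def wds23 (r : Nat) : List Nat := (bif Nat.blt r 110 then (bif Nat.blt r 108 then (bif Nat.blt r 107 then [9, 10, 9, 10] else [10, 9, 10, 9]) else (bif Nat.blt r 109 then [9, 11, 9, 11] else [11, 9, 11, 9])) else (bif Nat.blt r 112 then (bif Nat.blt r 111 then [0, 1, 0, 1, 0, 1] else [1, 0, 1, 0, 1, 0]) else (bif Nat.blt r 113 then [0, 10, 0, 10, 0, 10] else (bif Nat.blt r 114 then [10, 0, 10, 0, 10, 0] else [1, 2, 1, 2, 1, 2]))))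

def wds24 (r : Nat) : List Nat := (bif Nat.blt r 119 then (bif Nat.blt r 117 then (bif Nat.blt r 116 then [2, 1, 2, 1, 2, 1] else [2, 3, 2, 3, 2, 3]) else (bif Nat.blt r 118 then [3, 2, 3, 2, 3, 2] else [3, 4, 3, 4, 3, 4])) else (bif Nat.blt r 121 then (bif Nat.blt r 120 then [4, 3, 4, 3, 4, 3] else [3, 7, 3, 7, 3, 7]) else (bif Nat.blt r 122 then [7, 3, 7, 3, 7, 3] else (bif Nat.blt r 123 then [4, 5, 4, 5, 4, 5] else [5, 4, 5, 4, 5, 4]))))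

def wds25 (r : Nat) : List Nat := bif Nat.blt r 115 then wds23 r else wds24 r

def wds26 (r : Nat) : List Nat := (bif Nat.blt r 128 then (bif Nat.blt r 126 then (bif Nat.blt r 125 then [5, 6, 5, 6, 5, 6] else [6, 5, 6, 5, 6, 5]) else (bif Nat.blt r 127 then [6, 9, 6, 9, 6, 9] else [9, 6, 9, 6, 9, 6])) else (bif Nat.blt r 130 then (bif Nat.blt r 129 then [7, 8, 7, 8, 7, 8] else [8, 7, 8, 7, 8, 7]) else (bif Nat.blt r 131 then [10, 11, 10, 11, 10, 11] else (bif Nat.blt r 132 then [11, 10, 11, 10, 11, 10] else [11, 7, 5, 4, 3, 2, 1, 0, 7, 5, 4, 3, 2, 1, 0, 7, 5, 4, 3, 2, 1, 0, 7, 5, 4, 3, 2, 1, 0, 7, 5, 4, 3, 2, 1, 0, 7, 5, 4, 3, 2, 1, 0, 7, 5, 4, 3, 2, 1, 0, 7, 5, 4, 3, 2, 1, 0, 7, 5, 4, 3, 2,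 1, 0]))))

def wds27 (r : Nat) : List Nat := (bif Nat.blt r 137 then (bif Nat.blt r 135 then (bif Nat.blt r 134 then [7, 5, 4, 3, 2, 1, 0, 7, 5, 4, 3, 2, 1, 0, 7, 5, 4, 3, 2, 1, 0, 7, 5, 4, 3, 2, 1, 0, 7, 5, 4, 3, 2, 1, 0, 7, 5, 4, 3, 2, 1, 0, 7, 5, 4, 3, 2, 1, 0, 7, 5, 4, 3, 2, 1, 0, 7, 5, 4, 3, 2, 1, 0, 11] else [5, 4, 3, 2, 1, 0, 7, 5, 4, 3, 2, 1, 0, 7, 5, 4, 3, 2, 1, 0, 7, 5, 4, 3, 2, 1, 0, 7, 5, 4, 3, 2, 1, 0, 7, 5, 4, 3, 2, 1, 0, 7, 5, 4, 3, 2, 1, 0, 7, 5, 4, 3, 2, 1, 0, 7, 5, 4, 3, 2, 1, 0, 11, 7]) else (bif Nat.blt r 136 then [4, 3, 2, 1, 0, 7, 5, 4, 3, 2, 1, 0, 7, 5, 4, 3, 2, 1, 0, 7, 5, 4, 3, 2, 1, 0, 7, 5, 4, 3, 2, 1, 0, 7, 5, 4, 3, 2, 1, 0, 7, 5, 4, 3, 2, 1, 0, 7, 5, 4, 3, 2, 1,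 0, 7, 5, 4, 3, 2, 1, 0, 11, 7, 5] else [3, 2, 1, 0, 7, 5, 4, 3, 2, 1, 0, 7, 5, 4, 3, 2, 1, 0, 7, 5, 4, 3, 2, 1, 0, 7, 5, 4, 3, 2, 1, 0, 7, 5, 4, 3, 2, 1, 0, 7, 5, 4, 3, 2, 1, 0, 7, 5, 4, 3, 2, 1, 0, 7, 5, 4, 3, 2, 1, 0, 11, 7, 5, 4])) else (bif Nat.blt r 139 then (bif Nat.blt r 138 then [2, 1, 0, 7, 5, 4, 3, 2, 1, 0, 7, 5, 4, 3, 2, 1, 0, 7, 5, 4, 3, 2, 1, 0, 7, 5, 4, 3, 2, 1, 0, 7, 5, 4, 3, 2, 1, 0, 7, 5, 4, 3, 2, 1, 0, 7, 5, 4, 3, 2, 1, 0, 7, 5, 4, 3, 2, 1, 0, 11, 7, 5, 4, 3] else [1, 0, 7, 5, 4, 3, 2, 1, 0, 7, 5, 4, 3, 2, 1, 0, 7, 5, 4, 3, 2, 1, 0, 7, 5, 4, 3, 2, 1, 0, 7, 5, 4, 3, 2, 1, 0, 7, 5, 4, 3, 2, 1, 0, 7, 5, 4, 3, 2, 1, 0, 7, 5, 4, 3, 2, 1, 0, 11, 7, 5, 4, 3, 2]) else (bif Nat.blt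 r 140 then [0, 7, 5, 4, 3, 2, 1, 0, 7, 5, 4, 3, 2, 1, 0, 7, 5, 4, 3, 2, 1, 0, 7, 5, 4, 3, 2, 1, 0, 7, 5, 4, 3, 2, 1, 0, 7, 5, 4, 3, 2, 1, 0, 7, 5, 4, 3, 2, 1, 0, 7, 5, 4, 3, 2, 1, 0, 11, 7, 5, 4, 3, 2, 1] else (bif Nat.blt r 141 then [7, 5, 4, 3, 2, 1, 0, 7, 5, 4, 3, 2, 1, 0, 7, 5, 4, 3, 2, 1, 0, 7, 5, 4, 3, 2, 1, 0, 7, 5, 4, 3, 2, 1, 0, 7, 5, 4, 3, 2, 1, 0, 7, 5, 4, 3, 2, 1, 0, 7, 5, 4, 3, 2, 1, 0, 11, 7, 5, 4, 3, 2, 1, 0] else [5, 4, 3, 2, 1, 0, 7, 5, 4, 3, 2, 1, 0, 7, 5, 4, 3, 2, 1, 0, 7, 5, 4, 3, 2, 1, 0, 7, 5, 4, 3, 2, 1, 0, 7, 5, 4, 3, 2, 1, 0, 7, 5, 4, 3, 2, 1, 0, 7, 5, 4, 3, 2, 1, 0, 11, 7, 5, 4, 3, 2, 1, 0, 7]))))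

def wds28 (r : Nat) : List Nat := bif Nat.blt r 133 then wds26 r else wds27 r

def wds29 (r : Nat) : List Nat := bif Nat.blt r 124 then wds25 r else wds28 r

def wds30 (r : Nat) : List Nat := bif Nat.blt r 106 then wds22 r else wds29 r

def wds31 (r : Nat) : List Nat := bif Nat.blt r 71 then wds15 r else wds30 r

def wds32 (r : Nat) : List Nat := (bif Nat.blt r 146 then (bif Nat.blt r 144 then (bif Nat.blt r 143 then [4, 3, 2, 1, 0, 7, 5, 4, 3, 2, 1, 0, 7, 5, 4, 3, 2, 1, 0, 7, 5, 4, 3, 2, 1, 0, 7, 5, 4, 3, 2, 1, 0, 7, 5, 4, 3, 2, 1, 0, 7, 5, 4, 3, 2, 1, 0, 7, 5, 4, 3, 2, 1, 0, 11, 7, 5, 4, 3, 2, 1, 0, 7, 5] else [3, 2, 1, 0, 7, 5, 4, 3, 2, 1, 0, 7, 5, 4, 3, 2, 1, 0, 7, 5, 4, 3, 2, 1, 0, 7,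 5, 4, 3, 2, 1, 0, 7, 5, 4, 3, 2, 1, 0, 7, 5, 4, 3, 2, 1, 0, 7, 5, 4, 3, 2, 1, 0, 11, 7, 5, 4, 3, 2, 1, 0, 7, 5, 4]) else (bif Nat.blt r 145 then [2, 1, 0, 7, 5, 4, 3, 2, 1, 0, 7, 5, 4, 3, 2, 1, 0, 7, 5, 4, 3, 2, 1, 0, 7, 5, 4, 3, 2, 1, 0, 7, 5, 4, 3, 2, 1, 0, 7, 5, 4, 3, 2, 1, 0, 7, 5, 4, 3, 2, 1, 0, 11, 7, 5, 4, 3, 2, 1, 0, 7, 5, 4, 3] else [1, 0, 7, 5, 4, 3, 2, 1, 0, 7, 5, 4, 3, 2, 1, 0, 7, 5, 4, 3, 2, 1, 0, 7, 5, 4, 3, 2, 1, 0, 7, 5, 4, 3, 2, 1, 0, 7, 5, 4, 3, 2, 1, 0, 7, 5, 4, 3, 2, 1, 0, 11, 7, 5, 4, 3, 2, 1, 0, 7, 5, 4, 3, 2])) else (bif Nat.blt r 148 then (bif Nat.blt r 147 then [0, 7, 5, 4, 3, 2, 1, 0, 7, 5, 4, 3, 2, 1, 0, 7, 5, 4, 3, 2, 1, 0, 7, 5, 4, 3, 2, 1, 0, 7, 5, 4, 3, 2, 1, 0,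 7, 5, 4, 3, 2, 1, 0, 7, 5, 4, 3, 2, 1, 0, 11, 7, 5, 4, 3, 2, 1, 0, 7, 5, 4, 3, 2, 1] else [7, 5, 4, 3, 2, 1, 0, 7, 5, 4, 3, 2, 1, 0, 7, 5, 4, 3, 2, 1, 0, 7, 5, 4, 3, 2, 1, 0, 7, 5, 4, 3, 2, 1, 0, 7, 5, 4, 3, 2, 1, 0, 7, 5, 4, 3, 2, 1, 0, 11, 7, 5, 4, 3, 2, 1, 0, 7, 5, 4, 3, 2, 1, 0]) else (bif Nat.blt r 149 then [5, 4, 3, 2, 1, 0, 7, 5, 4, 3, 2, 1, 0, 7, 5, 4, 3, 2, 1, 0, 7, 5, 4, 3, 2, 1, 0, 7, 5, 4, 3, 2, 1, 0, 7, 5, 4, 3, 2, 1, 0, 7, 5, 4, 3, 2, 1, 0, 11, 7, 5, 4, 3, 2, 1, 0, 7, 5, 4, 3, 2, 1, 0, 7] else [4, 3, 2, 1, 0, 7, 5, 4, 3, 2, 1, 0, 7, 5, 4, 3, 2, 1, 0, 7, 5, 4, 3, 2, 1, 0, 7, 5, 4, 3, 2, 1, 0, 7, 5, 4, 3, 2, 1, 0, 7, 5, 4, 3, 2, 1, 0, 11, 7, 5, 4, 3, 2, 1, 0, 7, 5, 4, 3, 2, 1, 0,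 7, 5])))

def wds33 (r : Nat) : List Nat := (bif Nat.blt r 154 then (bif Nat.blt r 152 then (bif Nat.blt r 151 then [3, 2, 1, 0, 7, 5, 4, 3, 2, 1, 0, 7, 5, 4, 3, 2, 1, 0, 7, 5, 4, 3, 2, 1, 0, 7, 5, 4, 3, 2, 1, 0, 7, 5, 4, 3, 2, 1, 0, 7, 5, 4, 3, 2, 1, 0, 11, 7, 5, 4, 3, 2, 1, 0, 7, 5, 4, 3, 2, 1, 0, 7, 5, 4] else [2, 1, 0, 7, 5, 4, 3, 2, 1, 0, 7, 5, 4, 3, 2, 1, 0, 7, 5, 4, 3, 2, 1, 0, 7, 5, 4, 3, 2, 1, 0, 7, 5, 4, 3, 2, 1, 0, 7, 5, 4, 3, 2, 1, 0, 11, 7, 5, 4, 3, 2, 1, 0, 7, 5, 4, 3, 2, 1, 0, 7, 5, 4, 3]) else (bif Nat.blt r 153 then [1, 0, 7, 5, 4, 3, 2, 1, 0, 7, 5, 4, 3, 2, 1, 0, 7, 5, 4, 3, 2, 1, 0, 7, 5, 4, 3, 2, 1, 0, 7, 5, 4, 3, 2, 1, 0, 7, 5, 4, 3, 2, 1, 0, 11, 7, 5, 4, 3, 2, 1, 0, 7,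 5, 4, 3, 2, 1, 0, 7, 5, 4, 3, 2] else [0, 7, 5, 4, 3, 2, 1, 0, 7, 5, 4, 3, 2, 1, 0, 7, 5, 4, 3, 2, 1, 0, 7, 5, 4, 3, 2, 1, 0, 7, 5, 4, 3, 2, 1, 0, 7, 5, 4, 3, 2, 1, 0, 11, 7, 5, 4, 3, 2, 1, 0, 7, 5, 4, 3, 2, 1, 0, 7, 5, 4, 3, 2, 1])) else (bif Nat.blt r 156 then (bif Nat.blt r 155 then [7, 5, 4, 3, 2, 1, 0, 7, 5, 4, 3, 2, 1, 0, 7, 5, 4, 3, 2, 1, 0, 7, 5, 4, 3, 2, 1, 0, 7, 5, 4, 3, 2, 1, 0, 7, 5, 4, 3, 2, 1, 0, 11, 7, 5, 4, 3, 2, 1, 0, 7, 5, 4, 3, 2, 1, 0, 7, 5, 4, 3, 2, 1, 0] else [5, 4, 3, 2, 1, 0, 7, 5, 4, 3, 2, 1, 0, 7, 5, 4, 3, 2, 1, 0, 7, 5, 4, 3, 2, 1, 0, 7, 5, 4, 3, 2, 1, 0, 7, 5, 4, 3, 2, 1, 0, 11, 7, 5, 4, 3, 2, 1, 0, 7, 5, 4, 3, 2, 1, 0, 7, 5, 4, 3, 2, 1, 0, 7]) else (bif Nat.blt r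 157 then [4, 3, 2, 1, 0, 7, 5, 4, 3, 2, 1, 0, 7, 5, 4, 3, 2, 1, 0, 7, 5, 4, 3, 2, 1, 0, 7, 5, 4, 3, 2, 1, 0, 7, 5, 4, 3, 2, 1, 0, 11, 7, 5, 4, 3, 2, 1, 0, 7, 5, 4, 3, 2, 1, 0, 7, 5, 4, 3, 2, 1, 0, 7, 5] else (bif Nat.blt r 158 then [3, 2, 1, 0, 7, 5, 4, 3, 2, 1, 0, 7, 5, 4, 3, 2, 1, 0, 7, 5, 4, 3, 2, 1, 0, 7, 5, 4, 3, 2, 1, 0, 7, 5, 4, 3, 2, 1, 0, 11, 7, 5, 4, 3, 2, 1, 0, 7, 5, 4, 3, 2, 1, 0, 7, 5, 4, 3, 2, 1, 0, 7, 5, 4] else [2, 1, 0, 7, 5, 4, 3, 2, 1, 0, 7, 5, 4, 3, 2, 1, 0, 7, 5, 4, 3, 2, 1, 0, 7, 5, 4, 3, 2, 1, 0, 7, 5, 4, 3, 2, 1, 0, 11, 7, 5, 4, 3, 2, 1, 0, 7, 5, 4, 3, 2, 1, 0, 7, 5, 4, 3, 2, 1, 0, 7, 5, 4, 3]))))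

def wds34 (r : Nat) : List Nat := bif Nat.blt r 150 then wds32 r else wds33 r

def wds35 (r : Nat) : List Nat := (bif Nat.blt r 163 then (bif Nat.blt r 161 then (bif Nat.blt r 160 then [1, 0, 7, 5, 4, 3, 2, 1, 0, 7, 5, 4, 3, 2, 1, 0, 7, 5, 4, 3, 2, 1, 0, 7, 5, 4, 3, 2, 1, 0, 7, 5, 4, 3, 2, 1, 0, 11, 7, 5, 4, 3, 2, 1, 0, 7, 5, 4, 3, 2, 1, 0, 7, 5, 4, 3, 2, 1, 0, 7, 5, 4, 3, 2] else [0, 7, 5, 4, 3, 2, 1, 0, 7, 5, 4, 3, 2, 1, 0, 7, 5, 4, 3, 2, 1, 0, 7, 5, 4, 3, 2, 1, 0, 7, 5, 4, 3, 2, 1, 0, 11, 7, 5, 4, 3, 2, 1, 0, 7, 5, 4, 3, 2, 1, 0, 7, 5, 4, 3, 2, 1, 0, 7, 5, 4, 3, 2, 1]) else (bif Nat.blt r 162 then [7, 5, 4, 3, 2, 1, 0, 7, 5, 4, 3, 2, 1, 0, 7, 5, 4, 3, 2, 1, 0, 7, 5, 4, 3, 2, 1, 0, 7, 5,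 4, 3, 2, 1, 0, 11, 7, 5, 4, 3, 2, 1, 0, 7, 5, 4, 3, 2, 1, 0, 7, 5, 4, 3, 2, 1, 0, 7, 5, 4, 3, 2, 1, 0] else [5, 4, 3, 2, 1, 0, 7, 5, 4, 3, 2, 1, 0, 7, 5, 4, 3, 2, 1, 0, 7, 5, 4, 3, 2, 1, 0, 7, 5, 4, 3, 2, 1, 0, 11, 7, 5, 4, 3, 2, 1, 0, 7, 5, 4, 3, 2, 1, 0, 7, 5, 4, 3, 2, 1, 0, 7, 5, 4, 3, 2, 1, 0, 7])) else (bif Nat.blt r 165 then (bif Nat.blt r 164 then [4, 3, 2, 1, 0, 7, 5, 4, 3, 2, 1, 0, 7, 5, 4, 3, 2, 1, 0, 7, 5, 4, 3, 2, 1, 0, 7, 5, 4, 3, 2, 1, 0, 11, 7, 5, 4, 3, 2, 1, 0, 7, 5, 4, 3, 2, 1, 0, 7, 5, 4, 3, 2, 1, 0, 7, 5, 4, 3, 2, 1, 0, 7, 5] else [3, 2, 1, 0, 7, 5, 4, 3, 2, 1, 0, 7, 5, 4, 3, 2, 1, 0, 7, 5, 4, 3, 2, 1, 0, 7, 5, 4, 3, 2, 1, 0, 11, 7, 5, 4, 3, 2, 1, 0, 7, 5, 4, 3, 2, 1, 0, 7,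 5, 4, 3, 2, 1, 0, 7, 5, 4, 3, 2, 1, 0, 7, 5, 4]) else (bif Nat.blt r 166 then [2, 1, 0, 7, 5, 4, 3, 2, 1, 0, 7, 5, 4, 3, 2, 1, 0, 7, 5, 4, 3, 2, 1, 0, 7, 5, 4, 3, 2, 1, 0, 11, 7, 5, 4, 3, 2, 1, 0, 7, 5, 4, 3, 2, 1, 0, 7, 5, 4, 3, 2, 1, 0, 7, 5, 4, 3, 2, 1, 0, 7, 5, 4, 3] else (bif Nat.blt r 167 then [1, 0, 7, 5, 4, 3, 2, 1, 0, 7, 5, 4, 3, 2, 1, 0, 7, 5, 4, 3, 2, 1, 0, 7, 5, 4, 3, 2, 1, 0, 11, 7, 5, 4, 3, 2, 1, 0, 7, 5, 4, 3, 2, 1, 0, 7, 5, 4, 3, 2, 1, 0, 7, 5, 4, 3, 2, 1, 0, 7, 5, 4, 3, 2] else [0, 7, 5, 4, 3, 2, 1, 0, 7, 5, 4, 3, 2, 1, 0, 7, 5, 4, 3, 2, 1, 0, 7, 5, 4, 3, 2, 1, 0, 11, 7, 5, 4, 3, 2, 1, 0, 7, 5, 4, 3, 2, 1, 0, 7, 5, 4, 3, 2, 1, 0, 7, 5, 4, 3, 2, 1, 0, 7, 5, 4, 3, 2, 1]))))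

def wds36 (r : Nat) : List Nat := (bif Nat.blt r 172 then (bif Nat.blt r 170 then (bif Nat.blt r 169 then [7, 5, 4, 3, 2, 1, 0, 7, 5, 4, 3, 2, 1, 0, 7, 5, 4, 3, 2, 1, 0, 7, 5, 4, 3, 2, 1, 0, 11, 7, 5, 4, 3, 2, 1, 0, 7, 5, 4, 3, 2, 1, 0, 7, 5, 4, 3, 2, 1, 0, 7, 5, 4, 3, 2, 1, 0, 7, 5, 4, 3, 2, 1, 0] else [5, 4, 3, 2, 1, 0, 7, 5, 4, 3, 2, 1, 0, 7, 5, 4, 3, 2, 1, 0, 7, 5, 4, 3, 2, 1, 0, 11, 7, 5, 4, 3, 2, 1, 0, 7, 5, 4, 3, 2, 1, 0, 7, 5, 4, 3, 2, 1, 0, 7, 5, 4, 3, 2, 1, 0, 7, 5, 4, 3, 2, 1, 0, 7]) else (bif Nat.blt r 171 then [4, 3, 2, 1, 0, 7, 5, 4, 3, 2, 1, 0, 7, 5, 4, 3, 2, 1, 0, 7, 5, 4, 3, 2, 1, 0, 11, 7, 5, 4, 3, 2, 1, 0, 7, 5, 4, 3, 2, 1, 0, 7, 5, 4, 3, 2, 1, 0, 7, 5, 4, 3, 2, 1, 0, 7,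 5, 4, 3, 2, 1, 0, 7, 5] else [3, 2, 1, 0, 7, 5, 4, 3, 2, 1, 0, 7, 5, 4, 3, 2, 1, 0, 7, 5, 4, 3, 2, 1, 0, 11, 7, 5, 4, 3, 2, 1, 0, 7, 5, 4, 3, 2, 1, 0, 7, 5, 4, 3, 2, 1, 0, 7, 5, 4, 3, 2, 1, 0, 7, 5, 4, 3, 2, 1, 0, 7, 5, 4])) else (bif Nat.blt r 174 then (bif Nat.blt r 173 then [2, 1, 0, 7, 5, 4, 3, 2, 1, 0, 7, 5, 4, 3, 2, 1, 0, 7, 5, 4, 3, 2, 1, 0, 11, 7, 5, 4, 3, 2, 1, 0, 7, 5, 4, 3, 2, 1, 0, 7, 5, 4, 3, 2, 1, 0, 7, 5, 4, 3, 2, 1, 0, 7, 5, 4, 3, 2, 1, 0, 7, 5, 4, 3] else [1, 0, 7, 5, 4, 3, 2, 1, 0, 7, 5, 4, 3, 2, 1, 0, 7, 5, 4, 3, 2, 1, 0, 11, 7, 5, 4, 3, 2, 1, 0, 7, 5, 4, 3, 2, 1, 0, 7, 5, 4, 3, 2, 1, 0, 7, 5, 4, 3, 2, 1, 0, 7, 5, 4, 3, 2, 1, 0, 7, 5, 4, 3, 2]) else (bif Nat.blt r 175 then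 [0, 7, 5, 4, 3, 2, 1, 0, 7, 5, 4, 3, 2, 1, 0, 7, 5, 4, 3, 2, 1, 0, 11, 7, 5, 4, 3, 2, 1, 0, 7, 5, 4, 3, 2, 1, 0, 7, 5, 4, 3, 2, 1, 0, 7, 5, 4, 3, 2, 1, 0, 7, 5, 4, 3, 2, 1, 0, 7, 5, 4, 3, 2, 1] else (bif Nat.blt r 176 then [7, 5, 4, 3, 2, 1, 0, 7, 5, 4, 3, 2, 1, 0, 7, 5, 4, 3, 2, 1, 0, 11, 7, 5, 4, 3, 2, 1, 0, 7, 5, 4, 3, 2, 1, 0, 7, 5, 4, 3, 2, 1, 0, 7, 5, 4, 3, 2, 1, 0, 7, 5, 4, 3, 2, 1, 0, 7, 5, 4, 3, 2, 1, 0] else [5, 4, 3, 2, 1, 0, 7, 5, 4, 3, 2, 1, 0, 7, 5, 4, 3, 2, 1, 0, 11, 7, 5, 4, 3, 2, 1, 0, 7, 5, 4, 3, 2, 1, 0, 7, 5, 4, 3, 2, 1, 0, 7, 5, 4, 3, 2, 1, 0, 7, 5, 4, 3, 2, 1, 0, 7, 5, 4, 3, 2, 1, 0, 7]))))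

def wds37 (r : Nat) : List Nat := bif Nat.blt r 168 then wds35 r else wds36 r

def wds38 (r : Nat) : List Nat := bif Nat.blt r 159 then wds34 r else wds37 r

def wds39 (r : Nat) : List Nat := (bif Nat.blt r 181 then (bif Nat.blt r 179 then (bif Nat.blt r 178 then [4, 3, 2, 1, 0, 7, 5, 4, 3, 2, 1, 0, 7, 5, 4, 3, 2, 1, 0, 11, 7, 5, 4, 3, 2, 1, 0, 7, 5, 4, 3, 2, 1, 0, 7, 5, 4, 3, 2, 1, 0, 7, 5, 4, 3, 2, 1, 0, 7, 5, 4, 3, 2, 1, 0, 7, 5, 4, 3, 2, 1, 0, 7, 5] else [3, 2, 1, 0, 7, 5, 4, 3, 2, 1, 0, 7, 5, 4, 3, 2, 1, 0, 11, 7, 5, 4, 3, 2, 1, 0, 7, 5, 4, 3, 2, 1, 0, 7, 5, 4, 3, 2, 1, 0, 7, 5, 4, 3, 2, 1, 0, 7, 5, 4, 3, 2, 1, 0, 7, 5, 4, 3, 2, 1, 0, 7, 5, 4]) else (bif Nat.blt r 180 then [2, 1, 0, 7,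 5, 4, 3, 2, 1, 0, 7, 5, 4, 3, 2, 1, 0, 11, 7, 5, 4, 3, 2, 1, 0, 7, 5, 4, 3, 2, 1, 0, 7, 5, 4, 3, 2, 1, 0, 7, 5, 4, 3, 2, 1, 0, 7, 5, 4, 3, 2, 1, 0, 7, 5, 4, 3, 2, 1, 0, 7, 5, 4, 3] else [1, 0, 7, 5, 4, 3, 2, 1, 0, 7, 5, 4, 3, 2, 1, 0, 11, 7, 5, 4, 3, 2, 1, 0, 7, 5, 4, 3, 2, 1, 0, 7, 5, 4, 3, 2, 1, 0, 7, 5, 4, 3, 2, 1, 0, 7, 5, 4, 3, 2, 1, 0, 7, 5, 4, 3, 2, 1, 0, 7, 5, 4, 3, 2])) else (bif Nat.blt r 183 then (bif Nat.blt r 182 then [0, 7, 5, 4, 3, 2, 1, 0, 7, 5, 4, 3, 2, 1, 0, 11, 7, 5, 4, 3, 2, 1, 0, 7, 5, 4, 3, 2, 1, 0, 7, 5, 4, 3, 2, 1, 0, 7, 5, 4, 3, 2, 1, 0, 7, 5, 4, 3, 2, 1, 0, 7, 5, 4, 3, 2, 1, 0, 7, 5, 4, 3, 2, 1] else [7, 5, 4, 3, 2, 1, 0, 7, 5, 4, 3, 2, 1, 0, 11, 7, 5, 4, 3, 2, 1, 0,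 7, 5, 4, 3, 2, 1, 0, 7, 5, 4, 3, 2, 1, 0, 7, 5, 4, 3, 2, 1, 0, 7, 5, 4, 3, 2, 1, 0, 7, 5, 4, 3, 2, 1, 0, 7, 5, 4, 3, 2, 1, 0]) else (bif Nat.blt r 184 then [5, 4, 3, 2, 1, 0, 7, 5, 4, 3, 2, 1, 0, 11, 7, 5, 4, 3, 2, 1, 0, 7, 5, 4, 3, 2, 1, 0, 7, 5, 4, 3, 2, 1, 0, 7, 5, 4, 3, 2, 1, 0, 7, 5, 4, 3, 2, 1, 0, 7, 5, 4, 3, 2, 1, 0, 7, 5, 4, 3, 2, 1, 0, 7] else (bif Nat.blt r 185 then [4, 3, 2, 1, 0, 7, 5, 4, 3, 2, 1, 0, 11, 7, 5, 4, 3, 2, 1, 0, 7, 5, 4, 3, 2, 1, 0, 7, 5, 4, 3, 2, 1, 0, 7, 5, 4, 3, 2, 1, 0, 7, 5, 4, 3, 2, 1, 0, 7, 5, 4, 3, 2, 1, 0, 7, 5, 4, 3, 2, 1, 0, 7, 5] else [3, 2, 1, 0, 7, 5, 4, 3, 2, 1, 0, 11, 7, 5, 4, 3, 2, 1, 0, 7, 5, 4, 3, 2, 1, 0, 7, 5, 4, 3, 2, 1, 0, 7, 5, 4, 3, 2, 1, 0,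 7, 5, 4, 3, 2, 1, 0, 7, 5, 4, 3, 2, 1, 0, 7, 5, 4, 3, 2, 1, 0, 7, 5, 4]))))

def wds40 (r : Nat) : List Nat := (bif Nat.blt r 190 then (bif Nat.blt r 188 then (bif Nat.blt r 187 then [2, 1, 0, 7, 5, 4, 3, 2, 1, 0, 11, 7, 5, 4, 3, 2, 1, 0, 7, 5, 4, 3, 2, 1, 0, 7, 5, 4, 3, 2, 1, 0, 7, 5, 4, 3, 2, 1, 0, 7, 5, 4, 3, 2, 1, 0, 7, 5, 4, 3, 2, 1, 0, 7, 5, 4, 3, 2, 1, 0, 7, 5, 4, 3] else [1, 0, 7, 5, 4, 3, 2, 1, 0, 11, 7, 5, 4, 3, 2, 1, 0, 7, 5, 4, 3, 2, 1, 0, 7, 5, 4, 3, 2, 1, 0, 7, 5, 4, 3, 2, 1, 0, 7, 5, 4, 3, 2, 1, 0, 7, 5, 4, 3, 2, 1, 0, 7, 5, 4, 3, 2, 1, 0, 7, 5, 4, 3, 2]) else (bif Nat.blt r 189 then [0, 7, 5, 4, 3, 2, 1, 0, 11, 7, 5, 4, 3, 2, 1, 0, 7, 5, 4, 3, 2, 1, 0, 7, 5, 4, 3, 2, 1, 0, 7,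 5, 4, 3, 2, 1, 0, 7, 5, 4, 3, 2, 1, 0, 7, 5, 4, 3, 2, 1, 0, 7, 5, 4, 3, 2, 1, 0, 7, 5, 4, 3, 2, 1] else [7, 5, 4, 3, 2, 1, 0, 11, 7, 5, 4, 3, 2, 1, 0, 7, 5, 4, 3, 2, 1, 0, 7, 5, 4, 3, 2, 1, 0, 7, 5, 4, 3, 2, 1, 0, 7, 5, 4, 3, 2, 1, 0, 7, 5, 4, 3, 2, 1, 0, 7, 5, 4, 3, 2, 1, 0, 7, 5, 4, 3, 2, 1, 0])) else (bif Nat.blt r 192 then (bif Nat.blt r 191 then [5, 4, 3, 2, 1, 0, 11, 7, 5, 4, 3, 2, 1, 0, 7, 5, 4, 3, 2, 1, 0, 7, 5, 4, 3, 2, 1, 0, 7, 5, 4, 3, 2, 1, 0, 7, 5, 4, 3, 2, 1, 0, 7, 5, 4, 3, 2, 1, 0, 7, 5, 4, 3, 2, 1, 0, 7, 5, 4, 3, 2, 1, 0, 7] else [4, 3, 2, 1, 0, 11, 7, 5, 4, 3, 2, 1, 0, 7, 5, 4, 3, 2, 1, 0, 7, 5, 4, 3, 2, 1, 0, 7, 5, 4, 3, 2, 1, 0, 7, 5, 4, 3, 2, 1, 0, 7, 5, 4, 3, 2, 1, 0, 7,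 5, 4, 3, 2, 1, 0, 7, 5, 4, 3, 2, 1, 0, 7, 5]) else (bif Nat.blt r 193 then [3, 2, 1, 0, 11, 7, 5, 4, 3, 2, 1, 0, 7, 5, 4, 3, 2, 1, 0, 7, 5, 4, 3, 2, 1, 0, 7, 5, 4, 3, 2, 1, 0, 7, 5, 4, 3, 2, 1, 0, 7, 5, 4, 3, 2, 1, 0, 7, 5, 4, 3, 2, 1, 0, 7, 5, 4, 3, 2, 1, 0, 7, 5, 4] else (bif Nat.blt r 194 then [2, 1, 0, 11, 7, 5, 4, 3, 2, 1, 0, 7, 5, 4, 3, 2, 1, 0, 7, 5, 4, 3, 2, 1, 0, 7, 5, 4, 3, 2, 1, 0, 7, 5, 4, 3, 2, 1, 0, 7, 5, 4, 3, 2, 1, 0, 7, 5, 4, 3, 2, 1, 0, 7, 5, 4, 3, 2, 1, 0, 7, 5, 4, 3] else [1, 0, 11, 7, 5, 4, 3, 2, 1, 0, 7, 5, 4, 3, 2, 1, 0, 7, 5, 4, 3, 2, 1, 0, 7, 5, 4, 3, 2, 1, 0, 7, 5, 4, 3, 2, 1, 0, 7, 5, 4, 3, 2, 1, 0, 7, 5, 4, 3, 2, 1, 0, 7, 5, 4, 3, 2, 1, 0, 7, 5, 4, 3, 2]))))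

def wds41 (r : Nat) : List Nat := bif Nat.blt r 186 then wds39 r else wds40 r

def wds42 (r : Nat) : List Nat := (bif Nat.blt r 199 then (bif Nat.blt r 197 then (bif Nat.blt r 196 then [0, 11, 7, 5, 4, 3, 2, 1, 0, 7, 5, 4, 3, 2, 1, 0, 7, 5, 4, 3, 2, 1, 0, 7, 5, 4, 3, 2, 1, 0, 7, 5, 4, 3, 2, 1, 0, 7, 5, 4, 3, 2, 1, 0, 7, 5, 4, 3, 2, 1, 0, 7, 5, 4, 3, 2, 1, 0, 7, 5, 4, 3, 2, 1] else [11, 4, 8, 7, 3, 2, 1, 0, 4, 8, 7, 3, 2, 1, 0, 4, 8, 7, 3, 2, 1, 0, 4, 8, 7, 3, 2, 1, 0, 4, 8, 7, 3, 2, 1, 0, 4, 8, 7, 3, 2, 1, 0, 4, 8, 7, 3, 2, 1, 0, 4, 8, 7, 3, 2, 1, 0, 4, 8, 7, 3, 2, 1, 0]) else (bif Nat.blt r 198 then [4, 8, 7, 3, 2, 1, 0, 4, 8, 7, 3, 2, 1, 0, 4, 8, 7, 3, 2, 1, 0, 4, 8, 7, 3, 2, 1, 0, 4, 8,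 7, 3, 2, 1, 0, 4, 8, 7, 3, 2, 1, 0, 4, 8, 7, 3, 2, 1, 0, 4, 8, 7, 3, 2, 1, 0, 4, 8, 7, 3, 2, 1, 0, 11] else [8, 7, 3, 2, 1, 0, 4, 8, 7, 3, 2, 1, 0, 4, 8, 7, 3, 2, 1, 0, 4, 8, 7, 3, 2, 1, 0, 4, 8, 7, 3, 2, 1, 0, 4, 8, 7, 3, 2, 1, 0, 4, 8, 7, 3, 2, 1, 0, 4, 8, 7, 3, 2, 1, 0, 4, 8, 7, 3, 2, 1, 0, 11, 4])) else (bif Nat.blt r 201 then (bif Nat.blt r 200 then [7, 3, 2, 1, 0, 4, 8, 7, 3, 2, 1, 0, 4, 8, 7, 3, 2, 1, 0, 4, 8, 7, 3, 2, 1, 0, 4, 8, 7, 3, 2, 1, 0, 4, 8, 7, 3, 2, 1, 0, 4, 8, 7, 3, 2, 1, 0, 4, 8, 7, 3, 2, 1, 0, 4, 8, 7, 3, 2, 1, 0, 11, 4, 8] else [3, 2, 1, 0, 4, 8, 7, 3, 2, 1, 0, 4, 8, 7, 3, 2, 1, 0, 4, 8, 7, 3, 2, 1, 0, 4, 8, 7, 3, 2, 1, 0, 4, 8, 7, 3, 2, 1, 0, 4, 8, 7, 3, 2, 1, 0, 4, 8,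 7, 3, 2, 1, 0, 4, 8, 7, 3, 2, 1, 0, 11, 4, 8, 7]) else (bif Nat.blt r 202 then [2, 1, 0, 4, 8, 7, 3, 2, 1, 0, 4, 8, 7, 3, 2, 1, 0, 4, 8, 7, 3, 2, 1, 0, 4, 8, 7, 3, 2, 1, 0, 4, 8, 7, 3, 2, 1, 0, 4, 8, 7, 3, 2, 1, 0, 4, 8, 7, 3, 2, 1, 0, 4, 8, 7, 3, 2, 1, 0, 11, 4, 8, 7, 3] else (bif Nat.blt r 203 then [1, 0, 4, 8, 7, 3, 2, 1, 0, 4, 8, 7, 3, 2, 1, 0, 4, 8, 7, 3, 2, 1, 0, 4, 8, 7, 3, 2, 1, 0, 4, 8, 7, 3, 2, 1, 0, 4, 8, 7, 3, 2, 1, 0, 4, 8, 7, 3, 2, 1, 0, 4, 8, 7, 3, 2, 1, 0, 11, 4, 8, 7, 3, 2] else [0, 4, 8, 7, 3, 2, 1, 0, 4, 8, 7, 3, 2, 1, 0, 4, 8, 7, 3, 2, 1, 0, 4, 8, 7, 3, 2, 1, 0, 4, 8, 7, 3, 2, 1, 0, 4, 8, 7, 3, 2, 1, 0, 4, 8, 7, 3, 2, 1, 0, 4, 8, 7, 3, 2, 1, 0, 11, 4, 8, 7, 3, 2, 1]))))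

def wds43 (r : Nat) : List Nat := (bif Nat.blt r 208 then (bif Nat.blt r 206 then (bif Nat.blt r 205 then [4, 8, 7, 3, 2, 1, 0, 4, 8, 7, 3, 2, 1, 0, 4, 8, 7, 3, 2, 1, 0, 4, 8, 7, 3, 2, 1, 0, 4, 8, 7, 3, 2, 1, 0, 4, 8, 7, 3, 2, 1, 0, 4, 8, 7, 3, 2, 1, 0, 4, 8, 7, 3, 2, 1, 0, 11, 4, 8, 7, 3, 2, 1, 0] else [8, 7, 3, 2, 1, 0, 4, 8, 7, 3, 2, 1, 0, 4, 8, 7, 3, 2, 1, 0, 4, 8, 7, 3, 2, 1, 0, 4, 8, 7, 3, 2, 1, 0, 4, 8, 7, 3, 2, 1, 0, 4, 8, 7, 3, 2, 1, 0, 4, 8, 7, 3, 2, 1, 0, 11, 4, 8, 7, 3, 2, 1, 0, 4]) else (bif Nat.blt r 207 then [7, 3, 2, 1, 0, 4, 8, 7, 3, 2, 1, 0, 4, 8, 7, 3, 2, 1, 0, 4, 8, 7, 3, 2, 1, 0, 4, 8, 7, 3, 2, 1, 0, 4, 8, 7, 3, 2, 1, 0, 4, 8, 7, 3, 2, 1, 0, 4, 8, 7, 3, 2, 1, 0, 11, 4,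 8, 7, 3, 2, 1, 0, 4, 8] else [3, 2, 1, 0, 4, 8, 7, 3, 2, 1, 0, 4, 8, 7, 3, 2, 1, 0, 4, 8, 7, 3, 2, 1, 0, 4, 8, 7, 3, 2, 1, 0, 4, 8, 7, 3, 2, 1, 0, 4, 8, 7, 3, 2, 1, 0, 4, 8, 7, 3, 2, 1, 0, 11, 4, 8, 7, 3, 2, 1, 0, 4, 8, 7])) else (bif Nat.blt r 210 then (bif Nat.blt r 209 then [2, 1, 0, 4, 8, 7, 3, 2, 1, 0, 4, 8, 7, 3, 2, 1, 0, 4, 8, 7, 3, 2, 1, 0, 4, 8, 7, 3, 2, 1, 0, 4, 8, 7, 3, 2, 1, 0, 4, 8, 7, 3, 2, 1, 0, 4, 8, 7, 3, 2, 1, 0, 11, 4, 8, 7, 3, 2, 1, 0, 4, 8, 7, 3] else [1, 0, 4, 8, 7, 3, 2, 1, 0, 4, 8, 7, 3, 2, 1, 0, 4, 8, 7, 3, 2, 1, 0, 4, 8, 7, 3, 2, 1, 0, 4, 8, 7, 3, 2, 1, 0, 4, 8, 7, 3, 2, 1, 0, 4, 8, 7, 3, 2, 1, 0, 11, 4, 8, 7, 3, 2, 1, 0, 4, 8, 7, 3, 2]) else (bif Nat.blt r 211 then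 [0, 4, 8, 7, 3, 2, 1, 0, 4, 8, 7, 3, 2, 1, 0, 4, 8, 7, 3, 2, 1, 0, 4, 8, 7, 3, 2, 1, 0, 4, 8, 7, 3, 2, 1, 0, 4, 8, 7, 3, 2, 1, 0, 4, 8, 7, 3, 2, 1, 0, 11, 4, 8, 7, 3, 2, 1, 0, 4, 8, 7, 3, 2, 1] else (bif Nat.blt r 212 then [4, 8, 7, 3, 2, 1, 0, 4, 8, 7, 3, 2, 1, 0, 4, 8, 7, 3, 2, 1, 0, 4, 8, 7, 3, 2, 1, 0, 4, 8, 7, 3, 2, 1, 0, 4, 8, 7, 3, 2, 1, 0, 4, 8, 7, 3, 2, 1, 0, 11, 4, 8, 7, 3, 2, 1, 0, 4, 8, 7, 3, 2, 1, 0] else [8, 7, 3, 2, 1, 0, 4, 8, 7, 3, 2, 1, 0, 4, 8, 7, 3, 2, 1, 0, 4, 8, 7, 3, 2, 1, 0, 4, 8, 7, 3, 2, 1, 0, 4, 8, 7, 3, 2, 1, 0, 4, 8, 7, 3, 2, 1, 0, 11, 4, 8, 7, 3, 2, 1, 0, 4, 8, 7, 3, 2, 1, 0, 4]))))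

def wds44 (r : Nat) : List Nat := bif Nat.blt r 204 then wds42 r else wds43 r

def wds45 (r : Nat) : List Nat := bif Nat.blt r 195 then wds41 r else wds44 r

def wds46 (r : Nat) : List Nat := bif Nat.blt r 177 then wds38 r else wds45 r

def wds47 (r : Nat) : List Nat := (bif Nat.blt r 217 then (bif Nat.blt r 215 then (bif Nat.blt r 214 then [7, 3, 2, 1, 0, 4, 8, 7, 3, 2, 1, 0, 4, 8, 7, 3, 2, 1, 0, 4, 8, 7, 3, 2, 1, 0, 4, 8, 7, 3, 2, 1, 0, 4, 8, 7, 3, 2, 1, 0, 4, 8, 7, 3, 2, 1, 0, 11, 4, 8, 7, 3, 2, 1, 0, 4, 8, 7, 3, 2, 1, 0, 4, 8] else [3, 2, 1, 0, 4, 8, 7, 3, 2, 1, 0, 4, 8, 7, 3, 2, 1, 0, 4, 8, 7, 3, 2, 1, 0, 4, 8, 7, 3, 2, 1, 0, 4, 8, 7, 3, 2, 1, 0, 4, 8, 7, 3, 2, 1, 0, 11, 4, 8, 7, 3, 2,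 1, 0, 4, 8, 7, 3, 2, 1, 0, 4, 8, 7]) else (bif Nat.blt r 216 then [2, 1, 0, 4, 8, 7, 3, 2, 1, 0, 4, 8, 7, 3, 2, 1, 0, 4, 8, 7, 3, 2, 1, 0, 4, 8, 7, 3, 2, 1, 0, 4, 8, 7, 3, 2, 1, 0, 4, 8, 7, 3, 2, 1, 0, 11, 4, 8, 7, 3, 2, 1, 0, 4, 8, 7, 3, 2, 1, 0, 4, 8, 7, 3] else [1, 0, 4, 8, 7, 3, 2, 1, 0, 4, 8, 7, 3, 2, 1, 0, 4, 8, 7, 3, 2, 1, 0, 4, 8, 7, 3, 2, 1, 0, 4, 8, 7, 3, 2, 1, 0, 4, 8, 7, 3, 2, 1, 0, 11, 4, 8, 7, 3, 2, 1, 0, 4, 8, 7, 3, 2, 1, 0, 4, 8, 7, 3, 2])) else (bif Nat.blt r 219 then (bif Nat.blt r 218 then [0, 4, 8, 7, 3, 2, 1, 0, 4, 8, 7, 3, 2, 1, 0, 4, 8, 7, 3, 2, 1, 0, 4, 8, 7, 3, 2, 1, 0, 4, 8, 7, 3, 2, 1, 0, 4, 8, 7, 3, 2, 1, 0, 11, 4, 8, 7, 3, 2, 1, 0, 4, 8, 7, 3, 2, 1, 0, 4, 8, 7, 3,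 2, 1] else [4, 8, 7, 3, 2, 1, 0, 4, 8, 7, 3, 2, 1, 0, 4, 8, 7, 3, 2, 1, 0, 4, 8, 7, 3, 2, 1, 0, 4, 8, 7, 3, 2, 1, 0, 4, 8, 7, 3, 2, 1, 0, 11, 4, 8, 7, 3, 2, 1, 0, 4, 8, 7, 3, 2, 1, 0, 4, 8, 7, 3, 2, 1, 0]) else (bif Nat.blt r 220 then [8, 7, 3, 2, 1, 0, 4, 8, 7, 3, 2, 1, 0, 4, 8, 7, 3, 2, 1, 0, 4, 8, 7, 3, 2, 1, 0, 4, 8, 7, 3, 2, 1, 0, 4, 8, 7, 3, 2, 1, 0, 11, 4, 8, 7, 3, 2, 1, 0, 4, 8, 7, 3, 2, 1, 0, 4, 8, 7, 3, 2, 1, 0, 4] else (bif Nat.blt r 221 then [7, 3, 2, 1, 0, 4, 8, 7, 3, 2, 1, 0, 4, 8, 7, 3, 2, 1, 0, 4, 8, 7, 3, 2, 1, 0, 4, 8, 7, 3, 2, 1, 0, 4, 8, 7, 3, 2, 1, 0, 11, 4, 8, 7, 3, 2, 1, 0, 4, 8, 7, 3, 2, 1, 0, 4, 8, 7, 3, 2, 1, 0, 4, 8] else [3, 2, 1, 0, 4, 8, 7, 3, 2, 1, 0, 4, 8, 7,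 3, 2, 1, 0, 4, 8, 7, 3, 2, 1, 0, 4, 8, 7, 3, 2, 1, 0, 4, 8, 7, 3, 2, 1, 0, 11, 4, 8, 7, 3, 2, 1, 0, 4, 8, 7, 3, 2, 1, 0, 4, 8, 7, 3, 2, 1, 0, 4, 8, 7]))))

def wds48 (r : Nat) : List Nat := (bif Nat.blt r 226 then (bif Nat.blt r 224 then (bif Nat.blt r 223 then [2, 1, 0, 4, 8, 7, 3, 2, 1, 0, 4, 8, 7, 3, 2, 1, 0, 4, 8, 7, 3, 2, 1, 0, 4, 8, 7, 3, 2, 1, 0, 4, 8, 7, 3, 2, 1, 0, 11, 4, 8, 7, 3, 2, 1, 0, 4, 8, 7, 3, 2, 1, 0, 4, 8, 7, 3, 2, 1, 0, 4, 8, 7, 3] else [1, 0, 4, 8, 7, 3, 2, 1, 0, 4, 8, 7, 3, 2, 1, 0, 4, 8, 7, 3, 2, 1, 0, 4, 8, 7, 3, 2, 1, 0, 4, 8, 7, 3, 2, 1, 0, 11, 4, 8, 7, 3, 2, 1, 0, 4, 8, 7, 3, 2, 1, 0, 4, 8, 7, 3, 2, 1, 0, 4, 8, 7, 3, 2]) else (bif Nat.blt r 225 then [0, 4, 8, 7, 3,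 2, 1, 0, 4, 8, 7, 3, 2, 1, 0, 4, 8, 7, 3, 2, 1, 0, 4, 8, 7, 3, 2, 1, 0, 4, 8, 7, 3, 2, 1, 0, 11, 4, 8, 7, 3, 2, 1, 0, 4, 8, 7, 3, 2, 1, 0, 4, 8, 7, 3, 2, 1, 0, 4, 8, 7, 3, 2, 1] else [4, 8, 7, 3, 2, 1, 0, 4, 8, 7, 3, 2, 1, 0, 4, 8, 7, 3, 2, 1, 0, 4, 8, 7, 3, 2, 1, 0, 4, 8, 7, 3, 2, 1, 0, 11, 4, 8, 7, 3, 2, 1, 0, 4, 8, 7, 3, 2, 1, 0, 4, 8, 7, 3, 2, 1, 0, 4, 8, 7, 3, 2, 1, 0])) else (bif Nat.blt r 228 then (bif Nat.blt r 227 then [8, 7, 3, 2, 1, 0, 4, 8, 7, 3, 2, 1, 0, 4, 8, 7, 3, 2, 1, 0, 4, 8, 7, 3, 2, 1, 0, 4, 8, 7, 3, 2, 1, 0, 11, 4, 8, 7, 3, 2, 1, 0, 4, 8, 7, 3, 2, 1, 0, 4, 8, 7, 3, 2, 1, 0, 4, 8, 7, 3, 2, 1, 0, 4] else [7, 3, 2, 1, 0, 4, 8, 7, 3, 2, 1, 0, 4, 8, 7, 3, 2, 1, 0, 4, 8, 7, 3,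 2, 1, 0, 4, 8, 7, 3, 2, 1, 0, 11, 4, 8, 7, 3, 2, 1, 0, 4, 8, 7, 3, 2, 1, 0, 4, 8, 7, 3, 2, 1, 0, 4, 8, 7, 3, 2, 1, 0, 4, 8]) else (bif Nat.blt r 229 then [3, 2, 1, 0, 4, 8, 7, 3, 2, 1, 0, 4, 8, 7, 3, 2, 1, 0, 4, 8, 7, 3, 2, 1, 0, 4, 8, 7, 3, 2, 1, 0, 11, 4, 8, 7, 3, 2, 1, 0, 4, 8, 7, 3, 2, 1, 0, 4, 8, 7, 3, 2, 1, 0, 4, 8, 7, 3, 2, 1, 0, 4, 8, 7] else (bif Nat.blt r 230 then [2, 1, 0, 4, 8, 7, 3, 2, 1, 0, 4, 8, 7, 3, 2, 1, 0, 4, 8, 7, 3, 2, 1, 0, 4, 8, 7, 3, 2, 1, 0, 11, 4, 8, 7, 3, 2, 1, 0, 4, 8, 7, 3, 2, 1, 0, 4, 8, 7, 3, 2, 1, 0, 4, 8, 7, 3, 2, 1, 0, 4, 8, 7, 3] else [1, 0, 4, 8, 7, 3, 2, 1, 0, 4, 8, 7, 3, 2, 1, 0, 4, 8, 7, 3, 2, 1, 0, 4, 8, 7, 3, 2, 1, 0, 11, 4, 8, 7, 3, 2, 1, 0, 4, 8, 7,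 3, 2, 1, 0, 4, 8, 7, 3, 2, 1, 0, 4, 8, 7, 3, 2, 1, 0, 4, 8, 7, 3, 2]))))

def wds49 (r : Nat) : List Nat := bif Nat.blt r 222 then wds47 r else wds48 r

def wds50 (r : Nat) : List Nat := (bif Nat.blt r 235 then (bif Nat.blt r 233 then (bif Nat.blt r 232 then [0, 4, 8, 7, 3, 2, 1, 0, 4, 8, 7, 3, 2, 1, 0, 4, 8, 7, 3, 2, 1, 0, 4, 8, 7, 3, 2, 1, 0, 11, 4, 8, 7, 3, 2, 1, 0, 4, 8, 7, 3, 2, 1, 0, 4, 8, 7, 3, 2, 1, 0, 4, 8, 7, 3, 2, 1, 0, 4, 8, 7, 3, 2, 1] else [4, 8, 7, 3, 2, 1, 0, 4, 8, 7, 3, 2, 1, 0, 4, 8, 7, 3, 2, 1, 0, 4, 8, 7, 3, 2, 1, 0, 11, 4, 8, 7, 3, 2, 1, 0, 4, 8, 7, 3, 2, 1, 0, 4, 8, 7, 3, 2, 1, 0, 4, 8, 7, 3, 2, 1, 0, 4, 8, 7, 3, 2, 1, 0]) else (bif Nat.blt r 234 then [8, 7, 3, 2, 1, 0,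 4, 8, 7, 3, 2, 1, 0, 4, 8, 7, 3, 2, 1, 0, 4, 8, 7, 3, 2, 1, 0, 11, 4, 8, 7, 3, 2, 1, 0, 4, 8, 7, 3, 2, 1, 0, 4, 8, 7, 3, 2, 1, 0, 4, 8, 7, 3, 2, 1, 0, 4, 8, 7, 3, 2, 1, 0, 4] else [7, 3, 2, 1, 0, 4, 8, 7, 3, 2, 1, 0, 4, 8, 7, 3, 2, 1, 0, 4, 8, 7, 3, 2, 1, 0, 11, 4, 8, 7, 3, 2, 1, 0, 4, 8, 7, 3, 2, 1, 0, 4, 8, 7, 3, 2, 1, 0, 4, 8, 7, 3, 2, 1, 0, 4, 8, 7, 3, 2, 1, 0, 4, 8])) else (bif Nat.blt r 237 then (bif Nat.blt r 236 then [3, 2, 1, 0, 4, 8, 7, 3, 2, 1, 0, 4, 8, 7, 3, 2, 1, 0, 4, 8, 7, 3, 2, 1, 0, 11, 4, 8, 7, 3, 2, 1, 0, 4, 8, 7, 3, 2, 1, 0, 4, 8, 7, 3, 2, 1, 0, 4, 8, 7, 3, 2, 1, 0, 4, 8, 7, 3, 2, 1, 0, 4, 8, 7] else [2, 1, 0, 4, 8, 7, 3, 2, 1, 0, 4, 8, 7, 3, 2, 1, 0, 4, 8, 7, 3, 2, 1, 0,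 11, 4, 8, 7, 3, 2, 1, 0, 4, 8, 7, 3, 2, 1, 0, 4, 8, 7, 3, 2, 1, 0, 4, 8, 7, 3, 2, 1, 0, 4, 8, 7, 3, 2, 1, 0, 4, 8, 7, 3]) else (bif Nat.blt r 238 then [1, 0, 4, 8, 7, 3, 2, 1, 0, 4, 8, 7, 3, 2, 1, 0, 4, 8, 7, 3, 2, 1, 0, 11, 4, 8, 7, 3, 2, 1, 0, 4, 8, 7, 3, 2, 1, 0, 4, 8, 7, 3, 2, 1, 0, 4, 8, 7, 3, 2, 1, 0, 4, 8, 7, 3, 2, 1, 0, 4, 8, 7, 3, 2] else (bif Nat.blt r 239 then [0, 4, 8, 7, 3, 2, 1, 0, 4, 8, 7, 3, 2, 1, 0, 4, 8, 7, 3, 2, 1, 0, 11, 4, 8, 7, 3, 2, 1, 0, 4, 8, 7, 3, 2, 1, 0, 4, 8, 7, 3, 2, 1, 0, 4, 8, 7, 3, 2, 1, 0, 4, 8, 7, 3, 2, 1, 0, 4, 8, 7, 3, 2, 1] else [4, 8, 7, 3, 2, 1, 0, 4, 8, 7, 3, 2, 1, 0, 4, 8, 7, 3, 2, 1, 0, 11, 4, 8, 7, 3, 2, 1, 0, 4, 8, 7, 3, 2, 1, 0, 4, 8, 7, 3, 2, 1,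 0, 4, 8, 7, 3, 2, 1, 0, 4, 8, 7, 3, 2, 1, 0, 4, 8, 7, 3, 2, 1, 0]))))

def wds51 (r : Nat) : List Nat := (bif Nat.blt r 244 then (bif Nat.blt r 242 then (bif Nat.blt r 241 then [8, 7, 3, 2, 1, 0, 4, 8, 7, 3, 2, 1, 0, 4, 8, 7, 3, 2, 1, 0, 11, 4, 8, 7, 3, 2, 1, 0, 4, 8, 7, 3, 2, 1, 0, 4, 8, 7, 3, 2, 1, 0, 4, 8, 7, 3, 2, 1, 0, 4, 8, 7, 3, 2, 1, 0, 4, 8, 7, 3, 2, 1, 0, 4] else [7, 3, 2, 1, 0, 4, 8, 7, 3, 2, 1, 0, 4, 8, 7, 3, 2, 1, 0, 11, 4, 8, 7, 3, 2, 1, 0, 4, 8, 7, 3, 2, 1, 0, 4, 8, 7, 3, 2, 1, 0, 4, 8, 7, 3, 2, 1, 0, 4, 8, 7, 3, 2, 1, 0, 4, 8, 7, 3, 2, 1, 0, 4, 8]) else (bif Nat.blt r 243 then [3, 2, 1, 0, 4, 8, 7, 3, 2, 1, 0, 4, 8, 7, 3, 2, 1, 0, 11, 4, 8, 7, 3, 2, 1, 0, 4, 8, 7, 3, 2, 1, 0,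 4, 8, 7, 3, 2, 1, 0, 4, 8, 7, 3, 2, 1, 0, 4, 8, 7, 3, 2, 1, 0, 4, 8, 7, 3, 2, 1, 0, 4, 8, 7] else [2, 1, 0, 4, 8, 7, 3, 2, 1, 0, 4, 8, 7, 3, 2, 1, 0, 11, 4, 8, 7, 3, 2, 1, 0, 4, 8, 7, 3, 2, 1, 0, 4, 8, 7, 3, 2, 1, 0, 4, 8, 7, 3, 2, 1, 0, 4, 8, 7, 3, 2, 1, 0, 4, 8, 7, 3, 2, 1, 0, 4, 8, 7, 3])) else (bif Nat.blt r 246 then (bif Nat.blt r 245 then [1, 0, 4, 8, 7, 3, 2, 1, 0, 4, 8, 7, 3, 2, 1, 0, 11, 4, 8, 7, 3, 2, 1, 0, 4, 8, 7, 3, 2, 1, 0, 4, 8, 7, 3, 2, 1, 0, 4, 8, 7, 3, 2, 1, 0, 4, 8, 7, 3, 2, 1, 0, 4, 8, 7, 3, 2, 1, 0, 4, 8, 7, 3, 2] else [0, 4, 8, 7, 3, 2, 1, 0, 4, 8, 7, 3, 2, 1, 0, 11, 4, 8, 7, 3, 2, 1, 0, 4, 8, 7, 3, 2, 1, 0, 4, 8, 7, 3, 2, 1, 0, 4, 8, 7, 3, 2, 1, 0, 4, 8, 7, 3, 2, 1, 0,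 4, 8, 7, 3, 2, 1, 0, 4, 8, 7, 3, 2, 1]) else (bif Nat.blt r 247 then [4, 8, 7, 3, 2, 1, 0, 4, 8, 7, 3, 2, 1, 0, 11, 4, 8, 7, 3, 2, 1, 0, 4, 8, 7, 3, 2, 1, 0, 4, 8, 7, 3, 2, 1, 0, 4, 8, 7, 3, 2, 1, 0, 4, 8, 7, 3, 2, 1, 0, 4, 8, 7, 3, 2, 1, 0, 4, 8, 7, 3, 2, 1, 0] else (bif Nat.blt r 248 then [8, 7, 3, 2, 1, 0, 4, 8, 7, 3, 2, 1, 0, 11, 4, 8, 7, 3, 2, 1, 0, 4, 8, 7, 3, 2, 1, 0, 4, 8, 7, 3, 2, 1, 0, 4, 8, 7, 3, 2, 1, 0, 4, 8, 7, 3, 2, 1, 0, 4, 8, 7, 3, 2, 1, 0, 4, 8, 7, 3, 2, 1, 0, 4] else [7, 3, 2, 1, 0, 4, 8, 7, 3, 2, 1, 0, 11, 4, 8, 7, 3, 2, 1, 0, 4, 8, 7, 3, 2, 1, 0, 4, 8, 7, 3, 2, 1, 0, 4, 8, 7, 3, 2, 1, 0, 4, 8, 7, 3, 2, 1, 0, 4, 8, 7, 3, 2, 1, 0, 4, 8, 7, 3, 2, 1, 0, 4, 8]))))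

def wds52 (r : Nat) : List Nat := bif Nat.blt r 240 then wds50 r else wds51 r

def wds53 (r : Nat) : List Nat := bif Nat.blt r 231 then wds49 r else wds52 r

def wds54 (r : Nat) : List Nat := (bif Nat.blt r 253 then (bif Nat.blt r 251 then (bif Nat.blt r 250 then [3, 2, 1, 0, 4, 8, 7, 3, 2, 1, 0, 11, 4, 8, 7, 3, 2, 1, 0, 4, 8, 7, 3, 2, 1, 0, 4, 8, 7, 3, 2, 1, 0, 4, 8, 7, 3, 2, 1, 0, 4, 8, 7, 3, 2, 1, 0, 4, 8, 7, 3, 2, 1, 0, 4, 8, 7, 3, 2, 1, 0, 4, 8, 7] else [2, 1, 0, 4, 8, 7, 3, 2, 1, 0, 11, 4, 8, 7, 3, 2, 1, 0, 4, 8, 7, 3, 2, 1, 0, 4, 8, 7, 3, 2, 1, 0, 4, 8, 7, 3, 2, 1, 0, 4, 8, 7, 3, 2, 1, 0, 4, 8, 7, 3, 2, 1, 0, 4, 8, 7, 3, 2, 1, 0, 4, 8, 7, 3]) else (bif Nat.blt r 252 then [1, 0, 4, 8,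 7, 3, 2, 1, 0, 11, 4, 8, 7, 3, 2, 1, 0, 4, 8, 7, 3, 2, 1, 0, 4, 8, 7, 3, 2, 1, 0, 4, 8, 7, 3, 2, 1, 0, 4, 8, 7, 3, 2, 1, 0, 4, 8, 7, 3, 2, 1, 0, 4, 8, 7, 3, 2, 1, 0, 4, 8, 7, 3, 2] else [0, 4, 8, 7, 3, 2, 1, 0, 11, 4, 8, 7, 3, 2, 1, 0, 4, 8, 7, 3, 2, 1, 0, 4, 8, 7, 3, 2, 1, 0, 4, 8, 7, 3, 2, 1, 0, 4, 8, 7, 3, 2, 1, 0, 4, 8, 7, 3, 2, 1, 0, 4, 8, 7, 3, 2, 1, 0, 4, 8, 7, 3, 2, 1])) else (bif Nat.blt r 255 then (bif Nat.blt r 254 then [4, 8, 7, 3, 2, 1, 0, 11, 4, 8, 7, 3, 2, 1, 0, 4, 8, 7, 3, 2, 1, 0, 4, 8, 7, 3, 2, 1, 0, 4, 8, 7, 3, 2, 1, 0, 4, 8, 7, 3, 2, 1, 0, 4, 8, 7, 3, 2, 1, 0, 4, 8, 7, 3, 2, 1, 0, 4, 8, 7, 3, 2, 1, 0] else [8, 7, 3, 2, 1, 0, 11, 4, 8, 7, 3, 2, 1, 0, 4, 8, 7, 3, 2, 1, 0, 4,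 8, 7, 3, 2, 1, 0, 4, 8, 7, 3, 2, 1, 0, 4, 8, 7, 3, 2, 1, 0, 4, 8, 7, 3, 2, 1, 0, 4, 8, 7, 3, 2, 1, 0, 4, 8, 7, 3, 2, 1, 0, 4]) else (bif Nat.blt r 256 then [7, 3, 2, 1, 0, 11, 4, 8, 7, 3, 2, 1, 0, 4, 8, 7, 3, 2, 1, 0, 4, 8, 7, 3, 2, 1, 0, 4, 8, 7, 3, 2, 1, 0, 4, 8, 7, 3, 2, 1, 0, 4, 8, 7, 3, 2, 1, 0, 4, 8, 7, 3, 2, 1, 0, 4, 8, 7, 3, 2, 1, 0, 4, 8] else (bif Nat.blt r 257 then [3, 2, 1, 0, 11, 4, 8, 7, 3, 2, 1, 0, 4, 8, 7, 3, 2, 1, 0, 4, 8, 7, 3, 2, 1, 0, 4, 8, 7, 3, 2, 1, 0, 4, 8, 7, 3, 2, 1, 0, 4, 8, 7, 3, 2, 1, 0, 4, 8, 7, 3, 2, 1, 0, 4, 8, 7, 3, 2, 1, 0, 4, 8, 7] else [2, 1, 0, 11, 4, 8, 7, 3, 2, 1, 0, 4, 8, 7, 3, 2, 1, 0, 4, 8, 7, 3, 2, 1, 0, 4, 8, 7, 3, 2, 1, 0, 4, 8, 7, 3, 2, 1, 0, 4,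 8, 7, 3, 2, 1, 0, 4, 8, 7, 3, 2, 1, 0, 4, 8, 7, 3, 2, 1, 0, 4, 8, 7, 3]))))

def wds55 (r : Nat) : List Nat := (bif Nat.blt r 262 then (bif Nat.blt r 260 then (bif Nat.blt r 259 then [1, 0, 11, 4, 8, 7, 3, 2, 1, 0, 4, 8, 7, 3, 2, 1, 0, 4, 8, 7, 3, 2, 1, 0, 4, 8, 7, 3, 2, 1, 0, 4, 8, 7, 3, 2, 1, 0, 4, 8, 7, 3, 2, 1, 0, 4, 8, 7, 3, 2, 1, 0, 4, 8, 7, 3, 2, 1, 0, 4, 8, 7, 3, 2] else [0, 11, 4, 8, 7, 3, 2, 1, 0, 4, 8, 7, 3, 2, 1, 0, 4, 8, 7, 3, 2, 1, 0, 4, 8, 7, 3, 2, 1, 0, 4, 8, 7, 3, 2, 1, 0, 4, 8, 7, 3, 2, 1, 0, 4, 8, 7, 3, 2, 1, 0, 4, 8, 7, 3, 2, 1, 0, 4, 8, 7, 3, 2, 1]) else (bif Nat.blt r 261 then [3, 2, 1, 0, 10, 11, 3, 4, 5, 6, 9, 3, 7, 8, 3, 2, 1, 0, 10, 11, 3, 4, 5, 6, 9, 3, 7, 8, 3, 2,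 1, 0, 10, 11, 3, 4, 5, 6, 9, 3, 7, 8, 3, 2, 1, 0, 10, 11, 3, 4, 5, 6, 9, 3, 7, 8, 3, 2, 1, 0, 10, 11, 3, 4, 5, 6, 9, 3, 7, 8, 3, 2, 1, 0, 10, 11, 3, 4, 5, 6, 9, 3, 7, 8, 3, 2, 1, 0, 10, 11, 3, 4, 5, 6, 9, 3, 7, 8, 3, 2, 1, 0, 10, 11, 3, 4, 5, 6, 9, 3, 7, 8, 3, 2, 1, 0, 10, 11, 3, 4, 5, 6, 9, 3, 7, 8, 3, 2, 1, 0, 10, 11, 3, 4, 5, 6, 9, 3, 7, 8, 3, 2, 1, 0, 10, 11, 3, 4, 5, 6, 9, 3, 7, 8, 3, 2, 1, 0, 10, 11, 3, 4, 5, 6, 9, 3, 7, 8, 3, 2, 1, 0, 10, 11, 3, 4, 5, 6, 9, 3, 7, 8, 3, 2, 1, 0, 10, 11, 3, 4, 5, 6, 9, 3, 7, 8, 3, 2, 1, 0, 10, 11, 3, 4, 5, 6, 9, 3, 7, 8, 3, 2, 1, 0, 10, 11, 3, 4, 5, 6, 9, 3, 7, 8, 3, 2, 1, 0, 10, 11, 3, 4, 5, 6, 9, 3, 7, 8] else [2, 1, 0, 10, 11, 3, 4, 5, 6, 9, 3, 7, 8,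 3, 2, 1, 0, 10, 11, 3, 4, 5, 6, 9, 3, 7, 8, 3, 2, 1, 0, 10, 11, 3, 4, 5, 6, 9, 3, 7, 8, 3, 2, 1, 0, 10, 11, 3, 4, 5, 6, 9, 3, 7, 8, 3, 2, 1, 0, 10, 11, 3, 4, 5, 6, 9, 3, 7, 8, 3, 2, 1, 0, 10, 11, 3, 4, 5, 6, 9, 3, 7, 8, 3, 2, 1, 0, 10, 11, 3, 4, 5, 6, 9, 3, 7, 8, 3, 2, 1, 0, 10, 11, 3, 4, 5, 6, 9, 3, 7, 8, 3, 2, 1, 0, 10, 11, 3, 4, 5, 6, 9, 3, 7, 8, 3, 2, 1, 0, 10, 11, 3, 4, 5, 6, 9, 3, 7, 8, 3, 2, 1, 0, 10, 11, 3, 4, 5, 6, 9, 3, 7, 8, 3, 2, 1, 0, 10, 11, 3, 4, 5, 6, 9, 3, 7, 8, 3, 2, 1, 0, 10, 11, 3, 4, 5, 6, 9, 3, 7, 8, 3, 2, 1, 0, 10, 11, 3, 4, 5, 6, 9, 3, 7, 8, 3, 2, 1, 0, 10, 11, 3, 4, 5, 6, 9, 3, 7, 8, 3, 2, 1, 0, 10, 11, 3, 4, 5, 6, 9, 3, 7, 8, 3, 2, 1, 0, 10, 11, 3, 4, 5, 6, 9, 3, 7,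 8, 3])) else (bif Nat.blt r 264 then (bif Nat.blt r 263 then [1, 0, 10, 11, 3, 4, 5, 6, 9, 3, 7, 8, 3, 2, 1, 0, 10, 11, 3, 4, 5, 6, 9, 3, 7, 8, 3, 2, 1, 0, 10, 11, 3, 4, 5, 6, 9, 3, 7, 8, 3, 2, 1, 0, 10, 11, 3, 4, 5, 6, 9, 3, 7, 8, 3, 2, 1, 0, 10, 11, 3, 4, 5, 6, 9, 3, 7, 8, 3, 2, 1, 0, 10, 11, 3, 4, 5, 6, 9, 3, 7, 8, 3, 2, 1, 0, 10, 11, 3, 4, 5, 6, 9, 3, 7, 8, 3, 2, 1, 0, 10, 11, 3, 4, 5, 6, 9, 3, 7, 8, 3, 2, 1, 0, 10, 11, 3, 4, 5, 6, 9, 3, 7, 8, 3, 2, 1, 0, 10, 11, 3, 4, 5, 6, 9, 3, 7, 8, 3, 2, 1, 0, 10, 11, 3, 4, 5, 6, 9, 3, 7, 8, 3, 2, 1, 0, 10, 11, 3, 4, 5, 6, 9, 3, 7, 8, 3, 2, 1, 0, 10, 11, 3, 4, 5, 6, 9, 3, 7, 8, 3, 2, 1, 0, 10, 11, 3, 4, 5, 6, 9, 3, 7, 8, 3, 2, 1, 0, 10, 11, 3, 4, 5,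 6, 9, 3, 7, 8, 3, 2, 1, 0, 10, 11, 3, 4, 5, 6, 9, 3, 7, 8, 3, 2, 1, 0, 10, 11, 3, 4, 5, 6, 9, 3, 7, 8, 3, 2] else [0, 10, 11, 3, 4, 5, 6, 9, 3, 7, 8, 3, 2, 1, 0, 10, 11, 3, 4, 5, 6, 9, 3, 7, 8, 3, 2, 1, 0, 10, 11, 3, 4, 5, 6, 9, 3, 7, 8, 3, 2, 1, 0, 10, 11, 3, 4, 5, 6, 9, 3, 7, 8, 3, 2, 1, 0, 10, 11, 3, 4, 5, 6, 9, 3, 7, 8, 3, 2, 1, 0, 10, 11, 3, 4, 5, 6, 9, 3, 7, 8, 3, 2, 1, 0, 10, 11, 3, 4, 5, 6, 9, 3, 7, 8, 3, 2, 1, 0, 10, 11, 3, 4, 5, 6, 9, 3, 7, 8, 3, 2, 1, 0, 10, 11, 3, 4, 5, 6, 9, 3, 7, 8, 3, 2, 1, 0, 10, 11, 3, 4, 5, 6, 9, 3, 7, 8, 3, 2, 1, 0, 10, 11, 3, 4, 5, 6, 9, 3, 7, 8, 3, 2, 1, 0, 10, 11, 3, 4, 5, 6, 9, 3, 7, 8, 3, 2, 1, 0, 10, 11, 3, 4, 5, 6, 9, 3, 7, 8, 3, 2, 1, 0, 10, 11, 3,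 4, 5, 6, 9, 3, 7, 8, 3, 2, 1, 0, 10, 11, 3, 4, 5, 6, 9, 3, 7, 8, 3, 2, 1, 0, 10, 11, 3, 4, 5, 6, 9, 3, 7, 8, 3, 2, 1, 0, 10, 11, 3, 4, 5, 6, 9, 3, 7, 8, 3, 2, 1]) else (bif Nat.blt r 265 then [10, 11, 3, 4, 5, 6, 9, 3, 7, 8, 3, 2, 1, 0, 10, 11, 3, 4, 5, 6, 9, 3, 7, 8, 3, 2, 1, 0, 10, 11, 3, 4, 5, 6, 9, 3, 7, 8, 3, 2, 1, 0, 10, 11, 3, 4, 5, 6, 9, 3, 7, 8, 3, 2, 1, 0, 10, 11, 3, 4, 5, 6, 9, 3, 7, 8, 3, 2, 1, 0, 10, 11, 3, 4, 5, 6, 9, 3, 7, 8, 3, 2, 1, 0, 10, 11, 3, 4, 5, 6, 9, 3, 7, 8, 3, 2, 1, 0, 10, 11, 3, 4, 5, 6, 9, 3, 7, 8, 3, 2, 1, 0, 10, 11, 3, 4, 5, 6, 9, 3, 7, 8, 3, 2, 1, 0, 10, 11, 3, 4, 5, 6, 9, 3, 7, 8, 3, 2, 1, 0, 10, 11, 3, 4, 5, 6, 9, 3, 7, 8, 3, 2, 1, 0, 10, 11, 3, 4, 5, 6, 9,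 3, 7, 8, 3, 2, 1, 0, 10, 11, 3, 4, 5, 6, 9, 3, 7, 8, 3, 2, 1, 0, 10, 11, 3, 4, 5, 6, 9, 3, 7, 8, 3, 2, 1, 0, 10, 11, 3, 4, 5, 6, 9, 3, 7, 8, 3, 2, 1, 0, 10, 11, 3, 4, 5, 6, 9, 3, 7, 8, 3, 2, 1, 0, 10, 11, 3, 4, 5, 6, 9, 3, 7, 8, 3, 2, 1, 0] else (bif Nat.blt r 266 then [11, 3, 4, 5, 6, 9, 3, 7, 8, 3, 2, 1, 0, 10, 11, 3, 4, 5, 6, 9, 3, 7, 8, 3, 2, 1, 0, 10, 11, 3, 4, 5, 6, 9, 3, 7, 8, 3, 2, 1, 0, 10, 11, 3, 4, 5, 6, 9, 3, 7, 8, 3, 2, 1, 0, 10, 11, 3, 4, 5, 6, 9, 3, 7, 8, 3, 2, 1, 0, 10, 11, 3, 4, 5, 6, 9, 3, 7, 8, 3, 2, 1, 0, 10, 11, 3, 4, 5, 6, 9, 3, 7, 8, 3, 2, 1, 0, 10, 11, 3, 4, 5, 6, 9, 3, 7, 8, 3, 2, 1, 0, 10, 11, 3, 4, 5, 6, 9, 3, 7, 8, 3, 2, 1, 0, 10, 11, 3, 4, 5, 6, 9, 3, 7, 8, 3, 2,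 1, 0, 10, 11, 3, 4, 5, 6, 9, 3, 7, 8, 3, 2, 1, 0, 10, 11, 3, 4, 5, 6, 9, 3, 7, 8, 3, 2, 1, 0, 10, 11, 3, 4, 5, 6, 9, 3, 7, 8, 3, 2, 1, 0, 10, 11, 3, 4, 5, 6, 9, 3, 7, 8, 3, 2, 1, 0, 10, 11, 3, 4, 5, 6, 9, 3, 7, 8, 3, 2, 1, 0, 10, 11, 3, 4, 5, 6, 9, 3, 7, 8, 3, 2, 1, 0, 10, 11, 3, 4, 5, 6, 9, 3, 7, 8, 3, 2, 1, 0, 10] else [3, 4, 5, 6, 9, 3, 7, 8, 3, 2, 1, 0, 10, 11, 3, 4, 5, 6, 9, 3, 7, 8, 3, 2, 1, 0, 10, 11, 3, 4, 5, 6, 9, 3, 7, 8, 3, 2, 1, 0, 10, 11, 3, 4, 5, 6, 9, 3, 7, 8, 3, 2, 1, 0, 10, 11, 3, 4, 5, 6, 9, 3, 7, 8, 3, 2, 1, 0, 10, 11, 3, 4, 5, 6, 9, 3, 7, 8, 3, 2, 1, 0, 10, 11, 3, 4, 5, 6, 9, 3, 7, 8, 3, 2, 1, 0, 10, 11, 3, 4, 5, 6, 9, 3, 7, 8, 3, 2, 1, 0, 10, 11, 3, 4, 5, 6, 9, 3, 7, 8,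 3, 2, 1, 0, 10, 11, 3, 4, 5, 6, 9, 3, 7, 8, 3, 2, 1, 0, 10, 11, 3, 4, 5, 6, 9, 3, 7, 8, 3, 2, 1, 0, 10, 11, 3, 4, 5, 6, 9, 3, 7, 8, 3, 2, 1, 0, 10, 11, 3, 4, 5, 6, 9, 3, 7, 8, 3, 2, 1, 0, 10, 11, 3, 4, 5, 6, 9, 3, 7, 8, 3, 2, 1, 0, 10, 11, 3, 4, 5, 6, 9, 3, 7, 8, 3, 2, 1, 0, 10, 11, 3, 4, 5, 6, 9, 3, 7, 8, 3, 2, 1, 0, 10, 11, 3, 4, 5, 6, 9, 3, 7, 8, 3, 2, 1, 0, 10, 11]))))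

def wds56 (r : Nat) : List Nat := bif Nat.blt r 258 then wds54 r else wds55 r

def wds57 (r : Nat) : List Nat := (bif Nat.blt r 271 then (bif Nat.blt r 269 then (bif Nat.blt r 268 then [4, 5, 6, 9, 3, 7, 8, 3, 2, 1, 0, 10, 11, 3, 4, 5, 6, 9, 3, 7, 8, 3, 2, 1, 0, 10, 11, 3, 4, 5, 6, 9, 3, 7, 8, 3, 2, 1, 0, 10, 11, 3, 4, 5, 6, 9, 3, 7, 8, 3, 2, 1, 0, 10, 11, 3, 4, 5, 6, 9, 3, 7, 8, 3, 2, 1, 0, 10, 11, 3, 4, 5, 6, 9, 3, 7, 8, 3, 2, 1, 0, 10, 11, 3, 4, 5, 6, 9, 3, 7, 8, 3, 2, 1, 0, 10, 11, 3, 4, 5, 6, 9, 3, 7, 8, 3, 2, 1, 0, 10, 11, 3, 4, 5, 6, 9, 3, 7, 8, 3, 2, 1, 0, 10, 11, 3, 4, 5, 6, 9, 3, 7, 8, 3, 2, 1, 0, 10, 11, 3, 4, 5, 6, 9, 3, 7, 8, 3, 2, 1, 0, 10, 11, 3, 4, 5, 6, 9, 3, 7, 8, 3, 2, 1,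 0, 10, 11, 3, 4, 5, 6, 9, 3, 7, 8, 3, 2, 1, 0, 10, 11, 3, 4, 5, 6, 9, 3, 7, 8, 3, 2, 1, 0, 10, 11, 3, 4, 5, 6, 9, 3, 7, 8, 3, 2, 1, 0, 10, 11, 3, 4, 5, 6, 9, 3, 7, 8, 3, 2, 1, 0, 10, 11, 3, 4, 5, 6, 9, 3, 7, 8, 3, 2, 1, 0, 10, 11, 3] else [5, 6, 9, 3, 7, 8, 3, 2, 1, 0, 10, 11, 3, 4, 5, 6, 9, 3, 7, 8, 3, 2, 1, 0, 10, 11, 3, 4, 5, 6, 9, 3, 7, 8, 3, 2, 1, 0, 10, 11, 3, 4, 5, 6, 9, 3, 7, 8, 3, 2, 1, 0, 10, 11, 3, 4, 5, 6, 9, 3, 7, 8, 3, 2, 1, 0, 10, 11, 3, 4, 5, 6, 9, 3, 7, 8, 3, 2, 1, 0, 10, 11, 3, 4, 5, 6, 9, 3, 7, 8, 3, 2, 1, 0, 10, 11, 3, 4, 5, 6, 9, 3, 7, 8, 3, 2, 1, 0, 10, 11, 3, 4, 5, 6, 9, 3, 7, 8, 3, 2, 1, 0, 10, 11, 3, 4, 5, 6, 9, 3, 7, 8, 3, 2, 1, 0, 10, 11, 3, 4, 5, 6, 9, 3, 7, 8, 3,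 2, 1, 0, 10, 11, 3, 4, 5, 6, 9, 3, 7, 8, 3, 2, 1, 0, 10, 11, 3, 4, 5, 6, 9, 3, 7, 8, 3, 2, 1, 0, 10, 11, 3, 4, 5, 6, 9, 3, 7, 8, 3, 2, 1, 0, 10, 11, 3, 4, 5, 6, 9, 3, 7, 8, 3, 2, 1, 0, 10, 11, 3, 4, 5, 6, 9, 3, 7, 8, 3, 2, 1, 0, 10, 11, 3, 4, 5, 6, 9, 3, 7, 8, 3, 2, 1, 0, 10, 11, 3, 4]) else (bif Nat.blt r 270 then [6, 9, 3, 7, 8, 3, 2, 1, 0, 10, 11, 3, 4, 5, 6, 9, 3, 7, 8, 3, 2, 1, 0, 10, 11, 3, 4, 5, 6, 9, 3, 7, 8, 3, 2, 1, 0, 10, 11, 3, 4, 5, 6, 9, 3, 7, 8, 3, 2, 1, 0, 10, 11, 3, 4, 5, 6, 9, 3, 7, 8, 3, 2, 1, 0, 10, 11, 3, 4, 5, 6, 9, 3, 7, 8, 3, 2, 1, 0, 10, 11, 3, 4, 5, 6, 9, 3, 7, 8, 3, 2, 1, 0, 10, 11, 3, 4, 5, 6, 9, 3, 7, 8, 3, 2, 1, 0, 10, 11, 3, 4, 5, 6, 9, 3, 7, 8, 3, 2, 1, 0, 10,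 11, 3, 4, 5, 6, 9, 3, 7, 8, 3, 2, 1, 0, 10, 11, 3, 4, 5, 6, 9, 3, 7, 8, 3, 2, 1, 0, 10, 11, 3, 4, 5, 6, 9, 3, 7, 8, 3, 2, 1, 0, 10, 11, 3, 4, 5, 6, 9, 3, 7, 8, 3, 2, 1, 0, 10, 11, 3, 4, 5, 6, 9, 3, 7, 8, 3, 2, 1, 0, 10, 11, 3, 4, 5, 6, 9, 3, 7, 8, 3, 2, 1, 0, 10, 11, 3, 4, 5, 6, 9, 3, 7, 8, 3, 2, 1, 0, 10, 11, 3, 4, 5, 6, 9, 3, 7, 8, 3, 2, 1, 0, 10, 11, 3, 4, 5] else [9, 3, 7, 8, 3, 2, 1, 0, 10, 11, 3, 4, 5, 6, 9, 3, 7, 8, 3, 2, 1, 0, 10, 11, 3, 4, 5, 6, 9, 3, 7, 8, 3, 2, 1, 0, 10, 11, 3, 4, 5, 6, 9, 3, 7, 8, 3, 2, 1, 0, 10, 11, 3, 4, 5, 6, 9, 3, 7, 8, 3, 2, 1, 0, 10, 11, 3, 4, 5, 6, 9, 3, 7, 8, 3, 2, 1, 0, 10, 11, 3, 4, 5, 6, 9, 3, 7, 8, 3, 2, 1, 0, 10, 11, 3, 4, 5, 6, 9, 3, 7, 8, 3, 2, 1,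 0, 10, 11, 3, 4, 5, 6, 9, 3, 7, 8, 3, 2, 1, 0, 10, 11, 3, 4, 5, 6, 9, 3, 7, 8, 3, 2, 1, 0, 10, 11, 3, 4, 5, 6, 9, 3, 7, 8, 3, 2, 1, 0, 10, 11, 3, 4, 5, 6, 9, 3, 7, 8, 3, 2, 1, 0, 10, 11, 3, 4, 5, 6, 9, 3, 7, 8, 3, 2, 1, 0, 10, 11, 3, 4, 5, 6, 9, 3, 7, 8, 3, 2, 1, 0, 10, 11, 3, 4, 5, 6, 9, 3, 7, 8, 3, 2, 1, 0, 10, 11, 3, 4, 5, 6, 9, 3, 7, 8, 3, 2, 1, 0, 10, 11, 3, 4, 5, 6, 9, 3, 7, 8, 3, 2, 1, 0, 10, 11, 3, 4, 5, 6])) else (bif Nat.blt r 273 then (bif Nat.blt r 272 then [3, 7, 8, 3, 2, 1, 0, 10, 11, 3, 4, 5, 6, 9, 3, 7, 8, 3, 2, 1, 0, 10, 11, 3, 4, 5, 6, 9, 3, 7, 8, 3, 2, 1, 0, 10, 11, 3, 4, 5, 6, 9, 3, 7, 8, 3, 2, 1, 0, 10, 11, 3, 4, 5, 6, 9, 3, 7, 8, 3, 2, 1, 0, 10, 11, 3, 4, 5, 6, 9, 3, 7,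 8, 3, 2, 1, 0, 10, 11, 3, 4, 5, 6, 9, 3, 7, 8, 3, 2, 1, 0, 10, 11, 3, 4, 5, 6, 9, 3, 7, 8, 3, 2, 1, 0, 10, 11, 3, 4, 5, 6, 9, 3, 7, 8, 3, 2, 1, 0, 10, 11, 3, 4, 5, 6, 9, 3, 7, 8, 3, 2, 1, 0, 10, 11, 3, 4, 5, 6, 9, 3, 7, 8, 3, 2, 1, 0, 10, 11, 3, 4, 5, 6, 9, 3, 7, 8, 3, 2, 1, 0, 10, 11, 3, 4, 5, 6, 9, 3, 7, 8, 3, 2, 1, 0, 10, 11, 3, 4, 5, 6, 9, 3, 7, 8, 3, 2, 1, 0, 10, 11, 3, 4, 5, 6, 9, 3, 7, 8, 3, 2, 1, 0, 10, 11, 3, 4, 5, 6, 9, 3, 7, 8, 3, 2, 1, 0, 10, 11, 3, 4, 5, 6, 9, 3, 7, 8, 3, 2, 1, 0, 10, 11, 3, 4, 5, 6, 9] else [7, 8, 3, 2, 1, 0, 10, 11, 3, 4, 5, 6, 9, 3, 7, 8, 3, 2, 1, 0, 10, 11, 3, 4, 5, 6, 9, 3, 7, 8, 3, 2, 1, 0, 10, 11, 3, 4, 5, 6, 9, 3, 7, 8, 3, 2, 1, 0, 10, 11, 3, 4, 5, 6, 9,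 3, 7, 8, 3, 2, 1, 0, 10, 11, 3, 4, 5, 6, 9, 3, 7, 8, 3, 2, 1, 0, 10, 11, 3, 4, 5, 6, 9, 3, 7, 8, 3, 2, 1, 0, 10, 11, 3, 4, 5, 6, 9, 3, 7, 8, 3, 2, 1, 0, 10, 11, 3, 4, 5, 6, 9, 3, 7, 8, 3, 2, 1, 0, 10, 11, 3, 4, 5, 6, 9, 3, 7, 8, 3, 2, 1, 0, 10, 11, 3, 4, 5, 6, 9, 3, 7, 8, 3, 2, 1, 0, 10, 11, 3, 4, 5, 6, 9, 3, 7, 8, 3, 2, 1, 0, 10, 11, 3, 4, 5, 6, 9, 3, 7, 8, 3, 2, 1, 0, 10, 11, 3, 4, 5, 6, 9, 3, 7, 8, 3, 2, 1, 0, 10, 11, 3, 4, 5, 6, 9, 3, 7, 8, 3, 2, 1, 0, 10, 11, 3, 4, 5, 6, 9, 3, 7, 8, 3, 2, 1, 0, 10, 11, 3, 4, 5, 6, 9, 3, 7, 8, 3, 2, 1, 0, 10, 11, 3, 4, 5, 6, 9, 3]) else (bif Nat.blt r 274 then [8, 3, 2, 1, 0, 10, 11, 3, 4, 5, 6, 9, 3, 7, 8, 3, 2, 1, 0, 10, 11, 3, 4, 5, 6, 9, 3, 7, 8, 3,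 2, 1, 0, 10, 11, 3, 4, 5, 6, 9, 3, 7, 8, 3, 2, 1, 0, 10, 11, 3, 4, 5, 6, 9, 3, 7, 8, 3, 2, 1, 0, 10, 11, 3, 4, 5, 6, 9, 3, 7, 8, 3, 2, 1, 0, 10, 11, 3, 4, 5, 6, 9, 3, 7, 8, 3, 2, 1, 0, 10, 11, 3, 4, 5, 6, 9, 3, 7, 8, 3, 2, 1, 0, 10, 11, 3, 4, 5, 6, 9, 3, 7, 8, 3, 2, 1, 0, 10, 11, 3, 4, 5, 6, 9, 3, 7, 8, 3, 2, 1, 0, 10, 11, 3, 4, 5, 6, 9, 3, 7, 8, 3, 2, 1, 0, 10, 11, 3, 4, 5, 6, 9, 3, 7, 8, 3, 2, 1, 0, 10, 11, 3, 4, 5, 6, 9, 3, 7, 8, 3, 2, 1, 0, 10, 11, 3, 4, 5, 6, 9, 3, 7, 8, 3, 2, 1, 0, 10, 11, 3, 4, 5, 6, 9, 3, 7, 8, 3, 2, 1, 0, 10, 11, 3, 4, 5, 6, 9, 3, 7, 8, 3, 2, 1, 0, 10, 11, 3, 4, 5, 6, 9, 3, 7, 8, 3, 2, 1, 0, 10, 11, 3, 4, 5, 6, 9, 3, 7] else (bif Nat.blt r 275 then [0] else [1]))))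

def wds58 (r : Nat) : List Nat := (bif Nat.blt r 280 then (bif Nat.blt r 278 then (bif Nat.blt r 277 then [2] else [3]) else (bif Nat.blt r 279 then [4] else [5])) else (bif Nat.blt r 282 then (bif Nat.blt r 281 then [6] else [7]) else (bif Nat.blt r 283 then [8] else (bif Nat.blt r 284 then [9] else [11]))))

def wds59 (r : Nat) : List Nat := bif Nat.blt r 276 then wds57 r else wds58 r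

def wds60 (r : Nat) : List Nat := bif Nat.blt r 267 then wds56 r else wds59 r

def wds61 (r : Nat) : List Nat := bif Nat.blt r 249 then wds53 r else wds60 r

def wds62 (r : Nat) : List Nat := bif Nat.blt r 213 then wds46 r else wds61 r

def wds63 (r : Nat) : List Nat := bif Nat.blt r 142 then wds31 r else wds62 r

/-- The rotated relators and the subgroup words. -/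
def wd (r : Nat) : List Nat := wds63 r

/-- The relators used. -/
def baseW : List (List Nat) := [
  [0, 2, 0, 2],
  [0, 3, 0, 3],
  [0, 4, 0, 4],
  [0, 5, 0, 5],
  [0, 6, 0, 6],
  [0, 7, 0, 7],
  [0, 8, 0, 8],
  [0, 9, 0, 9],
  [0, 11, 0, 11],
  [1, 3, 1, 3],
  [1, 4, 1, 4],
  [1, 5, 1, 5],
  [1, 6, 1, 6],
  [1, 7, 1, 7],
  [1, 8, 1, 8],
  [1, 9, 1, 9],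
  [1, 10, 1, 10],
  [1, 11, 1, 11],
  [2, 4, 2, 4],
  [2, 5, 2, 5],
  [2, 6, 2, 6],
  [2, 7, 2, 7],
  [2, 8, 2, 8],
  [2, 9, 2, 9],
  [2, 10, 2, 10],
  [2, 11, 2, 11],
  [3, 5, 3, 5],
  [3, 6, 3, 6],
  [3, 8, 3, 8],
  [3, 9, 3, 9],
  [3, 10, 3, 10],
  [3, 11, 3, 11],
  [4, 6, 4, 6],
  [4, 7, 4, 7],
  [4, 8, 4, 8],
  [4, 9, 4, 9],
  [4, 10, 4, 10],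
  [4, 11, 4, 11],
  [5, 7, 5, 7],
  [5, 8, 5, 8],
  [5, 9, 5, 9],
  [5, 10, 5, 10],
  [5, 11, 5, 11],
  [6, 7, 6, 7],
  [6, 8, 6, 8],
  [6, 10, 6, 10],
  [6, 11, 6, 11],
  [7, 9, 7, 9],
  [7, 10, 7, 10],
  [7, 11, 7, 11],
  [8, 9, 8, 9],
  [8, 10, 8, 10],
  [8, 11, 8, 11],
  [9, 10, 9, 10],
  [9, 11, 9, 11],
  [0, 1, 0, 1, 0, 1],
  [0, 10, 0, 10, 0, 10],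
  [1, 2, 1, 2, 1, 2],
  [2, 3, 2, 3, 2, 3],
  [3, 4, 3, 4, 3, 4],
  [3, 7, 3, 7, 3, 7],
  [4, 5, 4, 5, 4, 5],
  [5, 6, 5, 6, 5, 6],
  [6, 9, 6, 9, 6, 9],
  [7, 8, 7, 8, 7, 8],
  [10, 11, 10, 11, 10, 11],
  [11, 7, 5, 4, 3, 2, 1, 0, 7, 5, 4, 3, 2, 1, 0, 7, 5, 4, 3, 2, 1, 0, 7, 5, 4, 3, 2, 1, 0, 7, 5, 4, 3, 2, 1, 0, 7, 5, 4, 3, 2, 1, 0, 7, 5, 4, 3, 2, 1, 0, 7, 5, 4, 3, 2, 1, 0, 7, 5, 4, 3, 2, 1, 0],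
  [11, 4, 8, 7, 3, 2, 1, 0, 4, 8, 7, 3, 2, 1, 0, 4, 8, 7, 3, 2, 1, 0, 4, 8, 7, 3, 2, 1, 0, 4, 8, 7, 3, 2, 1, 0, 4, 8, 7, 3, 2, 1, 0, 4, 8, 7, 3, 2, 1, 0, 4, 8, 7, 3, 2, 1, 0, 4, 8, 7, 3, 2, 1, 0],
  [3, 2, 1, 0, 10, 11, 3, 4, 5, 6, 9, 3, 7, 8, 3, 2, 1, 0, 10, 11, 3, 4, 5, 6, 9, 3, 7, 8, 3, 2, 1, 0, 10, 11, 3, 4, 5, 6, 9, 3, 7, 8, 3, 2, 1, 0, 10, 11, 3, 4, 5, 6, 9, 3, 7, 8, 3, 2, 1, 0, 10, 11, 3, 4, 5, 6, 9, 3, 7, 8, 3, 2, 1, 0, 10, 11, 3, 4, 5, 6, 9, 3, 7, 8, 3, 2, 1, 0, 10, 11, 3, 4, 5, 6, 9, 3, 7, 8, 3, 2, 1, 0, 10, 11, 3, 4, 5, 6, 9, 3, 7, 8, 3, 2, 1, 0, 10, 11, 3, 4, 5, 6, 9, 3, 7, 8, 3, 2, 1, 0, 10, 11, 3, 4, 5, 6, 9, 3, 7, 8, 3, 2, 1, 0, 10, 11, 3, 4, 5, 6, 9, 3, 7, 8, 3, 2, 1, 0, 10,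 11, 3, 4, 5, 6, 9, 3, 7, 8, 3, 2, 1, 0, 10, 11, 3, 4, 5, 6, 9, 3, 7, 8, 3, 2, 1, 0, 10, 11, 3, 4, 5, 6, 9, 3, 7, 8, 3, 2, 1, 0, 10, 11, 3, 4, 5, 6, 9, 3, 7, 8, 3, 2, 1, 0, 10, 11, 3, 4, 5, 6, 9, 3, 7, 8, 3, 2, 1, 0, 10, 11, 3, 4, 5, 6, 9, 3, 7, 8]]

/-- The origin of each rotation. -/
def rotSrc : List (Nat × Nat) := [(0, 0), (0, 1), (1, 0), (1, 1), (2, 0), (2, 1), (3, 0), (3, 1), (4, 0), (4, 1), (5, 0), (5, 1), (6, 0), (6, 1), (7, 0), (7, 1), (8, 0), (8, 1), (9, 0), (9, 1), (10, 0), (10, 1), (11, 0), (11, 1), (12, 0), (12, 1), (13, 0), (13, 1), (14, 0), (14, 1), (15, 0), (15, 1), (16, 0), (16, 1), (17, 0), (17, 1), (18, 0), (18, 1), (19, 0), (19, 1), (20, 0), (20, 1), (21, 0), (21, 1), (22,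 0), (22, 1), (23, 0), (23, 1), (24, 0), (24, 1), (25, 0), (25, 1), (26, 0), (26, 1), (27, 0), (27, 1), (28, 0), (28, 1), (29, 0), (29, 1), (30, 0), (30, 1), (31, 0), (31, 1), (32, 0), (32, 1), (33, 0), (33, 1), (34, 0), (34, 1), (35, 0), (35, 1), (36, 0), (36, 1), (37, 0), (37, 1), (38, 0), (38, 1), (39, 0), (39, 1), (40, 0), (40, 1), (41, 0), (41, 1), (42, 0), (42, 1), (43, 0), (43, 1), (44, 0), (44, 1), (45, 0), (45, 1), (46, 0), (46, 1), (47, 0), (47, 1), (48, 0), (48, 1), (49, 0), (49, 1), (50, 0), (50, 1), (51, 0), (51, 1), (52, 0), (52, 1), (53, 0), (53, 1), (54, 0), (54, 1), (55, 0), (55, 1), (56, 0), (56, 1), (57, 0), (57, 1), (58, 0), (58, 1), (59, 0), (59, 1), (60, 0), (60, 1), (61,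 0), (61, 1), (62, 0), (62, 1), (63, 0), (63, 1), (64, 0), (64, 1), (65, 0), (65, 1), (66, 0), (66, 1), (66, 2), (66, 3), (66, 4), (66, 5), (66, 6), (66, 7), (66, 8), (66, 9), (66, 10), (66, 11), (66, 12), (66, 13), (66, 14), (66, 15), (66, 16), (66, 17), (66, 18), (66, 19), (66, 20), (66, 21), (66, 22), (66, 23), (66, 24), (66, 25), (66, 26), (66, 27), (66, 28), (66, 29), (66, 30), (66, 31), (66, 32), (66, 33), (66, 34), (66, 35), (66, 36), (66, 37), (66, 38), (66, 39), (66, 40), (66, 41), (66, 42), (66, 43), (66, 44), (66, 45), (66, 46), (66, 47), (66, 48), (66, 49), (66, 50), (66, 51), (66, 52), (66, 53), (66, 54), (66, 55), (66, 56), (66, 57), (66, 58), (66, 59), (66, 60), (66, 61), (66,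 62), (66, 63), (67, 0), (67, 1), (67, 2), (67, 3), (67, 4), (67, 5), (67, 6), (67, 7), (67, 8), (67, 9), (67, 10), (67, 11), (67, 12), (67, 13), (67, 14), (67, 15), (67, 16), (67, 17), (67, 18), (67, 19), (67, 20), (67, 21), (67, 22), (67, 23), (67, 24), (67, 25), (67, 26), (67, 27), (67, 28), (67, 29), (67, 30), (67, 31), (67, 32), (67, 33), (67, 34), (67, 35), (67, 36), (67, 37), (67, 38), (67, 39), (67, 40), (67, 41), (67, 42), (67, 43), (67, 44), (67, 45), (67, 46), (67, 47), (67, 48), (67, 49), (67, 50), (67, 51), (67, 52), (67, 53), (67, 54), (67, 55), (67, 56), (67, 57), (67, 58), (67, 59), (67, 60), (67, 61), (67, 62), (67, 63), (68, 0), (68, 1), (68, 2), (68, 3), (68, 4), (68, 5), (68,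 6), (68, 7), (68, 8), (68, 9), (68, 10), (68, 11), (68, 12), (68, 13)]

theorem rot_eq : ((List.range 274).all fun r => decide (wd r = (baseW.getD (rotSrc.getD r (0, 0)).1 []).rotate (rotSrc.getD r (0, 0)).2)) = true := by decide +kernel

theorem wd_lt : ((List.range 285).all fun r => (wd r).all fun y => Nat.blt y 12) = true := by decide +kernel

theorem wd_sub : ((List.range 11).map fun r => wd (274 + r)) = [[0], [1], [2], [3], [4], [5], [6], [7], [8], [9], [11]] := by decide +kernel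

end

end CfsgLib.CosetEnum.Fi24H
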