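import Cfsg.Agent.CosetEnum.Fi24H.Table
import Cfsg.Agent.CosetEnum.Fi24H.Rotations

set_option autoImplicit false
set_option maxRecDepth 100000
set_option Elab.async false

/-! Imports for the edge certificate (generated certificate). -/

namespace CfsgLib.CosetEnum.Fi24H

noncomputable section



end

end CfsgLib.CosetEnum.Fi24H
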