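import Cfsg.Agent.CosetEnum.Fi24H.Perm
import Cfsg.Agent.CosetEnum.Fi24H.EdgeDefs
import Cfsg.Agent.CosetEnum.Fi24E7.Long
import Cfsg.Agent.CosetEnum.Upper

set_option autoImplicit false
set_option maxRecDepth 100000

/-!
The coset space of the subgroup on all letters but `k` in the presented Fi24, from the certificates.
-/

namespace CfsgLib.CosetEnum.Fi24H

/-- The letters of the subgroup. -/
def hLetters : List ℕ := [0, 1, 2, 3, 4, 5, 6, 7, 8, 9, 11]

/-- The subgroup. -/
noncomputable abbrev H : Subgroup Fi24.setup.Grp := Fi24.setup.letSub hLetters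

theorem rot_src_ok : (rotSrc.all fun s => Nat.blt s.1 baseW.length) = true := by decide +kernel

theorem baseW_src : (baseW.all fun w =>
    decide (w ∈ Fi24.words) || decide (w = Fi24E7.longWord)) = true := by decide +kernel

theorem wd_rel (h : Wide.On fastFix 0 306936) (r : ℕ) (hr : r < 274) :
    prodw Fi24.setup.g (wd r) = 1 := by
  have h1 : wd r = (baseW.getD (rotSrc.getD r (0, 0)).1 []).rotate (rotSrc.getD r (0, 0)).2 :=
    of_decide_eq_true (List.all_eq_true.mp rot_eq r (List.mem_range.mpr hr))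
  rw [h1]
  simp only [prodw, List.map_rotate]
  apply List.prod_rotate_eq_one_of_prod_eq_one
  set a := (rotSrc.getD r (0, 0)).1
  rcases lt_or_ge a baseW.length with ha | ha
  · rw [List.getD_eq_getElem _ _ ha]
    have h2 := List.all_eq_true.mp baseW_src _ (List.getElem_mem ha)
    rw [Bool.or_eq_true, decide_eq_true_eq, decide_eq_true_eq] at h2
    rcases h2 with h2 | h2
    · exact Fi24.setup.prod_mem _ h2
    · rw [h2]
      exact Fi24E7.longWord_one h
  · rw [List.getD_eq_default _ _ ha]
    rfl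

theorem wd_mem (h : Wide.On fastFix 0 306936) (r : ℕ) (hr : r < 285) :
    prodw Fi24.setup.g (wd r) ∈ H := by
  by_cases h1 : r < 274
  · rw [wd_rel h r h1]
    exact one_mem _
  · obtain ⟨s, rfl⟩ : ∃ s, r = 274 + s := ⟨r - 274, by omega⟩
    have hs : s < 11 := by omega
    have h2 : wd (274 + s) = [hLetters.getD s 0] := by
      have := congrArg (fun l => l.getD s []) wd_sub
      interval_cases s <;> simpa [hLetters, List.range_succ] using this
    rw [h2]
    refine Subgroup.subset_closure ⟨hLetters.getD s 0, ?_, by simp [prodw]⟩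
    interval_cases s <;> decide

theorem perm_inv_apply (h : Wide.On fastFix 0 306936) (x : ℕ) (hx : x < 12) (i : Fin 306936) :
    ((perm h x)⁻¹ i).val = Wide.img (E x i) := by
  rw [inv_eq_of_mul_eq_one_right (perm_sq h x), perm_apply h x hx]
  rfl

theorem fix_zero : (hLetters.all fun x => Nat.beq (T x 0) 0) = true := by decide +kernel

theorem exists_cosets (h : Wide.On fastFix 0 306936)
    (hE : Wide.On (Wide.edgeEntry 306936 12 E par wd 274 285) 0 306936)
    (htree : Wide.On (Wide.treeOK 306936 12 E par) 0 306936) :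
    ∃ (φ : Fi24.setup.Grp →* Equiv.Perm (Fin 306936)) (e : Fi24.setup.Grp ⧸ H ≃ Fin 306936),
      (∀ x, x < 12 → φ (Fi24.setup.g x) = perm h x) ∧
      (∀ (y : Fi24.setup.Grp) (q : Fi24.setup.Grp ⧸ H), e (y • q) = φ y (e q)) ∧
      e ((1 : Fi24.setup.Grp) : Fi24.setup.Grp ⧸ H) = 0 := by
  obtain ⟨φ, hφ⟩ := exists_perm_hom h
  have hwd : ∀ r, r < 285 → ∀ y ∈ wd r, y < 12 := fun r hr y hy => by
    simpa using List.all_eq_true.mp (List.all_eq_true.mp wd_lt r (List.mem_range.mpr hr)) y hy
  have hP := Wide.edges_hold (g := Fi24.setup.g) (H := H) (by norm_num) hE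
    (fun x _ => Fi24.setup.of_sq _) hwd (by norm_num) (wd_rel h) (wd_mem h)
  have hgen : Subgroup.closure (Fi24.setup.g '' {x | x < 12}) = ⊤ := by
    rw [eq_top_iff, ← PresentedGroup.closure_range_of]
    refine Subgroup.closure_mono ?_
    rintro _ ⟨a, rfl⟩
    exact ⟨Fi24.setup.ix a, Fi24.setup.ix_lt a, by rw [Setup.g, Fi24.setup.en_ix]⟩
  have hH : ∀ y ∈ H, φ y 0 = 0 := by
    intro y hy
    induction hy using Subgroup.closure_induction with
    | mem y hy =>
      obtain ⟨x, hx, rfl⟩ := hy
      have hx12 : x < 12 := by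
        simp only [hLetters, List.mem_cons, List.not_mem_nil, or_false] at hx
        omega
      rw [hφ x hx12]
      exact Fin.ext ((perm_apply h x hx12 0).trans (Nat.eq_of_beq_eq_true (List.all_eq_true.mp fix_zero x hx)))
    | one => simp
    | mul y z _ _ h1 h2 => rw [map_mul, Equiv.Perm.mul_apply, h2, h1]
    | inv y _ h1 => rw [map_inv, Equiv.Perm.inv_eq_iff_eq, h1]
  obtain ⟨e, he, he0⟩ := Wide.exists_equiv hP htree φ
    (fun x hx i => by rw [hφ x hx]; exact perm_inv_apply h x hx i) hgen hH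
  exact ⟨φ, e, hφ, he, he0⟩

end CfsgLib.CosetEnum.Fi24H
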