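import Cfsg.Agent.CosetEnum.Fi24H.EdgeDefs

set_option autoImplicit false
set_option maxRecDepth 100000
set_option Elab.async false

/-! edges, part 0 (generated certificate). -/

namespace CfsgLib.CosetEnum.Fi24H

noncomputable section

theorem edges0 : allR (Wide.edgeEntry 306936 12 E par wd 274 285) 11 0 = true := by decide +kernel

theorem edges1 : allR (Wide.edgeEntry 306936 12 E par wd 274 285) 11 2048 = true := by decide +kernel

theorem edges2 : allR (Wide.edgeEntry 306936 12 E par wd 274 285) 11 4096 = true := by decide +kernel

theorem edges3 : allR (Wide.edgeEntry 306936 12 E par wd 274 285) 11 6144 = true := by decide +kernel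

theorem edges4 : allR (Wide.edgeEntry 306936 12 E par wd 274 285) 11 8192 = true := by decide +kernel

theorem edges5 : allR (Wide.edgeEntry 306936 12 E par wd 274 285) 11 10240 = true := by decide +kernel

theorem edges6 : allR (Wide.edgeEntry 306936 12 E par wd 274 285) 11 12288 = true := by decide +kernel

theorem edges7 : allR (Wide.edgeEntry 306936 12 E par wd 274 285) 11 14336 = true := by decide +kernel

theorem edges8 : allR (Wide.edgeEntry 306936 12 E par wd 274 285) 11 16384 = true := by decide +kernel

theorem edges9 : allR (Wide.edgeEntry 306936 12 E par wd 274 285) 11 18432 = true := by decide +kernel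

theorem edges10 : allR (Wide.edgeEntry 306936 12 E par wd 274 285) 11 20480 = true := by decide +kernel

theorem edges11 : allR (Wide.edgeEntry 306936 12 E par wd 274 285) 11 22528 = true := by decide +kernel

theorem edges12 : allR (Wide.edgeEntry 306936 12 E par wd 274 285) 11 24576 = true := by decide +kernel

theorem edges13 : allR (Wide.edgeEntry 306936 12 E par wd 274 285) 11 26624 = true := by decide +kernel

theorem edges14 : allR (Wide.edgeEntry 306936 12 E par wd 274 285) 11 28672 = true := by decide +kernel

theorem edges_on0 : Wide.On (Wide.edgeEntry 306936 12 E par wd 274 285) 0 30720 :=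
  ((((((((((((((Wide.On.of_allR edges0).append (Wide.On.of_allR edges1)).append (Wide.On.of_allR edges2)).append (Wide.On.of_allR edges3)).append (Wide.On.of_allR edges4)).append (Wide.On.of_allR edges5)).append (Wide.On.of_allR edges6)).append (Wide.On.of_allR edges7)).append (Wide.On.of_allR edges8)).append (Wide.On.of_allR edges9)).append (Wide.On.of_allR edges10)).append (Wide.On.of_allR edges11)).append (Wide.On.of_allR edges12)).append (Wide.On.of_allR edges13)).append (Wide.On.of_allR edges14)

end

end CfsgLib.CosetEnum.Fi24H
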