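import Cfsg.Agent.CosetEnum.Fi24H.Table
import Cfsg.Agent.CosetEnum.Fi24H.Comp7
import Cfsg.Agent.CosetEnum.Fi24H.Comp14

set_option autoImplicit false
set_option maxRecDepth 100000
set_option Elab.async false

/-! Fast checks of the relators (generated certificate). -/

namespace CfsgLib.CosetEnum.Fi24H

noncomputable section

def val0 (i a : Nat) : Bool := Nat.blt a 306936 && Nat.beq (u0 a) i

def val1 (i a : Nat) : Bool := Nat.blt a 306936 && Nat.beq (u1 a) i

def val2 (i a : Nat) : Bool := Nat.blt a 306936 && Nat.beq (u2 a) i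

def val3 (i a : Nat) : Bool := Nat.blt a 306936 && Nat.beq (u3 a) i

def val4 (i a : Nat) : Bool := Nat.blt a 306936 && Nat.beq (u4 a) i

def val5 (i a : Nat) : Bool := Nat.blt a 306936 && Nat.beq (u5 a) i

def val6 (i a : Nat) : Bool := Nat.blt a 306936 && Nat.beq (u6 a) i

def val7 (i a : Nat) : Bool := Nat.blt a 306936 && Nat.beq (u7 a) i

def val8 (i a : Nat) : Bool := Nat.blt a 306936 && Nat.beq (u8 a) i

def val9 (i a : Nat) : Bool := Nat.blt a 306936 && Nat.beq (u9 a) i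

def val10 (i a : Nat) : Bool := Nat.blt a 306936 && Nat.beq (u10 a) i

def val11 (i a : Nat) : Bool := Nat.blt a 306936 && Nat.beq (u11 a) i

def bra0_1 (a b : Nat) : Bool :=
  Nat.beq (force (u1 a) fun p => u0 p) (force (u0 b) fun p => u1 p)

def com0_2 (a b : Nat) : Bool := Nat.beq (u2 a) (u0 b)

def com0_3 (a b : Nat) : Bool := Nat.beq (u3 a) (u0 b)

def com0_4 (a b : Nat) : Bool := Nat.beq (u4 a) (u0 b)

def com0_5 (a b : Nat) : Bool := Nat.beq (u5 a) (u0 b)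

def com0_6 (a b : Nat) : Bool := Nat.beq (u6 a) (u0 b)

def com0_7 (a b : Nat) : Bool := Nat.beq (u7 a) (u0 b)

def com0_8 (a b : Nat) : Bool := Nat.beq (u8 a) (u0 b)

def com0_9 (a b : Nat) : Bool := Nat.beq (u9 a) (u0 b)

def bra0_10 (a b : Nat) : Bool :=
  Nat.beq (force (u10 a) fun p => u0 p) (force (u0 b) fun p => u10 p)

def com0_11 (a b : Nat) : Bool := Nat.beq (u11 a) (u0 b)

def bra1_2 (a b : Nat) : Bool :=
  Nat.beq (force (u2 a) fun p => u1 p) (force (u1 b) fun p => u2 p)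

def com1_3 (a b : Nat) : Bool := Nat.beq (u3 a) (u1 b)

def com1_4 (a b : Nat) : Bool := Nat.beq (u4 a) (u1 b)

def com1_5 (a b : Nat) : Bool := Nat.beq (u5 a) (u1 b)

def com1_6 (a b : Nat) : Bool := Nat.beq (u6 a) (u1 b)

def com1_7 (a b : Nat) : Bool := Nat.beq (u7 a) (u1 b)

def com1_8 (a b : Nat) : Bool := Nat.beq (u8 a) (u1 b)

def com1_9 (a b : Nat) : Bool := Nat.beq (u9 a) (u1 b)

def com1_10 (a b : Nat) : Bool := Nat.beq (u10 a) (u1 b)

def com1_11 (a b : Nat) : Bool := Nat.beq (u11 a) (u1 b)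

def bra2_3 (a b : Nat) : Bool :=
  Nat.beq (force (u3 a) fun p => u2 p) (force (u2 b) fun p => u3 p)

def com2_4 (a b : Nat) : Bool := Nat.beq (u4 a) (u2 b)

def com2_5 (a b : Nat) : Bool := Nat.beq (u5 a) (u2 b)

def com2_6 (a b : Nat) : Bool := Nat.beq (u6 a) (u2 b)

def com2_7 (a b : Nat) : Bool := Nat.beq (u7 a) (u2 b)

def com2_8 (a b : Nat) : Bool := Nat.beq (u8 a) (u2 b)

def com2_9 (a b : Nat) : Bool := Nat.beq (u9 a) (u2 b)

def com2_10 (a b : Nat) : Bool := Nat.beq (u10 a) (u2 b)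

def com2_11 (a b : Nat) : Bool := Nat.beq (u11 a) (u2 b)

def bra3_4 (a b : Nat) : Bool :=
  Nat.beq (force (u4 a) fun p => u3 p) (force (u3 b) fun p => u4 p)

def com3_5 (a b : Nat) : Bool := Nat.beq (u5 a) (u3 b)

def com3_6 (a b : Nat) : Bool := Nat.beq (u6 a) (u3 b)

def bra3_7 (a b : Nat) : Bool :=
  Nat.beq (force (u7 a) fun p => u3 p) (force (u3 b) fun p => u7 p)

def com3_8 (a b : Nat) : Bool := Nat.beq (u8 a) (u3 b)

def com3_9 (a b : Nat) : Bool := Nat.beq (u9 a) (u3 b)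

def com3_10 (a b : Nat) : Bool := Nat.beq (u10 a) (u3 b)

def com3_11 (a b : Nat) : Bool := Nat.beq (u11 a) (u3 b)

def bra4_5 (a b : Nat) : Bool :=
  Nat.beq (force (u5 a) fun p => u4 p) (force (u4 b) fun p => u5 p)

def com4_6 (a b : Nat) : Bool := Nat.beq (u6 a) (u4 b)

def com4_7 (a b : Nat) : Bool := Nat.beq (u7 a) (u4 b)

def com4_8 (a b : Nat) : Bool := Nat.beq (u8 a) (u4 b)

def com4_9 (a b : Nat) : Bool := Nat.beq (u9 a) (u4 b)

def com4_10 (a b : Nat) : Bool := Nat.beq (u10 a) (u4 b)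

def com4_11 (a b : Nat) : Bool := Nat.beq (u11 a) (u4 b)

def bra5_6 (a b : Nat) : Bool :=
  Nat.beq (force (u6 a) fun p => u5 p) (force (u5 b) fun p => u6 p)

def com5_7 (a b : Nat) : Bool := Nat.beq (u7 a) (u5 b)

def com5_8 (a b : Nat) : Bool := Nat.beq (u8 a) (u5 b)

def com5_9 (a b : Nat) : Bool := Nat.beq (u9 a) (u5 b)

def com5_10 (a b : Nat) : Bool := Nat.beq (u10 a) (u5 b)

def com5_11 (a b : Nat) : Bool := Nat.beq (u11 a) (u5 b)

def com6_7 (a b : Nat) : Bool := Nat.beq (u7 a) (u6 b)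

def com6_8 (a b : Nat) : Bool := Nat.beq (u8 a) (u6 b)

def bra6_9 (a b : Nat) : Bool :=
  Nat.beq (force (u9 a) fun p => u6 p) (force (u6 b) fun p => u9 p)

def com6_10 (a b : Nat) : Bool := Nat.beq (u10 a) (u6 b)

def com6_11 (a b : Nat) : Bool := Nat.beq (u11 a) (u6 b)

def bra7_8 (a b : Nat) : Bool :=
  Nat.beq (force (u8 a) fun p => u7 p) (force (u7 b) fun p => u8 p)

def com7_9 (a b : Nat) : Bool := Nat.beq (u9 a) (u7 b)

def com7_10 (a b : Nat) : Bool := Nat.beq (u10 a) (u7 b)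

def com7_11 (a b : Nat) : Bool := Nat.beq (u11 a) (u7 b)

def com8_9 (a b : Nat) : Bool := Nat.beq (u9 a) (u8 b)

def com8_10 (a b : Nat) : Bool := Nat.beq (u10 a) (u8 b)

def com8_11 (a b : Nat) : Bool := Nat.beq (u11 a) (u8 b)

def com9_10 (a b : Nat) : Bool := Nat.beq (u10 a) (u9 b)

def com9_11 (a b : Nat) : Bool := Nat.beq (u11 a) (u9 b)

def bra10_11 (a b : Nat) : Bool :=
  Nat.beq (force (u11 a) fun p => u10 p) (force (u10 b) fun p => u11 p)

def cmp7 (i : Nat) : Bool := force (u7 i) fun p => force (u5 p) fun p => force (u4 p) fun p => force (u3 p) fun p => force (u2 p) fun p => force (u1 p) fun p => force (u0 p) fun p => Nat.beq (c7 i) p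

def cmp14 (i : Nat) : Bool := force (u3 i) fun p => force (u2 p) fun p => force (u1 p) fun p => force (u0 p) fun p => force (u10 p) fun p => force (u11 p) fun p => force (u3 p) fun p => force (u4 p) fun p => force (u5 p) fun p => force (u6 p) fun p => force (u9 p) fun p => force (u3 p) fun p => force (u7 p) fun p => force (u8 p) fun p => Nat.beq (c14 i) p

def rel1 (i a : Nat) : Bool := force (c7 a) fun p => force (c7 p) fun p => force (c7 p) fun p => force (c7 p) fun p => force (c7 p) fun p => force (c7 p) fun p => force (c7 p) fun p => force (c7 p) fun p => force (c7 p) fun p => Nat.beq p i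

def rel2 (i : Nat) : Bool := force (c14 i) fun p => force (c14 p) fun p => force (c14 p) fun p => force (c14 p) fun p => force (c14 p) fun p => force (c14 p) fun p => force (c14 p) fun p => force (c14 p) fun p => force (c14 p) fun p => force (c14 p) fun p => force (c14 p) fun p => force (c14 p) fun p => force (c14 p) fun p => force (c14 p) fun p => force (c14 p) fun p => force (c14 p) fun p => force (c14 p) fun p => Nat.beq p i

/-- All checks at a coset. -/
def fastFix (i : Nat) : Bool := bif Nat.blt i 306936 then force (u0 i) fun a0 => force (u1 i) fun a1 => force (u2 i) fun a2 => force (u3 i) fun a3 => force (u4 i) fun a4 => force (u5 i) fun a5 => force (u6 i) fun a6 => force (u7 i) fun a7 => force (u8 i) fun a8 => force (u9 i) fun a9 => force (u10 i) fun a10 => force (u11 i) fun a11 => val0 i a0 && (val1 i a1 && (val2 i a2 && (val3 i a3 && (val4 i a4 && (val5 i a5 && (val6 i a6 && (val7 i a7 && (val8 i a8 && (val9 i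 a9 && (val10 i a10 && (val11 i a11 && (bra0_1 a0 a1 && (com0_2 a0 a2 && (com0_3 a0 a3 && (com0_4 a0 a4 && (com0_5 a0 a5 && (com0_6 a0 a6 && (com0_7 a0 a7 && (com0_8 a0 a8 && (com0_9 a0 a9 && (bra0_10 a0 a10 && (com0_11 a0 a11 && (bra1_2 a1 a2 && (com1_3 a1 a3 && (com1_4 a1 a4 && (com1_5 a1 a5 && (com1_6 a1 a6 && (com1_7 a1 a7 && (com1_8 a1 a8 && (com1_9 a1 a9 && (com1_10 a1 a10 && (com1_11 a1 a11 && (bra2_3 a2 a3 && (com2_4 a2 a4 && (com2_5 a2 a5 && (com2_6 a2 a6 && (com2_7 a2 a7 && (com2_8 a2 a8 && (com2_9 a2 a9 && (com2_10 a2 a10 && (com2_11 a2 a11 && (bra3_4 a3 a4 && (com3_5 a3 a5 && (com3_6 a3 a6 && (bra3_7 a3 a7 && (com3_8 a3 a8 && (com3_9 a3 a9 && (com3_10 a3 a10 && (com3_11 a3 a11 && (bra4_5 a4 a5 && (com4_6 a4 a6 && (com4_7 a4 a7 && (com4_8 a4 a8 && (com4_9 a4 a9 && (com4_10 a4 a10 && (com4_11 a4 a11 && (bra5_6 a5 a6 && (com5_7 a5 a7 && (com5_8 a5 a8 && (com5_9 a5 a9 && (com5_10 a5 a10 && (com5_11 a5 a11 && (com6_7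 a6 a7 && (com6_8 a6 a8 && (bra6_9 a6 a9 && (com6_10 a6 a10 && (com6_11 a6 a11 && (bra7_8 a7 a8 && (com7_9 a7 a9 && (com7_10 a7 a10 && (com7_11 a7 a11 && (com8_9 a8 a9 && (com8_10 a8 a10 && (com8_11 a8 a11 && (com9_10 a9 a10 && (com9_11 a9 a11 && (bra10_11 a10 a11 && (cmp7 i && (cmp14 i && (rel1 i a11 && (rel2 i))))))))))))))))))))))))))))))))))))))))))))))))))))))))))))))))))))))))))))))))) else true

theorem fastFix_spec (h : Wide.On fastFix 0 306936) (i : Nat) (hi : i < 306936) :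
    val0 i (u0 i) = true ∧
    val1 i (u1 i) = true ∧
    val2 i (u2 i) = true ∧
    val3 i (u3 i) = true ∧
    val4 i (u4 i) = true ∧
    val5 i (u5 i) = true ∧
    val6 i (u6 i) = true ∧
    val7 i (u7 i) = true ∧
    val8 i (u8 i) = true ∧
    val9 i (u9 i) = true ∧
    val10 i (u10 i) = true ∧
    val11 i (u11 i) = true ∧
    bra0_1 (u0 i) (u1 i) = true ∧
    com0_2 (u0 i) (u2 i) = true ∧
    com0_3 (u0 i) (u3 i) = true ∧
    com0_4 (u0 i) (u4 i) = true ∧
    com0_5 (u0 i) (u5 i) = true ∧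
    com0_6 (u0 i) (u6 i) = true ∧
    com0_7 (u0 i) (u7 i) = true ∧
    com0_8 (u0 i) (u8 i) = true ∧
    com0_9 (u0 i) (u9 i) = true ∧
    bra0_10 (u0 i) (u10 i) = true ∧
    com0_11 (u0 i) (u11 i) = true ∧
    bra1_2 (u1 i) (u2 i) = true ∧
    com1_3 (u1 i) (u3 i) = true ∧
    com1_4 (u1 i) (u4 i) = true ∧
    com1_5 (u1 i) (u5 i) = true ∧
    com1_6 (u1 i) (u6 i) = true ∧
    com1_7 (u1 i) (u7 i) = true ∧
    com1_8 (u1 i) (u8 i) = true ∧
    com1_9 (u1 i) (u9 i) = true ∧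
    com1_10 (u1 i) (u10 i) = true ∧
    com1_11 (u1 i) (u11 i) = true ∧
    bra2_3 (u2 i) (u3 i) = true ∧
    com2_4 (u2 i) (u4 i) = true ∧
    com2_5 (u2 i) (u5 i) = true ∧
    com2_6 (u2 i) (u6 i) = true ∧
    com2_7 (u2 i) (u7 i) = true ∧
    com2_8 (u2 i) (u8 i) = true ∧
    com2_9 (u2 i) (u9 i) = true ∧
    com2_10 (u2 i) (u10 i) = true ∧
    com2_11 (u2 i) (u11 i) = true ∧
    bra3_4 (u3 i) (u4 i) = true ∧
    com3_5 (u3 i) (u5 i) = true ∧
    com3_6 (u3 i) (u6 i) = true ∧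
    bra3_7 (u3 i) (u7 i) = true ∧
    com3_8 (u3 i) (u8 i) = true ∧
    com3_9 (u3 i) (u9 i) = true ∧
    com3_10 (u3 i) (u10 i) = true ∧
    com3_11 (u3 i) (u11 i) = true ∧
    bra4_5 (u4 i) (u5 i) = true ∧
    com4_6 (u4 i) (u6 i) = true ∧
    com4_7 (u4 i) (u7 i) = true ∧
    com4_8 (u4 i) (u8 i) = true ∧
    com4_9 (u4 i) (u9 i) = true ∧
    com4_10 (u4 i) (u10 i) = true ∧
    com4_11 (u4 i) (u11 i) = true ∧
    bra5_6 (u5 i) (u6 i) = true ∧
    com5_7 (u5 i) (u7 i) = true ∧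
    com5_8 (u5 i) (u8 i) = true ∧
    com5_9 (u5 i) (u9 i) = true ∧
    com5_10 (u5 i) (u10 i) = true ∧
    com5_11 (u5 i) (u11 i) = true ∧
    com6_7 (u6 i) (u7 i) = true ∧
    com6_8 (u6 i) (u8 i) = true ∧
    bra6_9 (u6 i) (u9 i) = true ∧
    com6_10 (u6 i) (u10 i) = true ∧
    com6_11 (u6 i) (u11 i) = true ∧
    bra7_8 (u7 i) (u8 i) = true ∧
    com7_9 (u7 i) (u9 i) = true ∧
    com7_10 (u7 i) (u10 i) = true ∧
    com7_11 (u7 i) (u11 i) = true ∧
    com8_9 (u8 i) (u9 i) = true ∧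
    com8_10 (u8 i) (u10 i) = true ∧
    com8_11 (u8 i) (u11 i) = true ∧
    com9_10 (u9 i) (u10 i) = true ∧
    com9_11 (u9 i) (u11 i) = true ∧
    bra10_11 (u10 i) (u11 i) = true ∧
    cmp7 i = true ∧
    cmp14 i = true ∧
    rel1 i (u11 i) = true ∧
    rel2 i = true := by
  have h1 := h i (Nat.zero_le _) hi
  unfold fastFix at h1
  rw [show Nat.blt i 306936 = true by simpa using hi] at h1
  simp only [cond_true, force_eq, Bool.and_eq_true] at h1
  exact h1

end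

end CfsgLib.CosetEnum.Fi24H
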