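import Cfsg.Agent.CosetEnum.Fi24H.FastFix

set_option autoImplicit false
set_option maxRecDepth 100000
set_option Elab.async false

/-! fix, part 0 (generated certificate). -/

namespace CfsgLib.CosetEnum.Fi24H

noncomputable section

theorem fix0 : allR (fastFix) 11 0 = true := by decide +kernel

theorem fix1 : allR (fastFix) 11 2048 = true := by decide +kernel

theorem fix2 : allR (fastFix) 11 4096 = true := by decide +kernel

theorem fix3 : allR (fastFix) 11 6144 = true := by decide +kernel

theorem fix4 : allR (fastFix) 11 8192 = true := by decide +kernel

theorem fix5 : allR (fastFix) 11 10240 = true := by decide +kernel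

theorem fix6 : allR (fastFix) 11 12288 = true := by decide +kernel

theorem fix7 : allR (fastFix) 11 14336 = true := by decide +kernel

theorem fix8 : allR (fastFix) 11 16384 = true := by decide +kernel

theorem fix9 : allR (fastFix) 11 18432 = true := by decide +kernel

theorem fix10 : allR (fastFix) 11 20480 = true := by decide +kernel

theorem fix11 : allR (fastFix) 11 22528 = true := by decide +kernel

theorem fix_on0 : Wide.On (fastFix) 0 24576 :=
  (((((((((((Wide.On.of_allR fix0).append (Wide.On.of_allR fix1)).append (Wide.On.of_allR fix2)).append (Wide.On.of_allR fix3)).append (Wide.On.of_allR fix4)).append (Wide.On.of_allR fix5)).append (Wide.On.of_allR fix6)).append (Wide.On.of_allR fix7)).append (Wide.On.of_allR fix8)).append (Wide.On.of_allR fix9)).append (Wide.On.of_allR fix10)).append (Wide.On.of_allR fix11)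

end

end CfsgLib.CosetEnum.Fi24H
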