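import Cfsg.Agent.CosetEnum.Fi24H.FastFix

set_option autoImplicit false
set_option maxRecDepth 100000
set_option Elab.async false

/-! fix, part 12 (generated certificate). -/

namespace CfsgLib.CosetEnum.Fi24H

noncomputable section

theorem fix144 : allR (fastFix) 11 294912 = true := by decide +kernel

theorem fix145 : allR (fastFix) 11 296960 = true := by decide +kernel

theorem fix146 : allR (fastFix) 11 299008 = true := by decide +kernel

theorem fix147 : allR (fastFix) 11 301056 = true := by decide +kernel

theorem fix148 : allR (fastFix) 11 303104 = true := by decide +kernel

theorem fix149 : allR (fastFix) 11 305152 = true := by decide +kernel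

theorem fix_on12 : Wide.On (fastFix) 294912 307200 :=
  (((((Wide.On.of_allR fix144).append (Wide.On.of_allR fix145)).append (Wide.On.of_allR fix146)).append (Wide.On.of_allR fix147)).append (Wide.On.of_allR fix148)).append (Wide.On.of_allR fix149)

end

end CfsgLib.CosetEnum.Fi24H
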