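import Cfsg.Agent.CosetEnum.Fi24H.OrbitCount

set_option autoImplicit false
set_option maxRecDepth 100000
set_option Elab.async false

/-! suborbits, part 0 (generated certificate). -/

namespace CfsgLib.CosetEnum.Fi24H

noncomputable section

theorem orb0 : allR orbEntry 11 0 = true := by decide +kernel

theorem small0 : cntR isSmall 11 0 = 671 := by decide +kernel

theorem orb1 : allR orbEntry 11 2048 = true := by decide +kernel

theorem small1 : cntR isSmall 11 2048 = 578 := by decide +kernel

theorem orb2 : allR orbEntry 11 4096 = true := by decide +kernel

theorem small2 : cntR isSmall 11 4096 = 560 := by decide +kernel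

theorem orb3 : allR orbEntry 11 6144 = true := by decide +kernel

theorem small3 : cntR isSmall 11 6144 = 495 := by decide +kernel

theorem orb4 : allR orbEntry 11 8192 = true := by decide +kernel

theorem small4 : cntR isSmall 11 8192 = 418 := by decide +kernel

theorem orb5 : allR orbEntry 11 10240 = true := by decide +kernel

theorem small5 : cntR isSmall 11 10240 = 422 := by decide +kernel

theorem orb6 : allR orbEntry 11 12288 = true := by decide +kernel

theorem small6 : cntR isSmall 11 12288 = 539 := by decide +kernel

theorem orb7 : allR orbEntry 11 14336 = true := by decide +kernel

theorem small7 : cntR isSmall 11 14336 = 307 := by decide +kernel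

theorem orb8 : allR orbEntry 11 16384 = true := by decide +kernel

theorem small8 : cntR isSmall 11 16384 = 532 := by decide +kernel

theorem orb9 : allR orbEntry 11 18432 = true := by decide +kernel

theorem small9 : cntR isSmall 11 18432 = 262 := by decide +kernel

theorem orb10 : allR orbEntry 11 20480 = true := by decide +kernel

theorem small10 : cntR isSmall 11 20480 = 330 := by decide +kernel

theorem orb11 : allR orbEntry 11 22528 = true := by decide +kernel

theorem small11 : cntR isSmall 11 22528 = 549 := by decide +kernel

theorem orb12 : allR orbEntry 11 24576 = true := by decide +kernel

theorem small12 : cntR isSmall 11 24576 = 194 := by decide +kernel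

theorem orb13 : allR orbEntry 11 26624 = true := by decide +kernel

theorem small13 : cntR isSmall 11 26624 = 268 := by decide +kernel

theorem orb14 : allR orbEntry 11 28672 = true := by decide +kernel

theorem small14 : cntR isSmall 11 28672 = 600 := by decide +kernel

theorem orb15 : allR orbEntry 11 30720 = true := by decide +kernel

theorem small15 : cntR isSmall 11 30720 = 316 := by decide +kernel

theorem orb16 : allR orbEntry 11 32768 = true := by decide +kernel

theorem small16 : cntR isSmall 11 32768 = 129 := by decide +kernel

theorem orb17 : allR orbEntry 11 34816 = true := by decide +kernel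

theorem small17 : cntR isSmall 11 34816 = 252 := by decide +kernel

theorem orb18 : allR orbEntry 11 36864 = true := by decide +kernel

theorem small18 : cntR isSmall 11 36864 = 582 := by decide +kernel

theorem orb19 : allR orbEntry 11 38912 = true := by decide +kernel

theorem small19 : cntR isSmall 11 38912 = 472 := by decide +kernel

theorem orb20 : allR orbEntry 11 40960 = true := by decide +kernel

theorem small20 : cntR isSmall 11 40960 = 71 := by decide +kernel

theorem orb21 : allR orbEntry 11 43008 = true := by decide +kernel

theorem small21 : cntR isSmall 11 43008 = 116 := by decide +kernel

theorem orb22 : allR orbEntry 11 45056 = true := by decide +kernel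

theorem small22 : cntR isSmall 11 45056 = 289 := by decide +kernel

theorem orb23 : allR orbEntry 11 47104 = true := by decide +kernel

theorem small23 : cntR isSmall 11 47104 = 635 := by decide +kernel

theorem orb24 : allR orbEntry 11 49152 = true := by decide +kernel

theorem small24 : cntR isSmall 11 49152 = 348 := by decide +kernel

theorem orb25 : allR orbEntry 11 51200 = true := by decide +kernel

theorem small25 : cntR isSmall 11 51200 = 205 := by decide +kernel

theorem orb26 : allR orbEntry 11 53248 = true := by decide +kernel

theorem small26 : cntR isSmall 11 53248 = 89 := by decide +kernel

theorem orb27 : allR orbEntry 11 55296 = true := by decide +kernel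

theorem small27 : cntR isSmall 11 55296 = 129 := by decide +kernel

theorem orb28 : allR orbEntry 11 57344 = true := by decide +kernel

theorem small28 : cntR isSmall 11 57344 = 400 := by decide +kernel

theorem orb29 : allR orbEntry 11 59392 = true := by decide +kernel

theorem small29 : cntR isSmall 11 59392 = 571 := by decide +kernel

theorem orb_on0 : Wide.On orbEntry 0 61440 :=
  (((((((((((((((((((((((((((((Wide.On.of_allR orb0).append (Wide.On.of_allR orb1)).append (Wide.On.of_allR orb2)).append (Wide.On.of_allR orb3)).append (Wide.On.of_allR orb4)).append (Wide.On.of_allR orb5)).append (Wide.On.of_allR orb6)).append (Wide.On.of_allR orb7)).append (Wide.On.of_allR orb8)).append (Wide.On.of_allR orb9)).append (Wide.On.of_allR orb10)).append (Wide.On.of_allR orb11)).append (Wide.On.of_allR orb12)).append (Wide.On.of_allR orb13)).append (Wide.On.of_allR orb14)).append (Wide.On.of_allR orb15)).append (Wide.On.of_allR orb16)).append (Wide.On.of_allR orb17)).append (Wide.On.of_allR orb18)).append (Wide.On.of_allR orb19)).append (Wide.On.of_allR orb20)).append (Wide.On.of_allR orb21)).append (Wide.On.of_allR orb22)).append (Wide.On.of_allR orb23)).append (Wide.On.of_allR orb24)).append (Wide.On.of_allR orb25)).append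 (Wide.On.of_allR orb26)).append (Wide.On.of_allR orb27)).append (Wide.On.of_allR orb28)).append (Wide.On.of_allR orb29)

theorem small_on0 : SmallCount 0 61440 11329 :=
  (((((((((((((((((((((((((((((SmallCount.of_cntR small0).append (SmallCount.of_cntR small1)).append (SmallCount.of_cntR small2)).append (SmallCount.of_cntR small3)).append (SmallCount.of_cntR small4)).append (SmallCount.of_cntR small5)).append (SmallCount.of_cntR small6)).append (SmallCount.of_cntR small7)).append (SmallCount.of_cntR small8)).append (SmallCount.of_cntR small9)).append (SmallCount.of_cntR small10)).append (SmallCount.of_cntR small11)).append (SmallCount.of_cntR small12)).append (SmallCount.of_cntR small13)).append (SmallCount.of_cntR small14)).append (SmallCount.of_cntR small15)).append (SmallCount.of_cntR small16)).append (SmallCount.of_cntR small17)).append (SmallCount.of_cntR small18)).append (SmallCount.of_cntR small19)).append (SmallCount.of_cntR small20)).append (SmallCount.of_cntR small21)).append (SmallCount.of_cntR small22)).append (SmallCount.of_cntR small23)).append (SmallCount.of_cntR small24)).append (SmallCount.of_cntR small25)).append (SmallCount.of_cntR small26)).append (SmallCount.of_cntR small27)).append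 (SmallCount.of_cntR small28)).append (SmallCount.of_cntR small29)

end

end CfsgLib.CosetEnum.Fi24H
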