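import Cfsg.Agent.CosetEnum.Fi24H.OrbitDefs
import Cfsg.Agent.CosetEnum.Index

set_option autoImplicit false
set_option maxRecDepth 100000
set_option Elab.async false

/-! Counting (generated certificate). -/

namespace CfsgLib.CosetEnum.Fi24H

noncomputable section

/-- The number of marked points in an interval. -/
structure SmallCount (lo hi m : Nat) : Prop where
  le : lo ≤ hi
  card : ((Finset.Ico lo hi).filter fun i => isSmall i = true).card = m

theorem SmallCount.of_cntR {lo d m : Nat} (h : cntR isSmall d lo = m) : SmallCount lo (lo + 2 ^ d) m :=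
  ⟨Nat.le_add_right _ _, (cntR_spec isSmall d lo).symm.trans h⟩

theorem SmallCount.append {a b c m m' : Nat} (h : SmallCount a b m) (h' : SmallCount b c m') :
    SmallCount a c (m + m') := by
  refine ⟨h.le.trans h'.le, ?_⟩
  rw [← h.card, ← h'.card, ← Finset.card_union_of_disjoint
    (Finset.disjoint_filter_filter (Finset.Ico_disjoint_Ico_consecutive a b c)), ← Finset.filter_union,
    Finset.Ico_union_Ico_eq_Ico h.le h'.le]

end

end CfsgLib.CosetEnum.Fi24H
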