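import Cfsg.Agent.CosetEnum.Fi24H.Table
import Cfsg.Agent.CosetEnum.Fi24H.Labels

set_option autoImplicit false
set_option maxRecDepth 100000
set_option Elab.async false

/-! The check of the suborbit labels (generated certificate). -/

namespace CfsgLib.CosetEnum.Fi24H

noncomputable section

/-- The image under any letter. -/
def uAt (x i : Nat) : Nat := (bif Nat.blt x 6 then (bif Nat.blt x 3 then (bif Nat.blt x 1 then u0 i else (bif Nat.blt x 2 then u1 i else u2 i)) else (bif Nat.blt x 4 then u3 i else (bif Nat.blt x 5 then u4 i else u5 i))) else (bif Nat.blt x 9 then (bif Nat.blt x 7 then u6 i else (bif Nat.blt x 8 then u7 i else u8 i)) else (bif Nat.blt x 10 then u9 i else (bif Nat.blt x 11 then u10 i else u11 i))))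

theorem uAt_eq (x i : Nat) (hx : x < 12) : uAt x i = Wide.img (E x i) := by
  interval_cases x <;> rfl

/-- The label check at a coset. -/
def orbEntry (i : Nat) : Bool :=
  bif Nat.blt i 306936 then
    force (lab i) fun v => force (Nat.land v 3) fun w => force (Nat.land (Nat.shiftRight v 2) 15) fun x =>
      force (Nat.shiftRight v 6) fun d =>
      (bif Nat.beq i 0 then Nat.beq w 0
       else (Nat.beq w 1 || Nat.beq w 2) &&
        (bif Nat.beq d 0 then Nat.beq i (bif Nat.beq w 1 then 1 else 8)
         else Nat.blt x 12 && (Nat.blt x 10 || Nat.beq x 11) &&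
          force (uAt x i) fun j => force (lab j) fun v' =>
            Nat.beq (Nat.land v' 3) w && Nat.beq (Nat.succ (Nat.shiftRight v' 6)) d)) && (Nat.beq (Nat.land (lab (u0 i)) 3) w && Nat.beq (Nat.land (lab (u1 i)) 3) w && Nat.beq (Nat.land (lab (u2 i)) 3) w && Nat.beq (Nat.land (lab (u3 i)) 3) w && Nat.beq (Nat.land (lab (u4 i)) 3) w && Nat.beq (Nat.land (lab (u5 i)) 3) w && Nat.beq (Nat.land (lab (u6 i)) 3) w && Nat.beq (Nat.land (lab (u7 i)) 3) w && Nat.beq (Nat.land (lab (u8 i)) 3) w && Nat.beq (Nat.land (lab (u9 i)) 3) w && Nat.beq (Nat.land (lab (u11 i)) 3) w)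
  else true

/-- Membership of the orbit of length 31671. -/
def isSmall (i : Nat) : Bool := Nat.blt i 306936 && Nat.beq (Nat.land (lab i) 3) 2

end

end CfsgLib.CosetEnum.Fi24H
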