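import Cfsg.Agent.CosetEnum.Fi24H.FastFix
import Cfsg.Agent.CosetEnum.Hom
import Cfsg.Agent.CosetEnum.Fi24.Setup

set_option autoImplicit false
set_option maxRecDepth 100000
set_option maxHeartbeats 1000000

/-! The action on the cosets (generated certificate). -/

namespace CfsgLib.CosetEnum.Fi24H

noncomputable section

/-- The image of a coset under a letter. -/
def T (x i : Nat) : Nat := Wide.img (E x i)

/-- The end of a path. -/
def walkT (w : List Nat) (i : Nat) : Nat := w.foldl (fun a x => T x a) i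

theorem walkT_cons (x : Nat) (w : List Nat) (i : Nat) : walkT (x :: w) i = walkT w (T x i) := rfl

theorem walkT_append (v w : List Nat) (i : Nat) : walkT (v ++ w) i = walkT w (walkT v i) := List.foldl_append

theorem valS0 (h : Wide.On fastFix 0 306936) (i : Nat) (hi : i < 306936) : T 0 i < 306936 ∧ T 0 (T 0 i) = i := by
  have h1 := (fastFix_spec h i hi).1
  simp only [val0, Bool.and_eq_true, Nat.blt_eq, Nat.beq_eq] at h1
  exact h1

theorem valS1 (h : Wide.On fastFix 0 306936) (i : Nat) (hi : i < 306936) : T 1 i < 306936 ∧ T 1 (T 1 i) = i := by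
  have h1 := (fastFix_spec h i hi).2.1
  simp only [val1, Bool.and_eq_true, Nat.blt_eq, Nat.beq_eq] at h1
  exact h1

theorem valS2 (h : Wide.On fastFix 0 306936) (i : Nat) (hi : i < 306936) : T 2 i < 306936 ∧ T 2 (T 2 i) = i := by
  have h1 := (fastFix_spec h i hi).2.2.1
  simp only [val2, Bool.and_eq_true, Nat.blt_eq, Nat.beq_eq] at h1
  exact h1

theorem valS3 (h : Wide.On fastFix 0 306936) (i : Nat) (hi : i < 306936) : T 3 i < 306936 ∧ T 3 (T 3 i) = i := by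
  have h1 := (fastFix_spec h i hi).2.2.2.1
  simp only [val3, Bool.and_eq_true, Nat.blt_eq, Nat.beq_eq] at h1
  exact h1

theorem valS4 (h : Wide.On fastFix 0 306936) (i : Nat) (hi : i < 306936) : T 4 i < 306936 ∧ T 4 (T 4 i) = i := by
  have h1 := (fastFix_spec h i hi).2.2.2.2.1
  simp only [val4, Bool.and_eq_true, Nat.blt_eq, Nat.beq_eq] at h1
  exact h1

theorem valS5 (h : Wide.On fastFix 0 306936) (i : Nat) (hi : i < 306936) : T 5 i < 306936 ∧ T 5 (T 5 i) = i := by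
  have h1 := (fastFix_spec h i hi).2.2.2.2.2.1
  simp only [val5, Bool.and_eq_true, Nat.blt_eq, Nat.beq_eq] at h1
  exact h1

theorem valS6 (h : Wide.On fastFix 0 306936) (i : Nat) (hi : i < 306936) : T 6 i < 306936 ∧ T 6 (T 6 i) = i := by
  have h1 := (fastFix_spec h i hi).2.2.2.2.2.2.1
  simp only [val6, Bool.and_eq_true, Nat.blt_eq, Nat.beq_eq] at h1
  exact h1

theorem valS7 (h : Wide.On fastFix 0 306936) (i : Nat) (hi : i < 306936) : T 7 i < 306936 ∧ T 7 (T 7 i) = i := by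
  have h1 := (fastFix_spec h i hi).2.2.2.2.2.2.2.1
  simp only [val7, Bool.and_eq_true, Nat.blt_eq, Nat.beq_eq] at h1
  exact h1

theorem valS8 (h : Wide.On fastFix 0 306936) (i : Nat) (hi : i < 306936) : T 8 i < 306936 ∧ T 8 (T 8 i) = i := by
  have h1 := (fastFix_spec h i hi).2.2.2.2.2.2.2.2.1
  simp only [val8, Bool.and_eq_true, Nat.blt_eq, Nat.beq_eq] at h1
  exact h1

theorem valS9 (h : Wide.On fastFix 0 306936) (i : Nat) (hi : i < 306936) : T 9 i < 306936 ∧ T 9 (T 9 i) = i := by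
  have h1 := (fastFix_spec h i hi).2.2.2.2.2.2.2.2.2.1
  simp only [val9, Bool.and_eq_true, Nat.blt_eq, Nat.beq_eq] at h1
  exact h1

theorem valS10 (h : Wide.On fastFix 0 306936) (i : Nat) (hi : i < 306936) : T 10 i < 306936 ∧ T 10 (T 10 i) = i := by
  have h1 := (fastFix_spec h i hi).2.2.2.2.2.2.2.2.2.2.1
  simp only [val10, Bool.and_eq_true, Nat.blt_eq, Nat.beq_eq] at h1
  exact h1

theorem valS11 (h : Wide.On fastFix 0 306936) (i : Nat) (hi : i < 306936) : T 11 i < 306936 ∧ T 11 (T 11 i) = i := by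
  have h1 := (fastFix_spec h i hi).2.2.2.2.2.2.2.2.2.2.2.1
  simp only [val11, Bool.and_eq_true, Nat.blt_eq, Nat.beq_eq] at h1
  exact h1

theorem braS0_1 (h : Wide.On fastFix 0 306936) (i : Nat) (hi : i < 306936) : T 0 (T 1 (T 0 i)) = T 1 (T 0 (T 1 i)) := by
  have h1 := (fastFix_spec h i hi).2.2.2.2.2.2.2.2.2.2.2.2.1
  simp only [bra0_1, force_eq, Nat.beq_eq] at h1
  exact h1

theorem comS0_2 (h : Wide.On fastFix 0 306936) (i : Nat) (hi : i < 306936) : T 2 (T 0 i) = T 0 (T 2 i) := by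
  have h1 := (fastFix_spec h i hi).2.2.2.2.2.2.2.2.2.2.2.2.2.1
  simp only [com0_2, Nat.beq_eq] at h1
  exact h1

theorem comS0_3 (h : Wide.On fastFix 0 306936) (i : Nat) (hi : i < 306936) : T 3 (T 0 i) = T 0 (T 3 i) := by
  have h1 := (fastFix_spec h i hi).2.2.2.2.2.2.2.2.2.2.2.2.2.2.1
  simp only [com0_3, Nat.beq_eq] at h1
  exact h1

theorem comS0_4 (h : Wide.On fastFix 0 306936) (i : Nat) (hi : i < 306936) : T 4 (T 0 i) = T 0 (T 4 i) := by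
  have h1 := (fastFix_spec h i hi).2.2.2.2.2.2.2.2.2.2.2.2.2.2.2.1
  simp only [com0_4, Nat.beq_eq] at h1
  exact h1

theorem comS0_5 (h : Wide.On fastFix 0 306936) (i : Nat) (hi : i < 306936) : T 5 (T 0 i) = T 0 (T 5 i) := by
  have h1 := (fastFix_spec h i hi).2.2.2.2.2.2.2.2.2.2.2.2.2.2.2.2.1
  simp only [com0_5, Nat.beq_eq] at h1
  exact h1

theorem comS0_6 (h : Wide.On fastFix 0 306936) (i : Nat) (hi : i < 306936) : T 6 (T 0 i) = T 0 (T 6 i) := by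
  have h1 := (fastFix_spec h i hi).2.2.2.2.2.2.2.2.2.2.2.2.2.2.2.2.2.1
  simp only [com0_6, Nat.beq_eq] at h1
  exact h1

theorem comS0_7 (h : Wide.On fastFix 0 306936) (i : Nat) (hi : i < 306936) : T 7 (T 0 i) = T 0 (T 7 i) := by
  have h1 := (fastFix_spec h i hi).2.2.2.2.2.2.2.2.2.2.2.2.2.2.2.2.2.2.1
  simp only [com0_7, Nat.beq_eq] at h1
  exact h1

theorem comS0_8 (h : Wide.On fastFix 0 306936) (i : Nat) (hi : i < 306936) : T 8 (T 0 i) = T 0 (T 8 i) := by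
  have h1 := (fastFix_spec h i hi).2.2.2.2.2.2.2.2.2.2.2.2.2.2.2.2.2.2.2.1
  simp only [com0_8, Nat.beq_eq] at h1
  exact h1

theorem comS0_9 (h : Wide.On fastFix 0 306936) (i : Nat) (hi : i < 306936) : T 9 (T 0 i) = T 0 (T 9 i) := by
  have h1 := (fastFix_spec h i hi).2.2.2.2.2.2.2.2.2.2.2.2.2.2.2.2.2.2.2.2.1
  simp only [com0_9, Nat.beq_eq] at h1
  exact h1

theorem braS0_10 (h : Wide.On fastFix 0 306936) (i : Nat) (hi : i < 306936) : T 0 (T 10 (T 0 i)) = T 10 (T 0 (T 10 i)) := by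
  have h1 := (fastFix_spec h i hi).2.2.2.2.2.2.2.2.2.2.2.2.2.2.2.2.2.2.2.2.2.1
  simp only [bra0_10, force_eq, Nat.beq_eq] at h1
  exact h1

theorem comS0_11 (h : Wide.On fastFix 0 306936) (i : Nat) (hi : i < 306936) : T 11 (T 0 i) = T 0 (T 11 i) := by
  have h1 := (fastFix_spec h i hi).2.2.2.2.2.2.2.2.2.2.2.2.2.2.2.2.2.2.2.2.2.2.1
  simp only [com0_11, Nat.beq_eq] at h1
  exact h1

theorem braS1_2 (h : Wide.On fastFix 0 306936) (i : Nat) (hi : i < 306936) : T 1 (T 2 (T 1 i)) = T 2 (T 1 (T 2 i)) := by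
  have h1 := (fastFix_spec h i hi).2.2.2.2.2.2.2.2.2.2.2.2.2.2.2.2.2.2.2.2.2.2.2.1
  simp only [bra1_2, force_eq, Nat.beq_eq] at h1
  exact h1

theorem comS1_3 (h : Wide.On fastFix 0 306936) (i : Nat) (hi : i < 306936) : T 3 (T 1 i) = T 1 (T 3 i) := by
  have h1 := (fastFix_spec h i hi).2.2.2.2.2.2.2.2.2.2.2.2.2.2.2.2.2.2.2.2.2.2.2.2.1
  simp only [com1_3, Nat.beq_eq] at h1
  exact h1

theorem comS1_4 (h : Wide.On fastFix 0 306936) (i : Nat) (hi : i < 306936) : T 4 (T 1 i) = T 1 (T 4 i) := by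
  have h1 := (fastFix_spec h i hi).2.2.2.2.2.2.2.2.2.2.2.2.2.2.2.2.2.2.2.2.2.2.2.2.2.1
  simp only [com1_4, Nat.beq_eq] at h1
  exact h1

theorem comS1_5 (h : Wide.On fastFix 0 306936) (i : Nat) (hi : i < 306936) : T 5 (T 1 i) = T 1 (T 5 i) := by
  have h1 := (fastFix_spec h i hi).2.2.2.2.2.2.2.2.2.2.2.2.2.2.2.2.2.2.2.2.2.2.2.2.2.2.1
  simp only [com1_5, Nat.beq_eq] at h1
  exact h1

theorem comS1_6 (h : Wide.On fastFix 0 306936) (i : Nat) (hi : i < 306936) : T 6 (T 1 i) = T 1 (T 6 i) := by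
  have h1 := (fastFix_spec h i hi).2.2.2.2.2.2.2.2.2.2.2.2.2.2.2.2.2.2.2.2.2.2.2.2.2.2.2.1
  simp only [com1_6, Nat.beq_eq] at h1
  exact h1

theorem comS1_7 (h : Wide.On fastFix 0 306936) (i : Nat) (hi : i < 306936) : T 7 (T 1 i) = T 1 (T 7 i) := by
  have h1 := (fastFix_spec h i hi).2.2.2.2.2.2.2.2.2.2.2.2.2.2.2.2.2.2.2.2.2.2.2.2.2.2.2.2.1
  simp only [com1_7, Nat.beq_eq] at h1
  exact h1

theorem comS1_8 (h : Wide.On fastFix 0 306936) (i : Nat) (hi : i < 306936) : T 8 (T 1 i) = T 1 (T 8 i) := by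
  have h1 := (fastFix_spec h i hi).2.2.2.2.2.2.2.2.2.2.2.2.2.2.2.2.2.2.2.2.2.2.2.2.2.2.2.2.2.1
  simp only [com1_8, Nat.beq_eq] at h1
  exact h1

theorem comS1_9 (h : Wide.On fastFix 0 306936) (i : Nat) (hi : i < 306936) : T 9 (T 1 i) = T 1 (T 9 i) := by
  have h1 := (fastFix_spec h i hi).2.2.2.2.2.2.2.2.2.2.2.2.2.2.2.2.2.2.2.2.2.2.2.2.2.2.2.2.2.2.1
  simp only [com1_9, Nat.beq_eq] at h1
  exact h1

theorem comS1_10 (h : Wide.On fastFix 0 306936) (i : Nat) (hi : i < 306936) : T 10 (T 1 i) = T 1 (T 10 i) := by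
  have h1 := (fastFix_spec h i hi).2.2.2.2.2.2.2.2.2.2.2.2.2.2.2.2.2.2.2.2.2.2.2.2.2.2.2.2.2.2.2.1
  simp only [com1_10, Nat.beq_eq] at h1
  exact h1

theorem comS1_11 (h : Wide.On fastFix 0 306936) (i : Nat) (hi : i < 306936) : T 11 (T 1 i) = T 1 (T 11 i) := by
  have h1 := (fastFix_spec h i hi).2.2.2.2.2.2.2.2.2.2.2.2.2.2.2.2.2.2.2.2.2.2.2.2.2.2.2.2.2.2.2.2.1
  simp only [com1_11, Nat.beq_eq] at h1
  exact h1

theorem braS2_3 (h : Wide.On fastFix 0 306936) (i : Nat) (hi : i < 306936) : T 2 (T 3 (T 2 i)) = T 3 (T 2 (T 3 i)) := by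
  have h1 := (fastFix_spec h i hi).2.2.2.2.2.2.2.2.2.2.2.2.2.2.2.2.2.2.2.2.2.2.2.2.2.2.2.2.2.2.2.2.2.1
  simp only [bra2_3, force_eq, Nat.beq_eq] at h1
  exact h1

theorem comS2_4 (h : Wide.On fastFix 0 306936) (i : Nat) (hi : i < 306936) : T 4 (T 2 i) = T 2 (T 4 i) := by
  have h1 := (fastFix_spec h i hi).2.2.2.2.2.2.2.2.2.2.2.2.2.2.2.2.2.2.2.2.2.2.2.2.2.2.2.2.2.2.2.2.2.2.1
  simp only [com2_4, Nat.beq_eq] at h1
  exact h1

theorem comS2_5 (h : Wide.On fastFix 0 306936) (i : Nat) (hi : i < 306936) : T 5 (T 2 i) = T 2 (T 5 i) := by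
  have h1 := (fastFix_spec h i hi).2.2.2.2.2.2.2.2.2.2.2.2.2.2.2.2.2.2.2.2.2.2.2.2.2.2.2.2.2.2.2.2.2.2.2.1
  simp only [com2_5, Nat.beq_eq] at h1
  exact h1

theorem comS2_6 (h : Wide.On fastFix 0 306936) (i : Nat) (hi : i < 306936) : T 6 (T 2 i) = T 2 (T 6 i) := by
  have h1 := (fastFix_spec h i hi).2.2.2.2.2.2.2.2.2.2.2.2.2.2.2.2.2.2.2.2.2.2.2.2.2.2.2.2.2.2.2.2.2.2.2.2.1
  simp only [com2_6, Nat.beq_eq] at h1
  exact h1

theorem comS2_7 (h : Wide.On fastFix 0 306936) (i : Nat) (hi : i < 306936) : T 7 (T 2 i) = T 2 (T 7 i) := by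
  have h1 := (fastFix_spec h i hi).2.2.2.2.2.2.2.2.2.2.2.2.2.2.2.2.2.2.2.2.2.2.2.2.2.2.2.2.2.2.2.2.2.2.2.2.2.1
  simp only [com2_7, Nat.beq_eq] at h1
  exact h1

theorem comS2_8 (h : Wide.On fastFix 0 306936) (i : Nat) (hi : i < 306936) : T 8 (T 2 i) = T 2 (T 8 i) := by
  have h1 := (fastFix_spec h i hi).2.2.2.2.2.2.2.2.2.2.2.2.2.2.2.2.2.2.2.2.2.2.2.2.2.2.2.2.2.2.2.2.2.2.2.2.2.2.1
  simp only [com2_8, Nat.beq_eq] at h1
  exact h1

theorem comS2_9 (h : Wide.On fastFix 0 306936) (i : Nat) (hi : i < 306936) : T 9 (T 2 i) = T 2 (T 9 i) := by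
  have h1 := (fastFix_spec h i hi).2.2.2.2.2.2.2.2.2.2.2.2.2.2.2.2.2.2.2.2.2.2.2.2.2.2.2.2.2.2.2.2.2.2.2.2.2.2.2.1
  simp only [com2_9, Nat.beq_eq] at h1
  exact h1

theorem comS2_10 (h : Wide.On fastFix 0 306936) (i : Nat) (hi : i < 306936) : T 10 (T 2 i) = T 2 (T 10 i) := by
  have h1 := (fastFix_spec h i hi).2.2.2.2.2.2.2.2.2.2.2.2.2.2.2.2.2.2.2.2.2.2.2.2.2.2.2.2.2.2.2.2.2.2.2.2.2.2.2.2.1
  simp only [com2_10, Nat.beq_eq] at h1
  exact h1

theorem comS2_11 (h : Wide.On fastFix 0 306936) (i : Nat) (hi : i < 306936) : T 11 (T 2 i) = T 2 (T 11 i) := by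
  have h1 := (fastFix_spec h i hi).2.2.2.2.2.2.2.2.2.2.2.2.2.2.2.2.2.2.2.2.2.2.2.2.2.2.2.2.2.2.2.2.2.2.2.2.2.2.2.2.2.1
  simp only [com2_11, Nat.beq_eq] at h1
  exact h1

theorem braS3_4 (h : Wide.On fastFix 0 306936) (i : Nat) (hi : i < 306936) : T 3 (T 4 (T 3 i)) = T 4 (T 3 (T 4 i)) := by
  have h1 := (fastFix_spec h i hi).2.2.2.2.2.2.2.2.2.2.2.2.2.2.2.2.2.2.2.2.2.2.2.2.2.2.2.2.2.2.2.2.2.2.2.2.2.2.2.2.2.2.1
  simp only [bra3_4, force_eq, Nat.beq_eq] at h1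
  exact h1

theorem comS3_5 (h : Wide.On fastFix 0 306936) (i : Nat) (hi : i < 306936) : T 5 (T 3 i) = T 3 (T 5 i) := by
  have h1 := (fastFix_spec h i hi).2.2.2.2.2.2.2.2.2.2.2.2.2.2.2.2.2.2.2.2.2.2.2.2.2.2.2.2.2.2.2.2.2.2.2.2.2.2.2.2.2.2.2.1
  simp only [com3_5, Nat.beq_eq] at h1
  exact h1

theorem comS3_6 (h : Wide.On fastFix 0 306936) (i : Nat) (hi : i < 306936) : T 6 (T 3 i) = T 3 (T 6 i) := by
  have h1 := (fastFix_spec h i hi).2.2.2.2.2.2.2.2.2.2.2.2.2.2.2.2.2.2.2.2.2.2.2.2.2.2.2.2.2.2.2.2.2.2.2.2.2.2.2.2.2.2.2.2.1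
  simp only [com3_6, Nat.beq_eq] at h1
  exact h1

theorem braS3_7 (h : Wide.On fastFix 0 306936) (i : Nat) (hi : i < 306936) : T 3 (T 7 (T 3 i)) = T 7 (T 3 (T 7 i)) := by
  have h1 := (fastFix_spec h i hi).2.2.2.2.2.2.2.2.2.2.2.2.2.2.2.2.2.2.2.2.2.2.2.2.2.2.2.2.2.2.2.2.2.2.2.2.2.2.2.2.2.2.2.2.2.1
  simp only [bra3_7, force_eq, Nat.beq_eq] at h1
  exact h1

theorem comS3_8 (h : Wide.On fastFix 0 306936) (i : Nat) (hi : i < 306936) : T 8 (T 3 i) = T 3 (T 8 i) := by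
  have h1 := (fastFix_spec h i hi).2.2.2.2.2.2.2.2.2.2.2.2.2.2.2.2.2.2.2.2.2.2.2.2.2.2.2.2.2.2.2.2.2.2.2.2.2.2.2.2.2.2.2.2.2.2.1
  simp only [com3_8, Nat.beq_eq] at h1
  exact h1

theorem comS3_9 (h : Wide.On fastFix 0 306936) (i : Nat) (hi : i < 306936) : T 9 (T 3 i) = T 3 (T 9 i) := by
  have h1 := (fastFix_spec h i hi).2.2.2.2.2.2.2.2.2.2.2.2.2.2.2.2.2.2.2.2.2.2.2.2.2.2.2.2.2.2.2.2.2.2.2.2.2.2.2.2.2.2.2.2.2.2.2.1
  simp only [com3_9, Nat.beq_eq] at h1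
  exact h1

theorem comS3_10 (h : Wide.On fastFix 0 306936) (i : Nat) (hi : i < 306936) : T 10 (T 3 i) = T 3 (T 10 i) := by
  have h1 := (fastFix_spec h i hi).2.2.2.2.2.2.2.2.2.2.2.2.2.2.2.2.2.2.2.2.2.2.2.2.2.2.2.2.2.2.2.2.2.2.2.2.2.2.2.2.2.2.2.2.2.2.2.2.1
  simp only [com3_10, Nat.beq_eq] at h1
  exact h1

theorem comS3_11 (h : Wide.On fastFix 0 306936) (i : Nat) (hi : i < 306936) : T 11 (T 3 i) = T 3 (T 11 i) := by
  have h1 := (fastFix_spec h i hi).2.2.2.2.2.2.2.2.2.2.2.2.2.2.2.2.2.2.2.2.2.2.2.2.2.2.2.2.2.2.2.2.2.2.2.2.2.2.2.2.2.2.2.2.2.2.2.2.2.1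
  simp only [com3_11, Nat.beq_eq] at h1
  exact h1

theorem braS4_5 (h : Wide.On fastFix 0 306936) (i : Nat) (hi : i < 306936) : T 4 (T 5 (T 4 i)) = T 5 (T 4 (T 5 i)) := by
  have h1 := (fastFix_spec h i hi).2.2.2.2.2.2.2.2.2.2.2.2.2.2.2.2.2.2.2.2.2.2.2.2.2.2.2.2.2.2.2.2.2.2.2.2.2.2.2.2.2.2.2.2.2.2.2.2.2.2.1
  simp only [bra4_5, force_eq, Nat.beq_eq] at h1
  exact h1

theorem comS4_6 (h : Wide.On fastFix 0 306936) (i : Nat) (hi : i < 306936) : T 6 (T 4 i) = T 4 (T 6 i) := by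
  have h1 := (fastFix_spec h i hi).2.2.2.2.2.2.2.2.2.2.2.2.2.2.2.2.2.2.2.2.2.2.2.2.2.2.2.2.2.2.2.2.2.2.2.2.2.2.2.2.2.2.2.2.2.2.2.2.2.2.2.1
  simp only [com4_6, Nat.beq_eq] at h1
  exact h1

theorem comS4_7 (h : Wide.On fastFix 0 306936) (i : Nat) (hi : i < 306936) : T 7 (T 4 i) = T 4 (T 7 i) := by
  have h1 := (fastFix_spec h i hi).2.2.2.2.2.2.2.2.2.2.2.2.2.2.2.2.2.2.2.2.2.2.2.2.2.2.2.2.2.2.2.2.2.2.2.2.2.2.2.2.2.2.2.2.2.2.2.2.2.2.2.2.1
  simp only [com4_7, Nat.beq_eq] at h1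
  exact h1

theorem comS4_8 (h : Wide.On fastFix 0 306936) (i : Nat) (hi : i < 306936) : T 8 (T 4 i) = T 4 (T 8 i) := by
  have h1 := (fastFix_spec h i hi).2.2.2.2.2.2.2.2.2.2.2.2.2.2.2.2.2.2.2.2.2.2.2.2.2.2.2.2.2.2.2.2.2.2.2.2.2.2.2.2.2.2.2.2.2.2.2.2.2.2.2.2.2.1
  simp only [com4_8, Nat.beq_eq] at h1
  exact h1

theorem comS4_9 (h : Wide.On fastFix 0 306936) (i : Nat) (hi : i < 306936) : T 9 (T 4 i) = T 4 (T 9 i) := by
  have h1 := (fastFix_spec h i hi).2.2.2.2.2.2.2.2.2.2.2.2.2.2.2.2.2.2.2.2.2.2.2.2.2.2.2.2.2.2.2.2.2.2.2.2.2.2.2.2.2.2.2.2.2.2.2.2.2.2.2.2.2.2.1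
  simp only [com4_9, Nat.beq_eq] at h1
  exact h1

theorem comS4_10 (h : Wide.On fastFix 0 306936) (i : Nat) (hi : i < 306936) : T 10 (T 4 i) = T 4 (T 10 i) := by
  have h1 := (fastFix_spec h i hi).2.2.2.2.2.2.2.2.2.2.2.2.2.2.2.2.2.2.2.2.2.2.2.2.2.2.2.2.2.2.2.2.2.2.2.2.2.2.2.2.2.2.2.2.2.2.2.2.2.2.2.2.2.2.2.1
  simp only [com4_10, Nat.beq_eq] at h1
  exact h1

theorem comS4_11 (h : Wide.On fastFix 0 306936) (i : Nat) (hi : i < 306936) : T 11 (T 4 i) = T 4 (T 11 i) := by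
  have h1 := (fastFix_spec h i hi).2.2.2.2.2.2.2.2.2.2.2.2.2.2.2.2.2.2.2.2.2.2.2.2.2.2.2.2.2.2.2.2.2.2.2.2.2.2.2.2.2.2.2.2.2.2.2.2.2.2.2.2.2.2.2.2.1
  simp only [com4_11, Nat.beq_eq] at h1
  exact h1

theorem braS5_6 (h : Wide.On fastFix 0 306936) (i : Nat) (hi : i < 306936) : T 5 (T 6 (T 5 i)) = T 6 (T 5 (T 6 i)) := by
  have h1 := (fastFix_spec h i hi).2.2.2.2.2.2.2.2.2.2.2.2.2.2.2.2.2.2.2.2.2.2.2.2.2.2.2.2.2.2.2.2.2.2.2.2.2.2.2.2.2.2.2.2.2.2.2.2.2.2.2.2.2.2.2.2.2.1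
  simp only [bra5_6, force_eq, Nat.beq_eq] at h1
  exact h1

theorem comS5_7 (h : Wide.On fastFix 0 306936) (i : Nat) (hi : i < 306936) : T 7 (T 5 i) = T 5 (T 7 i) := by
  have h1 := (fastFix_spec h i hi).2.2.2.2.2.2.2.2.2.2.2.2.2.2.2.2.2.2.2.2.2.2.2.2.2.2.2.2.2.2.2.2.2.2.2.2.2.2.2.2.2.2.2.2.2.2.2.2.2.2.2.2.2.2.2.2.2.2.1
  simp only [com5_7, Nat.beq_eq] at h1
  exact h1

theorem comS5_8 (h : Wide.On fastFix 0 306936) (i : Nat) (hi : i < 306936) : T 8 (T 5 i) = T 5 (T 8 i) := by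
  have h1 := (fastFix_spec h i hi).2.2.2.2.2.2.2.2.2.2.2.2.2.2.2.2.2.2.2.2.2.2.2.2.2.2.2.2.2.2.2.2.2.2.2.2.2.2.2.2.2.2.2.2.2.2.2.2.2.2.2.2.2.2.2.2.2.2.2.1
  simp only [com5_8, Nat.beq_eq] at h1
  exact h1

theorem comS5_9 (h : Wide.On fastFix 0 306936) (i : Nat) (hi : i < 306936) : T 9 (T 5 i) = T 5 (T 9 i) := by
  have h1 := (fastFix_spec h i hi).2.2.2.2.2.2.2.2.2.2.2.2.2.2.2.2.2.2.2.2.2.2.2.2.2.2.2.2.2.2.2.2.2.2.2.2.2.2.2.2.2.2.2.2.2.2.2.2.2.2.2.2.2.2.2.2.2.2.2.2.1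
  simp only [com5_9, Nat.beq_eq] at h1
  exact h1

theorem comS5_10 (h : Wide.On fastFix 0 306936) (i : Nat) (hi : i < 306936) : T 10 (T 5 i) = T 5 (T 10 i) := by
  have h1 := (fastFix_spec h i hi).2.2.2.2.2.2.2.2.2.2.2.2.2.2.2.2.2.2.2.2.2.2.2.2.2.2.2.2.2.2.2.2.2.2.2.2.2.2.2.2.2.2.2.2.2.2.2.2.2.2.2.2.2.2.2.2.2.2.2.2.2.1
  simp only [com5_10, Nat.beq_eq] at h1
  exact h1

theorem comS5_11 (h : Wide.On fastFix 0 306936) (i : Nat) (hi : i < 306936) : T 11 (T 5 i) = T 5 (T 11 i) := by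
  have h1 := (fastFix_spec h i hi).2.2.2.2.2.2.2.2.2.2.2.2.2.2.2.2.2.2.2.2.2.2.2.2.2.2.2.2.2.2.2.2.2.2.2.2.2.2.2.2.2.2.2.2.2.2.2.2.2.2.2.2.2.2.2.2.2.2.2.2.2.2.1
  simp only [com5_11, Nat.beq_eq] at h1
  exact h1

theorem comS6_7 (h : Wide.On fastFix 0 306936) (i : Nat) (hi : i < 306936) : T 7 (T 6 i) = T 6 (T 7 i) := by
  have h1 := (fastFix_spec h i hi).2.2.2.2.2.2.2.2.2.2.2.2.2.2.2.2.2.2.2.2.2.2.2.2.2.2.2.2.2.2.2.2.2.2.2.2.2.2.2.2.2.2.2.2.2.2.2.2.2.2.2.2.2.2.2.2.2.2.2.2.2.2.2.1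
  simp only [com6_7, Nat.beq_eq] at h1
  exact h1

theorem comS6_8 (h : Wide.On fastFix 0 306936) (i : Nat) (hi : i < 306936) : T 8 (T 6 i) = T 6 (T 8 i) := by
  have h1 := (fastFix_spec h i hi).2.2.2.2.2.2.2.2.2.2.2.2.2.2.2.2.2.2.2.2.2.2.2.2.2.2.2.2.2.2.2.2.2.2.2.2.2.2.2.2.2.2.2.2.2.2.2.2.2.2.2.2.2.2.2.2.2.2.2.2.2.2.2.2.1
  simp only [com6_8, Nat.beq_eq] at h1
  exact h1

theorem braS6_9 (h : Wide.On fastFix 0 306936) (i : Nat) (hi : i < 306936) : T 6 (T 9 (T 6 i)) = T 9 (T 6 (T 9 i)) := by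
  have h1 := (fastFix_spec h i hi).2.2.2.2.2.2.2.2.2.2.2.2.2.2.2.2.2.2.2.2.2.2.2.2.2.2.2.2.2.2.2.2.2.2.2.2.2.2.2.2.2.2.2.2.2.2.2.2.2.2.2.2.2.2.2.2.2.2.2.2.2.2.2.2.2.1
  simp only [bra6_9, force_eq, Nat.beq_eq] at h1
  exact h1

theorem comS6_10 (h : Wide.On fastFix 0 306936) (i : Nat) (hi : i < 306936) : T 10 (T 6 i) = T 6 (T 10 i) := by
  have h1 := (fastFix_spec h i hi).2.2.2.2.2.2.2.2.2.2.2.2.2.2.2.2.2.2.2.2.2.2.2.2.2.2.2.2.2.2.2.2.2.2.2.2.2.2.2.2.2.2.2.2.2.2.2.2.2.2.2.2.2.2.2.2.2.2.2.2.2.2.2.2.2.2.1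
  simp only [com6_10, Nat.beq_eq] at h1
  exact h1

theorem comS6_11 (h : Wide.On fastFix 0 306936) (i : Nat) (hi : i < 306936) : T 11 (T 6 i) = T 6 (T 11 i) := by
  have h1 := (fastFix_spec h i hi).2.2.2.2.2.2.2.2.2.2.2.2.2.2.2.2.2.2.2.2.2.2.2.2.2.2.2.2.2.2.2.2.2.2.2.2.2.2.2.2.2.2.2.2.2.2.2.2.2.2.2.2.2.2.2.2.2.2.2.2.2.2.2.2.2.2.2.1
  simp only [com6_11, Nat.beq_eq] at h1
  exact h1

theorem braS7_8 (h : Wide.On fastFix 0 306936) (i : Nat) (hi : i < 306936) : T 7 (T 8 (T 7 i)) = T 8 (T 7 (T 8 i)) := by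
  have h1 := (fastFix_spec h i hi).2.2.2.2.2.2.2.2.2.2.2.2.2.2.2.2.2.2.2.2.2.2.2.2.2.2.2.2.2.2.2.2.2.2.2.2.2.2.2.2.2.2.2.2.2.2.2.2.2.2.2.2.2.2.2.2.2.2.2.2.2.2.2.2.2.2.2.2.1
  simp only [bra7_8, force_eq, Nat.beq_eq] at h1
  exact h1

theorem comS7_9 (h : Wide.On fastFix 0 306936) (i : Nat) (hi : i < 306936) : T 9 (T 7 i) = T 7 (T 9 i) := by
  have h1 := (fastFix_spec h i hi).2.2.2.2.2.2.2.2.2.2.2.2.2.2.2.2.2.2.2.2.2.2.2.2.2.2.2.2.2.2.2.2.2.2.2.2.2.2.2.2.2.2.2.2.2.2.2.2.2.2.2.2.2.2.2.2.2.2.2.2.2.2.2.2.2.2.2.2.2.1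
  simp only [com7_9, Nat.beq_eq] at h1
  exact h1

theorem comS7_10 (h : Wide.On fastFix 0 306936) (i : Nat) (hi : i < 306936) : T 10 (T 7 i) = T 7 (T 10 i) := by
  have h1 := (fastFix_spec h i hi).2.2.2.2.2.2.2.2.2.2.2.2.2.2.2.2.2.2.2.2.2.2.2.2.2.2.2.2.2.2.2.2.2.2.2.2.2.2.2.2.2.2.2.2.2.2.2.2.2.2.2.2.2.2.2.2.2.2.2.2.2.2.2.2.2.2.2.2.2.2.1
  simp only [com7_10, Nat.beq_eq] at h1
  exact h1

theorem comS7_11 (h : Wide.On fastFix 0 306936) (i : Nat) (hi : i < 306936) : T 11 (T 7 i) = T 7 (T 11 i) := by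
  have h1 := (fastFix_spec h i hi).2.2.2.2.2.2.2.2.2.2.2.2.2.2.2.2.2.2.2.2.2.2.2.2.2.2.2.2.2.2.2.2.2.2.2.2.2.2.2.2.2.2.2.2.2.2.2.2.2.2.2.2.2.2.2.2.2.2.2.2.2.2.2.2.2.2.2.2.2.2.2.1
  simp only [com7_11, Nat.beq_eq] at h1
  exact h1

theorem comS8_9 (h : Wide.On fastFix 0 306936) (i : Nat) (hi : i < 306936) : T 9 (T 8 i) = T 8 (T 9 i) := by
  have h1 := (fastFix_spec h i hi).2.2.2.2.2.2.2.2.2.2.2.2.2.2.2.2.2.2.2.2.2.2.2.2.2.2.2.2.2.2.2.2.2.2.2.2.2.2.2.2.2.2.2.2.2.2.2.2.2.2.2.2.2.2.2.2.2.2.2.2.2.2.2.2.2.2.2.2.2.2.2.2.1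
  simp only [com8_9, Nat.beq_eq] at h1
  exact h1

theorem comS8_10 (h : Wide.On fastFix 0 306936) (i : Nat) (hi : i < 306936) : T 10 (T 8 i) = T 8 (T 10 i) := by
  have h1 := (fastFix_spec h i hi).2.2.2.2.2.2.2.2.2.2.2.2.2.2.2.2.2.2.2.2.2.2.2.2.2.2.2.2.2.2.2.2.2.2.2.2.2.2.2.2.2.2.2.2.2.2.2.2.2.2.2.2.2.2.2.2.2.2.2.2.2.2.2.2.2.2.2.2.2.2.2.2.2.1
  simp only [com8_10, Nat.beq_eq] at h1
  exact h1

theorem comS8_11 (h : Wide.On fastFix 0 306936) (i : Nat) (hi : i < 306936) : T 11 (T 8 i) = T 8 (T 11 i) := by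
  have h1 := (fastFix_spec h i hi).2.2.2.2.2.2.2.2.2.2.2.2.2.2.2.2.2.2.2.2.2.2.2.2.2.2.2.2.2.2.2.2.2.2.2.2.2.2.2.2.2.2.2.2.2.2.2.2.2.2.2.2.2.2.2.2.2.2.2.2.2.2.2.2.2.2.2.2.2.2.2.2.2.2.1
  simp only [com8_11, Nat.beq_eq] at h1
  exact h1

theorem comS9_10 (h : Wide.On fastFix 0 306936) (i : Nat) (hi : i < 306936) : T 10 (T 9 i) = T 9 (T 10 i) := by
  have h1 := (fastFix_spec h i hi).2.2.2.2.2.2.2.2.2.2.2.2.2.2.2.2.2.2.2.2.2.2.2.2.2.2.2.2.2.2.2.2.2.2.2.2.2.2.2.2.2.2.2.2.2.2.2.2.2.2.2.2.2.2.2.2.2.2.2.2.2.2.2.2.2.2.2.2.2.2.2.2.2.2.2.1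
  simp only [com9_10, Nat.beq_eq] at h1
  exact h1

theorem comS9_11 (h : Wide.On fastFix 0 306936) (i : Nat) (hi : i < 306936) : T 11 (T 9 i) = T 9 (T 11 i) := by
  have h1 := (fastFix_spec h i hi).2.2.2.2.2.2.2.2.2.2.2.2.2.2.2.2.2.2.2.2.2.2.2.2.2.2.2.2.2.2.2.2.2.2.2.2.2.2.2.2.2.2.2.2.2.2.2.2.2.2.2.2.2.2.2.2.2.2.2.2.2.2.2.2.2.2.2.2.2.2.2.2.2.2.2.2.1
  simp only [com9_11, Nat.beq_eq] at h1
  exact h1

theorem braS10_11 (h : Wide.On fastFix 0 306936) (i : Nat) (hi : i < 306936) : T 10 (T 11 (T 10 i)) = T 11 (T 10 (T 11 i)) := by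
  have h1 := (fastFix_spec h i hi).2.2.2.2.2.2.2.2.2.2.2.2.2.2.2.2.2.2.2.2.2.2.2.2.2.2.2.2.2.2.2.2.2.2.2.2.2.2.2.2.2.2.2.2.2.2.2.2.2.2.2.2.2.2.2.2.2.2.2.2.2.2.2.2.2.2.2.2.2.2.2.2.2.2.2.2.2.1
  simp only [bra10_11, force_eq, Nat.beq_eq] at h1
  exact h1

theorem cmp7S (h : Wide.On fastFix 0 306936) (i : Nat) (hi : i < 306936) : walkT [7, 5, 4, 3, 2, 1, 0] i = c7 i := by
  have h1 := (fastFix_spec h i hi).2.2.2.2.2.2.2.2.2.2.2.2.2.2.2.2.2.2.2.2.2.2.2.2.2.2.2.2.2.2.2.2.2.2.2.2.2.2.2.2.2.2.2.2.2.2.2.2.2.2.2.2.2.2.2.2.2.2.2.2.2.2.2.2.2.2.2.2.2.2.2.2.2.2.2.2.2.2.1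
  simp only [cmp7, force_eq, Nat.beq_eq] at h1
  exact h1.symm

theorem cmp14S (h : Wide.On fastFix 0 306936) (i : Nat) (hi : i < 306936) : walkT [3, 2, 1, 0, 10, 11, 3, 4, 5, 6, 9, 3, 7, 8] i = c14 i := by
  have h1 := (fastFix_spec h i hi).2.2.2.2.2.2.2.2.2.2.2.2.2.2.2.2.2.2.2.2.2.2.2.2.2.2.2.2.2.2.2.2.2.2.2.2.2.2.2.2.2.2.2.2.2.2.2.2.2.2.2.2.2.2.2.2.2.2.2.2.2.2.2.2.2.2.2.2.2.2.2.2.2.2.2.2.2.2.2.1
  simp only [cmp14, force_eq, Nat.beq_eq] at h1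
  exact h1.symm

theorem rel1S (h : Wide.On fastFix 0 306936) (i : Nat) (hi : i < 306936) : c7^[9] (T 11 i) = i := by
  have h1 := (fastFix_spec h i hi).2.2.2.2.2.2.2.2.2.2.2.2.2.2.2.2.2.2.2.2.2.2.2.2.2.2.2.2.2.2.2.2.2.2.2.2.2.2.2.2.2.2.2.2.2.2.2.2.2.2.2.2.2.2.2.2.2.2.2.2.2.2.2.2.2.2.2.2.2.2.2.2.2.2.2.2.2.2.2.2.1
  simp only [rel1, force_eq, Nat.beq_eq] at h1
  exact h1

theorem rel2S (h : Wide.On fastFix 0 306936) (i : Nat) (hi : i < 306936) : c14^[17] i = i := by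
  have h1 := (fastFix_spec h i hi).2.2.2.2.2.2.2.2.2.2.2.2.2.2.2.2.2.2.2.2.2.2.2.2.2.2.2.2.2.2.2.2.2.2.2.2.2.2.2.2.2.2.2.2.2.2.2.2.2.2.2.2.2.2.2.2.2.2.2.2.2.2.2.2.2.2.2.2.2.2.2.2.2.2.2.2.2.2.2.2.2
  simp only [rel2, force_eq, Nat.beq_eq] at h1
  exact h1

theorem T_valid (h : Wide.On fastFix 0 306936) (i x : Nat) (hi : i < 306936) (hx : x < 12) :
    T x i < 306936 ∧ T x (T x i) = i := by
  interval_cases x
  · exact valS0 h i hi
  · exact valS1 h i hi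
  · exact valS2 h i hi
  · exact valS3 h i hi
  · exact valS4 h i hi
  · exact valS5 h i hi
  · exact valS6 h i hi
  · exact valS7 h i hi
  · exact valS8 h i hi
  · exact valS9 h i hi
  · exact valS10 h i hi
  · exact valS11 h i hi

theorem walkT_lt (h : Wide.On fastFix 0 306936) :
    ∀ w : List Nat, (∀ x ∈ w, x < 12) → ∀ i, i < 306936 → walkT w i < 306936 := by
  intro w
  induction w with
  | nil => exact fun _ i hi => hi
  | cons x w ih =>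
    intro hw i hi
    exact ih (fun y hy => hw y (List.mem_cons_of_mem x hy)) _ (T_valid h i x hi (hw x List.mem_cons_self)).1

theorem walkT_power (h : Wide.On fastFix 0 306936) (w : List Nat) (f : Nat → Nat) (hw : ∀ x ∈ w, x < 12)
    (hf : ∀ i, i < 306936 → walkT w i = f i) :
    ∀ m i, i < 306936 → walkT (List.replicate m w).flatten i = f^[m] i := by
  intro m
  induction m with
  | zero => exact fun i _ => rfl
  | succ m ih =>
    intro i hi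
    rw [List.replicate_succ, List.flatten_cons, walkT_append, ih _ (walkT_lt h w hw i hi), hf i hi,
      Function.iterate_succ_apply]

/-- The permutation of a letter. -/
def perm (h : Wide.On fastFix 0 306936) (x : Nat) : Equiv.Perm (Fin 306936) :=
  if hx : x < 12 then
    { toFun := fun i => ⟨T x i, (T_valid h i x i.2 hx).1⟩
      invFun := fun i => ⟨T x i, (T_valid h i x i.2 hx).1⟩
      left_inv := fun i => Fin.ext (T_valid h i x i.2 hx).2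
      right_inv := fun i => Fin.ext (T_valid h i x i.2 hx).2 }
  else 1

theorem perm_apply (h : Wide.On fastFix 0 306936) (x : Nat) (hx : x < 12) (i : Fin 306936) :
    (perm h x i).val = T x i := by
  unfold perm
  rw [dif_pos hx]
  rfl

theorem perm_sq (h : Wide.On fastFix 0 306936) (x : Nat) : perm h x * perm h x = 1 := by
  unfold perm
  split
  · exact Equiv.ext fun i => Fin.ext (T_valid h i x i.2 (by assumption)).2
  · simp

theorem perm_word (h : Wide.On fastFix 0 306936) :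
    ∀ w : List Nat, (∀ x ∈ w, x < 12) → ∀ i : Fin 306936,
      ((prodw (perm h) w)⁻¹ i).val = walkT w i := by
  intro w
  induction w with
  | nil => intro _ i; simp [prodw, walkT]
  | cons x w ih =>
    intro hw i
    rw [prodw_cons, mul_inv_rev, Equiv.Perm.mul_apply, ih (fun y hy => hw y (List.mem_cons_of_mem x hy)),
      inv_eq_of_mul_eq_one_right (perm_sq h x), perm_apply h x (hw x List.mem_cons_self), walkT_cons]

theorem perm_word_one (h : Wide.On fastFix 0 306936) (w : List Nat) (hw : ∀ x ∈ w, x < 12)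
    (hfix : ∀ i, i < 306936 → walkT w i = i) : prodw (perm h) w = 1 := by
  rw [← inv_eq_one]
  exact Equiv.ext fun i => Fin.ext ((perm_word h w hw i).trans (hfix i i.2))

theorem word0_1 (h : Wide.On fastFix 0 306936) : prodw (perm h) [0, 1, 0, 1, 0, 1] = 1 := by
  refine perm_word_one h _ (by simp) fun i hi => ?_
  show T 1 (T 0 (T 1 (T 0 (T 1 (T 0 i))))) = i
  rw [braS0_1 h i hi, (valS1 h (T 0 (T 1 i)) (valS0 h _ (valS1 h i hi).1).1).2,
    (valS0 h (T 1 i) (valS1 h i hi).1).2, (valS1 h i hi).2]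

theorem word0_2 (h : Wide.On fastFix 0 306936) : prodw (perm h) [0, 2, 0, 2] = 1 := by
  refine perm_word_one h _ (by simp) fun i hi => ?_
  show T 2 (T 0 (T 2 (T 0 i))) = i
  rw [comS0_2 h i hi, (valS0 h (T 2 i) (valS2 h i hi).1).2, (valS2 h i hi).2]

theorem word0_3 (h : Wide.On fastFix 0 306936) : prodw (perm h) [0, 3, 0, 3] = 1 := by
  refine perm_word_one h _ (by simp) fun i hi => ?_
  show T 3 (T 0 (T 3 (T 0 i))) = i
  rw [comS0_3 h i hi, (valS0 h (T 3 i) (valS3 h i hi).1).2, (valS3 h i hi).2]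

theorem word0_4 (h : Wide.On fastFix 0 306936) : prodw (perm h) [0, 4, 0, 4] = 1 := by
  refine perm_word_one h _ (by simp) fun i hi => ?_
  show T 4 (T 0 (T 4 (T 0 i))) = i
  rw [comS0_4 h i hi, (valS0 h (T 4 i) (valS4 h i hi).1).2, (valS4 h i hi).2]

theorem word0_5 (h : Wide.On fastFix 0 306936) : prodw (perm h) [0, 5, 0, 5] = 1 := by
  refine perm_word_one h _ (by simp) fun i hi => ?_
  show T 5 (T 0 (T 5 (T 0 i))) = i
  rw [comS0_5 h i hi, (valS0 h (T 5 i) (valS5 h i hi).1).2, (valS5 h i hi).2]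

theorem word0_6 (h : Wide.On fastFix 0 306936) : prodw (perm h) [0, 6, 0, 6] = 1 := by
  refine perm_word_one h _ (by simp) fun i hi => ?_
  show T 6 (T 0 (T 6 (T 0 i))) = i
  rw [comS0_6 h i hi, (valS0 h (T 6 i) (valS6 h i hi).1).2, (valS6 h i hi).2]

theorem word0_7 (h : Wide.On fastFix 0 306936) : prodw (perm h) [0, 7, 0, 7] = 1 := by
  refine perm_word_one h _ (by simp) fun i hi => ?_
  show T 7 (T 0 (T 7 (T 0 i))) = i
  rw [comS0_7 h i hi, (valS0 h (T 7 i) (valS7 h i hi).1).2, (valS7 h i hi).2]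

theorem word0_8 (h : Wide.On fastFix 0 306936) : prodw (perm h) [0, 8, 0, 8] = 1 := by
  refine perm_word_one h _ (by simp) fun i hi => ?_
  show T 8 (T 0 (T 8 (T 0 i))) = i
  rw [comS0_8 h i hi, (valS0 h (T 8 i) (valS8 h i hi).1).2, (valS8 h i hi).2]

theorem word0_9 (h : Wide.On fastFix 0 306936) : prodw (perm h) [0, 9, 0, 9] = 1 := by
  refine perm_word_one h _ (by simp) fun i hi => ?_
  show T 9 (T 0 (T 9 (T 0 i))) = i
  rw [comS0_9 h i hi, (valS0 h (T 9 i) (valS9 h i hi).1).2, (valS9 h i hi).2]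

theorem word0_10 (h : Wide.On fastFix 0 306936) : prodw (perm h) [0, 10, 0, 10, 0, 10] = 1 := by
  refine perm_word_one h _ (by simp) fun i hi => ?_
  show T 10 (T 0 (T 10 (T 0 (T 10 (T 0 i))))) = i
  rw [braS0_10 h i hi, (valS10 h (T 0 (T 10 i)) (valS0 h _ (valS10 h i hi).1).1).2,
    (valS0 h (T 10 i) (valS10 h i hi).1).2, (valS10 h i hi).2]

theorem word0_11 (h : Wide.On fastFix 0 306936) : prodw (perm h) [0, 11, 0, 11] = 1 := by
  refine perm_word_one h _ (by simp) fun i hi => ?_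
  show T 11 (T 0 (T 11 (T 0 i))) = i
  rw [comS0_11 h i hi, (valS0 h (T 11 i) (valS11 h i hi).1).2, (valS11 h i hi).2]

theorem word1_2 (h : Wide.On fastFix 0 306936) : prodw (perm h) [1, 2, 1, 2, 1, 2] = 1 := by
  refine perm_word_one h _ (by simp) fun i hi => ?_
  show T 2 (T 1 (T 2 (T 1 (T 2 (T 1 i))))) = i
  rw [braS1_2 h i hi, (valS2 h (T 1 (T 2 i)) (valS1 h _ (valS2 h i hi).1).1).2,
    (valS1 h (T 2 i) (valS2 h i hi).1).2, (valS2 h i hi).2]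

theorem word1_3 (h : Wide.On fastFix 0 306936) : prodw (perm h) [1, 3, 1, 3] = 1 := by
  refine perm_word_one h _ (by simp) fun i hi => ?_
  show T 3 (T 1 (T 3 (T 1 i))) = i
  rw [comS1_3 h i hi, (valS1 h (T 3 i) (valS3 h i hi).1).2, (valS3 h i hi).2]

theorem word1_4 (h : Wide.On fastFix 0 306936) : prodw (perm h) [1, 4, 1, 4] = 1 := by
  refine perm_word_one h _ (by simp) fun i hi => ?_
  show T 4 (T 1 (T 4 (T 1 i))) = i
  rw [comS1_4 h i hi, (valS1 h (T 4 i) (valS4 h i hi).1).2, (valS4 h i hi).2]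

theorem word1_5 (h : Wide.On fastFix 0 306936) : prodw (perm h) [1, 5, 1, 5] = 1 := by
  refine perm_word_one h _ (by simp) fun i hi => ?_
  show T 5 (T 1 (T 5 (T 1 i))) = i
  rw [comS1_5 h i hi, (valS1 h (T 5 i) (valS5 h i hi).1).2, (valS5 h i hi).2]

theorem word1_6 (h : Wide.On fastFix 0 306936) : prodw (perm h) [1, 6, 1, 6] = 1 := by
  refine perm_word_one h _ (by simp) fun i hi => ?_
  show T 6 (T 1 (T 6 (T 1 i))) = i
  rw [comS1_6 h i hi, (valS1 h (T 6 i) (valS6 h i hi).1).2, (valS6 h i hi).2]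

theorem word1_7 (h : Wide.On fastFix 0 306936) : prodw (perm h) [1, 7, 1, 7] = 1 := by
  refine perm_word_one h _ (by simp) fun i hi => ?_
  show T 7 (T 1 (T 7 (T 1 i))) = i
  rw [comS1_7 h i hi, (valS1 h (T 7 i) (valS7 h i hi).1).2, (valS7 h i hi).2]

theorem word1_8 (h : Wide.On fastFix 0 306936) : prodw (perm h) [1, 8, 1, 8] = 1 := by
  refine perm_word_one h _ (by simp) fun i hi => ?_
  show T 8 (T 1 (T 8 (T 1 i))) = i
  rw [comS1_8 h i hi, (valS1 h (T 8 i) (valS8 h i hi).1).2, (valS8 h i hi).2]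

theorem word1_9 (h : Wide.On fastFix 0 306936) : prodw (perm h) [1, 9, 1, 9] = 1 := by
  refine perm_word_one h _ (by simp) fun i hi => ?_
  show T 9 (T 1 (T 9 (T 1 i))) = i
  rw [comS1_9 h i hi, (valS1 h (T 9 i) (valS9 h i hi).1).2, (valS9 h i hi).2]

theorem word1_10 (h : Wide.On fastFix 0 306936) : prodw (perm h) [1, 10, 1, 10] = 1 := by
  refine perm_word_one h _ (by simp) fun i hi => ?_
  show T 10 (T 1 (T 10 (T 1 i))) = i
  rw [comS1_10 h i hi, (valS1 h (T 10 i) (valS10 h i hi).1).2, (valS10 h i hi).2]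

theorem word1_11 (h : Wide.On fastFix 0 306936) : prodw (perm h) [1, 11, 1, 11] = 1 := by
  refine perm_word_one h _ (by simp) fun i hi => ?_
  show T 11 (T 1 (T 11 (T 1 i))) = i
  rw [comS1_11 h i hi, (valS1 h (T 11 i) (valS11 h i hi).1).2, (valS11 h i hi).2]

theorem word2_3 (h : Wide.On fastFix 0 306936) : prodw (perm h) [2, 3, 2, 3, 2, 3] = 1 := by
  refine perm_word_one h _ (by simp) fun i hi => ?_
  show T 3 (T 2 (T 3 (T 2 (T 3 (T 2 i))))) = i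
  rw [braS2_3 h i hi, (valS3 h (T 2 (T 3 i)) (valS2 h _ (valS3 h i hi).1).1).2,
    (valS2 h (T 3 i) (valS3 h i hi).1).2, (valS3 h i hi).2]

theorem word2_4 (h : Wide.On fastFix 0 306936) : prodw (perm h) [2, 4, 2, 4] = 1 := by
  refine perm_word_one h _ (by simp) fun i hi => ?_
  show T 4 (T 2 (T 4 (T 2 i))) = i
  rw [comS2_4 h i hi, (valS2 h (T 4 i) (valS4 h i hi).1).2, (valS4 h i hi).2]

theorem word2_5 (h : Wide.On fastFix 0 306936) : prodw (perm h) [2, 5, 2, 5] = 1 := by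
  refine perm_word_one h _ (by simp) fun i hi => ?_
  show T 5 (T 2 (T 5 (T 2 i))) = i
  rw [comS2_5 h i hi, (valS2 h (T 5 i) (valS5 h i hi).1).2, (valS5 h i hi).2]

theorem word2_6 (h : Wide.On fastFix 0 306936) : prodw (perm h) [2, 6, 2, 6] = 1 := by
  refine perm_word_one h _ (by simp) fun i hi => ?_
  show T 6 (T 2 (T 6 (T 2 i))) = i
  rw [comS2_6 h i hi, (valS2 h (T 6 i) (valS6 h i hi).1).2, (valS6 h i hi).2]

theorem word2_7 (h : Wide.On fastFix 0 306936) : prodw (perm h) [2, 7, 2, 7] = 1 := by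
  refine perm_word_one h _ (by simp) fun i hi => ?_
  show T 7 (T 2 (T 7 (T 2 i))) = i
  rw [comS2_7 h i hi, (valS2 h (T 7 i) (valS7 h i hi).1).2, (valS7 h i hi).2]

theorem word2_8 (h : Wide.On fastFix 0 306936) : prodw (perm h) [2, 8, 2, 8] = 1 := by
  refine perm_word_one h _ (by simp) fun i hi => ?_
  show T 8 (T 2 (T 8 (T 2 i))) = i
  rw [comS2_8 h i hi, (valS2 h (T 8 i) (valS8 h i hi).1).2, (valS8 h i hi).2]

theorem word2_9 (h : Wide.On fastFix 0 306936) : prodw (perm h) [2, 9, 2, 9] = 1 := by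
  refine perm_word_one h _ (by simp) fun i hi => ?_
  show T 9 (T 2 (T 9 (T 2 i))) = i
  rw [comS2_9 h i hi, (valS2 h (T 9 i) (valS9 h i hi).1).2, (valS9 h i hi).2]

theorem word2_10 (h : Wide.On fastFix 0 306936) : prodw (perm h) [2, 10, 2, 10] = 1 := by
  refine perm_word_one h _ (by simp) fun i hi => ?_
  show T 10 (T 2 (T 10 (T 2 i))) = i
  rw [comS2_10 h i hi, (valS2 h (T 10 i) (valS10 h i hi).1).2, (valS10 h i hi).2]

theorem word2_11 (h : Wide.On fastFix 0 306936) : prodw (perm h) [2, 11, 2, 11] = 1 := by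
  refine perm_word_one h _ (by simp) fun i hi => ?_
  show T 11 (T 2 (T 11 (T 2 i))) = i
  rw [comS2_11 h i hi, (valS2 h (T 11 i) (valS11 h i hi).1).2, (valS11 h i hi).2]

theorem word3_4 (h : Wide.On fastFix 0 306936) : prodw (perm h) [3, 4, 3, 4, 3, 4] = 1 := by
  refine perm_word_one h _ (by simp) fun i hi => ?_
  show T 4 (T 3 (T 4 (T 3 (T 4 (T 3 i))))) = i
  rw [braS3_4 h i hi, (valS4 h (T 3 (T 4 i)) (valS3 h _ (valS4 h i hi).1).1).2,
    (valS3 h (T 4 i) (valS4 h i hi).1).2, (valS4 h i hi).2]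

theorem word3_5 (h : Wide.On fastFix 0 306936) : prodw (perm h) [3, 5, 3, 5] = 1 := by
  refine perm_word_one h _ (by simp) fun i hi => ?_
  show T 5 (T 3 (T 5 (T 3 i))) = i
  rw [comS3_5 h i hi, (valS3 h (T 5 i) (valS5 h i hi).1).2, (valS5 h i hi).2]

theorem word3_6 (h : Wide.On fastFix 0 306936) : prodw (perm h) [3, 6, 3, 6] = 1 := by
  refine perm_word_one h _ (by simp) fun i hi => ?_
  show T 6 (T 3 (T 6 (T 3 i))) = i
  rw [comS3_6 h i hi, (valS3 h (T 6 i) (valS6 h i hi).1).2, (valS6 h i hi).2]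

theorem word3_7 (h : Wide.On fastFix 0 306936) : prodw (perm h) [3, 7, 3, 7, 3, 7] = 1 := by
  refine perm_word_one h _ (by simp) fun i hi => ?_
  show T 7 (T 3 (T 7 (T 3 (T 7 (T 3 i))))) = i
  rw [braS3_7 h i hi, (valS7 h (T 3 (T 7 i)) (valS3 h _ (valS7 h i hi).1).1).2,
    (valS3 h (T 7 i) (valS7 h i hi).1).2, (valS7 h i hi).2]

theorem word3_8 (h : Wide.On fastFix 0 306936) : prodw (perm h) [3, 8, 3, 8] = 1 := by
  refine perm_word_one h _ (by simp) fun i hi => ?_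
  show T 8 (T 3 (T 8 (T 3 i))) = i
  rw [comS3_8 h i hi, (valS3 h (T 8 i) (valS8 h i hi).1).2, (valS8 h i hi).2]

theorem word3_9 (h : Wide.On fastFix 0 306936) : prodw (perm h) [3, 9, 3, 9] = 1 := by
  refine perm_word_one h _ (by simp) fun i hi => ?_
  show T 9 (T 3 (T 9 (T 3 i))) = i
  rw [comS3_9 h i hi, (valS3 h (T 9 i) (valS9 h i hi).1).2, (valS9 h i hi).2]

theorem word3_10 (h : Wide.On fastFix 0 306936) : prodw (perm h) [3, 10, 3, 10] = 1 := by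
  refine perm_word_one h _ (by simp) fun i hi => ?_
  show T 10 (T 3 (T 10 (T 3 i))) = i
  rw [comS3_10 h i hi, (valS3 h (T 10 i) (valS10 h i hi).1).2, (valS10 h i hi).2]

theorem word3_11 (h : Wide.On fastFix 0 306936) : prodw (perm h) [3, 11, 3, 11] = 1 := by
  refine perm_word_one h _ (by simp) fun i hi => ?_
  show T 11 (T 3 (T 11 (T 3 i))) = i
  rw [comS3_11 h i hi, (valS3 h (T 11 i) (valS11 h i hi).1).2, (valS11 h i hi).2]

theorem word4_5 (h : Wide.On fastFix 0 306936) : prodw (perm h) [4, 5, 4, 5, 4, 5] = 1 := by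
  refine perm_word_one h _ (by simp) fun i hi => ?_
  show T 5 (T 4 (T 5 (T 4 (T 5 (T 4 i))))) = i
  rw [braS4_5 h i hi, (valS5 h (T 4 (T 5 i)) (valS4 h _ (valS5 h i hi).1).1).2,
    (valS4 h (T 5 i) (valS5 h i hi).1).2, (valS5 h i hi).2]

theorem word4_6 (h : Wide.On fastFix 0 306936) : prodw (perm h) [4, 6, 4, 6] = 1 := by
  refine perm_word_one h _ (by simp) fun i hi => ?_
  show T 6 (T 4 (T 6 (T 4 i))) = i
  rw [comS4_6 h i hi, (valS4 h (T 6 i) (valS6 h i hi).1).2, (valS6 h i hi).2]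

theorem word4_7 (h : Wide.On fastFix 0 306936) : prodw (perm h) [4, 7, 4, 7] = 1 := by
  refine perm_word_one h _ (by simp) fun i hi => ?_
  show T 7 (T 4 (T 7 (T 4 i))) = i
  rw [comS4_7 h i hi, (valS4 h (T 7 i) (valS7 h i hi).1).2, (valS7 h i hi).2]

theorem word4_8 (h : Wide.On fastFix 0 306936) : prodw (perm h) [4, 8, 4, 8] = 1 := by
  refine perm_word_one h _ (by simp) fun i hi => ?_
  show T 8 (T 4 (T 8 (T 4 i))) = i
  rw [comS4_8 h i hi, (valS4 h (T 8 i) (valS8 h i hi).1).2, (valS8 h i hi).2]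

theorem word4_9 (h : Wide.On fastFix 0 306936) : prodw (perm h) [4, 9, 4, 9] = 1 := by
  refine perm_word_one h _ (by simp) fun i hi => ?_
  show T 9 (T 4 (T 9 (T 4 i))) = i
  rw [comS4_9 h i hi, (valS4 h (T 9 i) (valS9 h i hi).1).2, (valS9 h i hi).2]

theorem word4_10 (h : Wide.On fastFix 0 306936) : prodw (perm h) [4, 10, 4, 10] = 1 := by
  refine perm_word_one h _ (by simp) fun i hi => ?_
  show T 10 (T 4 (T 10 (T 4 i))) = i
  rw [comS4_10 h i hi, (valS4 h (T 10 i) (valS10 h i hi).1).2, (valS10 h i hi).2]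

theorem word4_11 (h : Wide.On fastFix 0 306936) : prodw (perm h) [4, 11, 4, 11] = 1 := by
  refine perm_word_one h _ (by simp) fun i hi => ?_
  show T 11 (T 4 (T 11 (T 4 i))) = i
  rw [comS4_11 h i hi, (valS4 h (T 11 i) (valS11 h i hi).1).2, (valS11 h i hi).2]

theorem word5_6 (h : Wide.On fastFix 0 306936) : prodw (perm h) [5, 6, 5, 6, 5, 6] = 1 := by
  refine perm_word_one h _ (by simp) fun i hi => ?_
  show T 6 (T 5 (T 6 (T 5 (T 6 (T 5 i))))) = i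
  rw [braS5_6 h i hi, (valS6 h (T 5 (T 6 i)) (valS5 h _ (valS6 h i hi).1).1).2,
    (valS5 h (T 6 i) (valS6 h i hi).1).2, (valS6 h i hi).2]

theorem word5_7 (h : Wide.On fastFix 0 306936) : prodw (perm h) [5, 7, 5, 7] = 1 := by
  refine perm_word_one h _ (by simp) fun i hi => ?_
  show T 7 (T 5 (T 7 (T 5 i))) = i
  rw [comS5_7 h i hi, (valS5 h (T 7 i) (valS7 h i hi).1).2, (valS7 h i hi).2]

theorem word5_8 (h : Wide.On fastFix 0 306936) : prodw (perm h) [5, 8, 5, 8] = 1 := by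
  refine perm_word_one h _ (by simp) fun i hi => ?_
  show T 8 (T 5 (T 8 (T 5 i))) = i
  rw [comS5_8 h i hi, (valS5 h (T 8 i) (valS8 h i hi).1).2, (valS8 h i hi).2]

theorem word5_9 (h : Wide.On fastFix 0 306936) : prodw (perm h) [5, 9, 5, 9] = 1 := by
  refine perm_word_one h _ (by simp) fun i hi => ?_
  show T 9 (T 5 (T 9 (T 5 i))) = i
  rw [comS5_9 h i hi, (valS5 h (T 9 i) (valS9 h i hi).1).2, (valS9 h i hi).2]

theorem word5_10 (h : Wide.On fastFix 0 306936) : prodw (perm h) [5, 10, 5, 10] = 1 := by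
  refine perm_word_one h _ (by simp) fun i hi => ?_
  show T 10 (T 5 (T 10 (T 5 i))) = i
  rw [comS5_10 h i hi, (valS5 h (T 10 i) (valS10 h i hi).1).2, (valS10 h i hi).2]

theorem word5_11 (h : Wide.On fastFix 0 306936) : prodw (perm h) [5, 11, 5, 11] = 1 := by
  refine perm_word_one h _ (by simp) fun i hi => ?_
  show T 11 (T 5 (T 11 (T 5 i))) = i
  rw [comS5_11 h i hi, (valS5 h (T 11 i) (valS11 h i hi).1).2, (valS11 h i hi).2]

theorem word6_7 (h : Wide.On fastFix 0 306936) : prodw (perm h) [6, 7, 6, 7] = 1 := by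
  refine perm_word_one h _ (by simp) fun i hi => ?_
  show T 7 (T 6 (T 7 (T 6 i))) = i
  rw [comS6_7 h i hi, (valS6 h (T 7 i) (valS7 h i hi).1).2, (valS7 h i hi).2]

theorem word6_8 (h : Wide.On fastFix 0 306936) : prodw (perm h) [6, 8, 6, 8] = 1 := by
  refine perm_word_one h _ (by simp) fun i hi => ?_
  show T 8 (T 6 (T 8 (T 6 i))) = i
  rw [comS6_8 h i hi, (valS6 h (T 8 i) (valS8 h i hi).1).2, (valS8 h i hi).2]

theorem word6_9 (h : Wide.On fastFix 0 306936) : prodw (perm h) [6, 9, 6, 9, 6, 9] = 1 := by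
  refine perm_word_one h _ (by simp) fun i hi => ?_
  show T 9 (T 6 (T 9 (T 6 (T 9 (T 6 i))))) = i
  rw [braS6_9 h i hi, (valS9 h (T 6 (T 9 i)) (valS6 h _ (valS9 h i hi).1).1).2,
    (valS6 h (T 9 i) (valS9 h i hi).1).2, (valS9 h i hi).2]

theorem word6_10 (h : Wide.On fastFix 0 306936) : prodw (perm h) [6, 10, 6, 10] = 1 := by
  refine perm_word_one h _ (by simp) fun i hi => ?_
  show T 10 (T 6 (T 10 (T 6 i))) = i
  rw [comS6_10 h i hi, (valS6 h (T 10 i) (valS10 h i hi).1).2, (valS10 h i hi).2]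

theorem word6_11 (h : Wide.On fastFix 0 306936) : prodw (perm h) [6, 11, 6, 11] = 1 := by
  refine perm_word_one h _ (by simp) fun i hi => ?_
  show T 11 (T 6 (T 11 (T 6 i))) = i
  rw [comS6_11 h i hi, (valS6 h (T 11 i) (valS11 h i hi).1).2, (valS11 h i hi).2]

theorem word7_8 (h : Wide.On fastFix 0 306936) : prodw (perm h) [7, 8, 7, 8, 7, 8] = 1 := by
  refine perm_word_one h _ (by simp) fun i hi => ?_
  show T 8 (T 7 (T 8 (T 7 (T 8 (T 7 i))))) = i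
  rw [braS7_8 h i hi, (valS8 h (T 7 (T 8 i)) (valS7 h _ (valS8 h i hi).1).1).2,
    (valS7 h (T 8 i) (valS8 h i hi).1).2, (valS8 h i hi).2]

theorem word7_9 (h : Wide.On fastFix 0 306936) : prodw (perm h) [7, 9, 7, 9] = 1 := by
  refine perm_word_one h _ (by simp) fun i hi => ?_
  show T 9 (T 7 (T 9 (T 7 i))) = i
  rw [comS7_9 h i hi, (valS7 h (T 9 i) (valS9 h i hi).1).2, (valS9 h i hi).2]

theorem word7_10 (h : Wide.On fastFix 0 306936) : prodw (perm h) [7, 10, 7, 10] = 1 := by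
  refine perm_word_one h _ (by simp) fun i hi => ?_
  show T 10 (T 7 (T 10 (T 7 i))) = i
  rw [comS7_10 h i hi, (valS7 h (T 10 i) (valS10 h i hi).1).2, (valS10 h i hi).2]

theorem word7_11 (h : Wide.On fastFix 0 306936) : prodw (perm h) [7, 11, 7, 11] = 1 := by
  refine perm_word_one h _ (by simp) fun i hi => ?_
  show T 11 (T 7 (T 11 (T 7 i))) = i
  rw [comS7_11 h i hi, (valS7 h (T 11 i) (valS11 h i hi).1).2, (valS11 h i hi).2]

theorem word8_9 (h : Wide.On fastFix 0 306936) : prodw (perm h) [8, 9, 8, 9] = 1 := by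
  refine perm_word_one h _ (by simp) fun i hi => ?_
  show T 9 (T 8 (T 9 (T 8 i))) = i
  rw [comS8_9 h i hi, (valS8 h (T 9 i) (valS9 h i hi).1).2, (valS9 h i hi).2]

theorem word8_10 (h : Wide.On fastFix 0 306936) : prodw (perm h) [8, 10, 8, 10] = 1 := by
  refine perm_word_one h _ (by simp) fun i hi => ?_
  show T 10 (T 8 (T 10 (T 8 i))) = i
  rw [comS8_10 h i hi, (valS8 h (T 10 i) (valS10 h i hi).1).2, (valS10 h i hi).2]

theorem word8_11 (h : Wide.On fastFix 0 306936) : prodw (perm h) [8, 11, 8, 11] = 1 := by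
  refine perm_word_one h _ (by simp) fun i hi => ?_
  show T 11 (T 8 (T 11 (T 8 i))) = i
  rw [comS8_11 h i hi, (valS8 h (T 11 i) (valS11 h i hi).1).2, (valS11 h i hi).2]

theorem word9_10 (h : Wide.On fastFix 0 306936) : prodw (perm h) [9, 10, 9, 10] = 1 := by
  refine perm_word_one h _ (by simp) fun i hi => ?_
  show T 10 (T 9 (T 10 (T 9 i))) = i
  rw [comS9_10 h i hi, (valS9 h (T 10 i) (valS10 h i hi).1).2, (valS10 h i hi).2]

theorem word9_11 (h : Wide.On fastFix 0 306936) : prodw (perm h) [9, 11, 9, 11] = 1 := by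
  refine perm_word_one h _ (by simp) fun i hi => ?_
  show T 11 (T 9 (T 11 (T 9 i))) = i
  rw [comS9_11 h i hi, (valS9 h (T 11 i) (valS11 h i hi).1).2, (valS11 h i hi).2]

theorem word10_11 (h : Wide.On fastFix 0 306936) : prodw (perm h) [10, 11, 10, 11, 10, 11] = 1 := by
  refine perm_word_one h _ (by simp) fun i hi => ?_
  show T 11 (T 10 (T 11 (T 10 (T 11 (T 10 i))))) = i
  rw [braS10_11 h i hi, (valS11 h (T 10 (T 11 i)) (valS10 h _ (valS11 h i hi).1).1).2,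
    (valS10 h (T 11 i) (valS11 h i hi).1).2, (valS11 h i hi).2]

theorem word_rel1 (h : Wide.On fastFix 0 306936) :
    prodw (perm h) ([11] ++ (List.replicate 9 [7, 5, 4, 3, 2, 1, 0]).flatten) = 1 := by
  refine perm_word_one h _ (by decide +kernel) fun i hi => ?_
  rw [walkT_append, walkT_power h _ c7 (by decide) (fun j hj => cmp7S h j hj) 9 _
    (walkT_lt h [11] (by decide) i hi)]
  exact rel1S h i hi

theorem word_rel2 (h : Wide.On fastFix 0 306936) :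
    prodw (perm h) (List.replicate 17 [3, 2, 1, 0, 10, 11, 3, 4, 5, 6, 9, 3, 7, 8]).flatten = 1 := by
  refine perm_word_one h _ (by decide +kernel) fun i hi => ?_
  rw [walkT_power h _ c14 (by decide) (fun j hj => cmp14S h j hj) 17 i hi]
  exact rel2S h i hi

/-- The action on the cosets as a homomorphism. -/
theorem exists_perm_hom (h : Wide.On fastFix 0 306936) :
    ∃ φ : Fi24.setup.Grp →* Equiv.Perm (Fin 306936), ∀ x, x < 12 → φ (Fi24.setup.g x) = perm h x := by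
  refine Fi24.setup.exists_hom (perm h) (fun x _ => perm_sq h x) fun w hw => ?_
  change w ∈ Fi24.words at hw
  simp only [Fi24.words, List.mem_cons, List.not_mem_nil, or_false] at hw
  rcases hw with rfl | rfl | rfl | rfl | rfl | rfl | rfl | rfl | rfl | rfl | rfl | rfl | rfl | rfl | rfl | rfl | rfl | rfl | rfl | rfl | rfl | rfl | rfl | rfl | rfl | rfl | rfl | rfl | rfl | rfl | rfl | rfl | rfl | rfl | rfl | rfl | rfl | rfl | rfl | rfl | rfl | rfl | rfl | rfl | rfl | rfl | rfl | rfl | rfl | rfl | rfl | rfl | rfl | rfl | rfl | rfl | rfl | rfl | rfl | rfl | rfl | rfl | rfl | rfl | rfl | rfl | rfl | rfl | rfl | rfl | rfl | rfl | rfl | rfl | rfl | rfl | rfl | rfl | rfl | rfl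
  · simpa [prodw] using perm_sq h 0
  · exact word0_1 h
  · exact word0_2 h
  · exact word0_3 h
  · exact word0_4 h
  · exact word0_5 h
  · exact word0_6 h
  · exact word0_7 h
  · exact word0_8 h
  · exact word0_9 h
  · exact word0_10 h
  · exact word0_11 h
  · simpa [prodw] using perm_sq h 1
  · exact word1_2 h
  · exact word1_3 h
  · exact word1_4 h
  · exact word1_5 h
  · exact word1_6 h
  · exact word1_7 h
  · exact word1_8 h
  · exact word1_9 h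
  · exact word1_10 h
  · exact word1_11 h
  · simpa [prodw] using perm_sq h 2
  · exact word2_3 h
  · exact word2_4 h
  · exact word2_5 h
  · exact word2_6 h
  · exact word2_7 h
  · exact word2_8 h
  · exact word2_9 h
  · exact word2_10 h
  · exact word2_11 h
  · simpa [prodw] using perm_sq h 3
  · exact word3_4 h
  · exact word3_5 h
  · exact word3_6 h
  · exact word3_7 h
  · exact word3_8 h
  · exact word3_9 h
  · exact word3_10 h
  · exact word3_11 h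
  · simpa [prodw] using perm_sq h 4
  · exact word4_5 h
  · exact word4_6 h
  · exact word4_7 h
  · exact word4_8 h
  · exact word4_9 h
  · exact word4_10 h
  · exact word4_11 h
  · simpa [prodw] using perm_sq h 5
  · exact word5_6 h
  · exact word5_7 h
  · exact word5_8 h
  · exact word5_9 h
  · exact word5_10 h
  · exact word5_11 h
  · simpa [prodw] using perm_sq h 6
  · exact word6_7 h
  · exact word6_8 h
  · exact word6_9 h
  · exact word6_10 h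
  · exact word6_11 h
  · simpa [prodw] using perm_sq h 7
  · exact word7_8 h
  · exact word7_9 h
  · exact word7_10 h
  · exact word7_11 h
  · simpa [prodw] using perm_sq h 8
  · exact word8_9 h
  · exact word8_10 h
  · exact word8_11 h
  · simpa [prodw] using perm_sq h 9
  · exact word9_10 h
  · exact word9_11 h
  · simpa [prodw] using perm_sq h 10
  · exact word10_11 h
  · simpa [prodw] using perm_sq h 11
  · exact word_rel1 h
  · exact word_rel2 h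

end

end CfsgLib.CosetEnum.Fi24H
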