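import Cfsg.Agent.CosetEnum.Wide.Engine
import Cfsg.Agent.CosetEnum.Fi24H.Parent
import Cfsg.Agent.CosetEnum.Fi24H.Table0
import Cfsg.Agent.CosetEnum.Fi24H.Table1
import Cfsg.Agent.CosetEnum.Fi24H.Table2
import Cfsg.Agent.CosetEnum.Fi24H.Table3
import Cfsg.Agent.CosetEnum.Fi24H.Table4
import Cfsg.Agent.CosetEnum.Fi24H.Table5
import Cfsg.Agent.CosetEnum.Fi24H.Table6
import Cfsg.Agent.CosetEnum.Fi24H.Table7
import Cfsg.Agent.CosetEnum.Fi24H.Table8
import Cfsg.Agent.CosetEnum.Fi24H.Table9
import Cfsg.Agent.CosetEnum.Fi24H.Table10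
import Cfsg.Agent.CosetEnum.Fi24H.Table11

set_option autoImplicit false
set_option maxRecDepth 100000
set_option Elab.async false

/-! The table (generated certificate). -/

namespace CfsgLib.CosetEnum.Fi24H

noncomputable section

/-- Entries at every letter. -/
def E (x i : Nat) : Nat := (bif Nat.blt x 6 then (bif Nat.blt x 3 then (bif Nat.blt x 1 then e0 i else (bif Nat.blt x 2 then e1 i else e2 i)) else (bif Nat.blt x 4 then e3 i else (bif Nat.blt x 5 then e4 i else e5 i))) else (bif Nat.blt x 9 then (bif Nat.blt x 7 then e6 i else (bif Nat.blt x 8 then e7 i else e8 i)) else (bif Nat.blt x 10 then e9 i else (bif Nat.blt x 11 then e10 i else e11 i))))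

/-- The images under letter 0. -/
def u0 (i : Nat) : Nat := Wide.img (e0 i)

/-- The images under letter 1. -/
def u1 (i : Nat) : Nat := Wide.img (e1 i)

/-- The images under letter 2. -/
def u2 (i : Nat) : Nat := Wide.img (e2 i)

/-- The images under letter 3. -/
def u3 (i : Nat) : Nat := Wide.img (e3 i)

/-- The images under letter 4. -/
def u4 (i : Nat) : Nat := Wide.img (e4 i)

/-- The images under letter 5. -/
def u5 (i : Nat) : Nat := Wide.img (e5 i)

/-- The images under letter 6. -/
def u6 (i : Nat) : Nat := Wide.img (e6 i)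

/-- The images under letter 7. -/
def u7 (i : Nat) : Nat := Wide.img (e7 i)

/-- The images under letter 8. -/
def u8 (i : Nat) : Nat := Wide.img (e8 i)

/-- The images under letter 9. -/
def u9 (i : Nat) : Nat := Wide.img (e9 i)

/-- The images under letter 10. -/
def u10 (i : Nat) : Nat := Wide.img (e10 i)

/-- The images under letter 11. -/
def u11 (i : Nat) : Nat := Wide.img (e11 i)

theorem u0_eq (i : Nat) : Wide.img (E 0 i) = u0 i := rfl

theorem u1_eq (i : Nat) : Wide.img (E 1 i) = u1 i := rfl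

theorem u2_eq (i : Nat) : Wide.img (E 2 i) = u2 i := rfl

theorem u3_eq (i : Nat) : Wide.img (E 3 i) = u3 i := rfl

theorem u4_eq (i : Nat) : Wide.img (E 4 i) = u4 i := rfl

theorem u5_eq (i : Nat) : Wide.img (E 5 i) = u5 i := rfl

theorem u6_eq (i : Nat) : Wide.img (E 6 i) = u6 i := rfl

theorem u7_eq (i : Nat) : Wide.img (E 7 i) = u7 i := rfl

theorem u8_eq (i : Nat) : Wide.img (E 8 i) = u8 i := rfl

theorem u9_eq (i : Nat) : Wide.img (E 9 i) = u9 i := rfl

theorem u10_eq (i : Nat) : Wide.img (E 10 i) = u10 i := rfl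

theorem u11_eq (i : Nat) : Wide.img (E 11 i) = u11 i := rfl

end

end CfsgLib.CosetEnum.Fi24H
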