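import Cfsg.Agent.CosetEnum.Fi24H.Table

set_option autoImplicit false
set_option maxRecDepth 100000
set_option Elab.async false

/-! tree, part 0 (generated certificate). -/

namespace CfsgLib.CosetEnum.Fi24H

noncomputable section

theorem tree0 : allR (Wide.treeOK 306936 12 E par) 11 0 = true := by decide +kernel

theorem tree1 : allR (Wide.treeOK 306936 12 E par) 11 2048 = true := by decide +kernel

theorem tree2 : allR (Wide.treeOK 306936 12 E par) 11 4096 = true := by decide +kernel

theorem tree3 : allR (Wide.treeOK 306936 12 E par) 11 6144 = true := by decide +kernel

theorem tree4 : allR (Wide.treeOK 306936 12 E par) 11 8192 = true := by decide +kernel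

theorem tree5 : allR (Wide.treeOK 306936 12 E par) 11 10240 = true := by decide +kernel

theorem tree6 : allR (Wide.treeOK 306936 12 E par) 11 12288 = true := by decide +kernel

theorem tree7 : allR (Wide.treeOK 306936 12 E par) 11 14336 = true := by decide +kernel

theorem tree8 : allR (Wide.treeOK 306936 12 E par) 11 16384 = true := by decide +kernel

theorem tree9 : allR (Wide.treeOK 306936 12 E par) 11 18432 = true := by decide +kernel

theorem tree10 : allR (Wide.treeOK 306936 12 E par) 11 20480 = true := by decide +kernel

theorem tree11 : allR (Wide.treeOK 306936 12 E par) 11 22528 = true := by decide +kernel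

theorem tree12 : allR (Wide.treeOK 306936 12 E par) 11 24576 = true := by decide +kernel

theorem tree13 : allR (Wide.treeOK 306936 12 E par) 11 26624 = true := by decide +kernel

theorem tree14 : allR (Wide.treeOK 306936 12 E par) 11 28672 = true := by decide +kernel

theorem tree15 : allR (Wide.treeOK 306936 12 E par) 11 30720 = true := by decide +kernel

theorem tree16 : allR (Wide.treeOK 306936 12 E par) 11 32768 = true := by decide +kernel

theorem tree17 : allR (Wide.treeOK 306936 12 E par) 11 34816 = true := by decide +kernel

theorem tree18 : allR (Wide.treeOK 306936 12 E par) 11 36864 = true := by decide +kernel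

theorem tree19 : allR (Wide.treeOK 306936 12 E par) 11 38912 = true := by decide +kernel

theorem tree20 : allR (Wide.treeOK 306936 12 E par) 11 40960 = true := by decide +kernel

theorem tree21 : allR (Wide.treeOK 306936 12 E par) 11 43008 = true := by decide +kernel

theorem tree22 : allR (Wide.treeOK 306936 12 E par) 11 45056 = true := by decide +kernel

theorem tree23 : allR (Wide.treeOK 306936 12 E par) 11 47104 = true := by decide +kernel

theorem tree24 : allR (Wide.treeOK 306936 12 E par) 11 49152 = true := by decide +kernel

theorem tree25 : allR (Wide.treeOK 306936 12 E par) 11 51200 = true := by decide +kernel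

theorem tree26 : allR (Wide.treeOK 306936 12 E par) 11 53248 = true := by decide +kernel

theorem tree27 : allR (Wide.treeOK 306936 12 E par) 11 55296 = true := by decide +kernel

theorem tree28 : allR (Wide.treeOK 306936 12 E par) 11 57344 = true := by decide +kernel

theorem tree29 : allR (Wide.treeOK 306936 12 E par) 11 59392 = true := by decide +kernel

theorem tree30 : allR (Wide.treeOK 306936 12 E par) 11 61440 = true := by decide +kernel

theorem tree31 : allR (Wide.treeOK 306936 12 E par) 11 63488 = true := by decide +kernel

theorem tree32 : allR (Wide.treeOK 306936 12 E par) 11 65536 = true := by decide +kernel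

theorem tree33 : allR (Wide.treeOK 306936 12 E par) 11 67584 = true := by decide +kernel

theorem tree34 : allR (Wide.treeOK 306936 12 E par) 11 69632 = true := by decide +kernel

theorem tree35 : allR (Wide.treeOK 306936 12 E par) 11 71680 = true := by decide +kernel

theorem tree36 : allR (Wide.treeOK 306936 12 E par) 11 73728 = true := by decide +kernel

theorem tree37 : allR (Wide.treeOK 306936 12 E par) 11 75776 = true := by decide +kernel

theorem tree38 : allR (Wide.treeOK 306936 12 E par) 11 77824 = true := by decide +kernel

theorem tree39 : allR (Wide.treeOK 306936 12 E par) 11 79872 = true := by decide +kernel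

theorem tree40 : allR (Wide.treeOK 306936 12 E par) 11 81920 = true := by decide +kernel

theorem tree41 : allR (Wide.treeOK 306936 12 E par) 11 83968 = true := by decide +kernel

theorem tree42 : allR (Wide.treeOK 306936 12 E par) 11 86016 = true := by decide +kernel

theorem tree43 : allR (Wide.treeOK 306936 12 E par) 11 88064 = true := by decide +kernel

theorem tree44 : allR (Wide.treeOK 306936 12 E par) 11 90112 = true := by decide +kernel

theorem tree45 : allR (Wide.treeOK 306936 12 E par) 11 92160 = true := by decide +kernel

theorem tree46 : allR (Wide.treeOK 306936 12 E par) 11 94208 = true := by decide +kernel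

theorem tree47 : allR (Wide.treeOK 306936 12 E par) 11 96256 = true := by decide +kernel

theorem tree48 : allR (Wide.treeOK 306936 12 E par) 11 98304 = true := by decide +kernel

theorem tree49 : allR (Wide.treeOK 306936 12 E par) 11 100352 = true := by decide +kernel

theorem tree_on0 : Wide.On (Wide.treeOK 306936 12 E par) 0 102400 :=
  (((((((((((((((((((((((((((((((((((((((((((((((((Wide.On.of_allR tree0).append (Wide.On.of_allR tree1)).append (Wide.On.of_allR tree2)).append (Wide.On.of_allR tree3)).append (Wide.On.of_allR tree4)).append (Wide.On.of_allR tree5)).append (Wide.On.of_allR tree6)).append (Wide.On.of_allR tree7)).append (Wide.On.of_allR tree8)).append (Wide.On.of_allR tree9)).append (Wide.On.of_allR tree10)).append (Wide.On.of_allR tree11)).append (Wide.On.of_allR tree12)).append (Wide.On.of_allR tree13)).append (Wide.On.of_allR tree14)).append (Wide.On.of_allR tree15)).append (Wide.On.of_allR tree16)).append (Wide.On.of_allR tree17)).append (Wide.On.of_allR tree18)).append (Wide.On.of_allR tree19)).append (Wide.On.of_allR tree20)).append (Wide.On.of_allR tree21)).append (Wide.On.of_allR tree22)).append (Wide.On.of_allR tree23)).append (Wide.On.of_allR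 tree24)).append (Wide.On.of_allR tree25)).append (Wide.On.of_allR tree26)).append (Wide.On.of_allR tree27)).append (Wide.On.of_allR tree28)).append (Wide.On.of_allR tree29)).append (Wide.On.of_allR tree30)).append (Wide.On.of_allR tree31)).append (Wide.On.of_allR tree32)).append (Wide.On.of_allR tree33)).append (Wide.On.of_allR tree34)).append (Wide.On.of_allR tree35)).append (Wide.On.of_allR tree36)).append (Wide.On.of_allR tree37)).append (Wide.On.of_allR tree38)).append (Wide.On.of_allR tree39)).append (Wide.On.of_allR tree40)).append (Wide.On.of_allR tree41)).append (Wide.On.of_allR tree42)).append (Wide.On.of_allR tree43)).append (Wide.On.of_allR tree44)).append (Wide.On.of_allR tree45)).append (Wide.On.of_allR tree46)).append (Wide.On.of_allR tree47)).append (Wide.On.of_allR tree48)).append (Wide.On.of_allR tree49)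

end

end CfsgLib.CosetEnum.Fi24H
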